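import Cfsg.Agent.H126.PwO.FiveThree_m3
import Cfsg.Agent.H841.TwG_m3
import Cfsg.Agent.H126.PwO.Nu_m3
import Cfsg.Agent.Lib.ListFast
import Mathlib
import Cfsg.Agent.H953.Rcf
import Cfsg.Agent.H130.War.RankLe
import Cfsg.Agent.H952.F4.TorDiag_m3
import Cfsg.Agent.H952.F4.Scott_m3
import Cfsg.Agent.H633.Ore.Lin
import Cfsg.Agent.H701.F43.Cent
import Cfsg.Agent.KFacts.RgdFiltChev
import Cfsg.Agent.FastGrp
import Cfsg.Agent.Prune
set_option linter.all false

section
prune_inst 0x7ffdacf8bfbcf9dfdf7f7e7faedcddfc39921fffa4dff94bffe063ff2b9f238009c5f3ad01e010fe0ed6c01410a87803f9ffceffea6bdc7ffffd5ff41ffbee0fe5f7b508119488340fb40ffe03f0778e7f3fffffffffffffffffffffffffffbeffbfffffffff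

-- part: H122/Pw/FourThree
section
set_option linter.all false
open scoped Cfsg.Agent.FastGrp

/-!
# `SL_4(3)`: which elements are products of two elements of order `5` (helper122, S2465)

Generated certificates.  An element `A` of `SL_4(3)` which is neither `-1` nor a transvection is `X Y` with `X`, `Y` of
characteristic polynomial `X ^ 4 + X ^ 3 + X ^ 2 + X + 1`.
-/

set_option autoImplicit false
set_option maxRecDepth 100000

namespace Cfsg.Agent.H122.Pw.Four

open Matrix Polynomial Cfsg.Agent.H934.MF Cfsg.Agent.H126.PwO.Cert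

/-- lower coefficients of the fifth cyclotomic polynomial -/
def lF : List ℕ := [1, 1, 1, 1]

/-- lower coefficients, determinant `-1` -/
def lG : List ℕ := [2, 0, 1, 0]

/-- check of one certificate -/
def okC (b c w : ℕ) : Bool :=
  mulR 3 4 (unM 3 4 (w % 4294967296)) (unM 3 4 (w / 4294967296)) == rowsB 3 4 b c &&
    (kr 3 4 (unM 3 4 (w % 4294967296)) lF (e1 4) (z0 4) &&
      (kr 3 4 (unM 3 4 (w / 4294967296)) lF (e1 4) (z0 4) || kr 3 4 (unM 3 4 (w / 4294967296)) lG (e1 4) (z0 4)))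

/-- the starts of the blocks have nonzero digits -/
def stOK (b c : ℕ) : Bool := (List.range 4).all fun i => decide ((i = 0 ∨ b.testBit (i - 1) = true) → dg 3 c i ≠ 0)

/-- the exceptions -/
def ex (b c : ℕ) : Bool :=
  (b == 15 && c == 80) || ((b == 14 && c == 44) || ((b == 13 && c == 52) || (b == 11 && c == 76)))

/-- check of the certificates of all `c` -/
def chkC (b : ℕ) : List ℕ → List ℕ → Bool
  | [], _ => true
  | c :: cs, [] => (!stOK b c || ex b c) && chkC b cs []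
  | c :: cs, w :: ws => if stOK b c = true then (if ex b c = true then chkC b cs (w :: ws) else okC b c w && chkC b cs ws)
      else chkC b cs (w :: ws)

theorem chkC_spec {b : ℕ} : ∀ (cs ws : List ℕ), chkC b cs ws = true → ∀ c ∈ cs, stOK b c = true → ex b c = false →
    ∃ w, okC b c w = true
  | [], _, _, c, hc, _, _ => absurd hc List.not_mem_nil
  | c₀ :: cs, [], h, c, hc, h1, h2 => by
    rw [chkC, Bool.and_eq_true] at h
    rcases List.mem_cons.1 hc with rfl | hc
    · rw [h1, h2] at h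
      exact absurd h.1 (by decide)
    · exact chkC_spec cs [] h.2 c hc h1 h2
  | c₀ :: cs, w :: ws, h, c, hc, h1, h2 => by
    rw [chkC] at h
    by_cases h3 : stOK b c₀ = true
    · rw [if_pos h3] at h
      by_cases h4 : ex b c₀ = true
      · rw [if_pos h4] at h
        rcases List.mem_cons.1 hc with rfl | hc
        · rw [h4] at h2; exact Bool.noConfusion h2
        · exact chkC_spec cs _ h c hc h1 h2
      · rw [if_neg h4, Bool.and_eq_true] at h
        rcases List.mem_cons.1 hc with rfl | hc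
        · exact ⟨w, h.1⟩
        · exact chkC_spec cs ws h.2 c hc h1 h2
    · rw [if_neg h3] at h
      rcases List.mem_cons.1 hc with rfl | hc
      · exact absurd h1 h3
      · exact chkC_spec cs _ h c hc h1 h2

/-- certificates -/
def t8 : List ℕ := [
  1098108672787893012, 4757802652963519288, 1022049054395481348, 74397625755382033, 3330722090458296135,
  3980061742037539662, 3762792780989745437, 943836317170878486, 1816144883255365439, 5271534025194607409,
  3244083009401858624, 237007720648218448, 3694110747324532792, 5207648998278052172, 5351992893010091341,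
  453235495103893774, 4488989653162405381, 224397228765745679, 2746382465511788312, 650007301061946433, 3468958258075222066,
  4259047647388122642, 5767501618128358476, 4972320563069797435, 3249414515731542059, 1885659268026481441,
  4846463951120710698, 1815873287040740378, 2826619292323611979, 3337186222781302858, 4828444080601961006,
  5485986904332640050, 2827749393124763457, 3830673506917159744, 937669212372353312, 88953957703107882, 1021803789616877374,
  3471777394142427970, 5698185189074809864, 1874665393547590922, 369913361821473828, 149507215751335705,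
  4767938969289895493, 5065223716017159476, 3624874371288681221, 1241324679626097191, 1317030418535883595,
  5261379961846059072, 4113796492791857988, 3398612506015697924, 5052762908075244334, 4398915414244993843,
  4688598085204256815, 879361143863645749]

private noncomputable def _root_.Cfsg.Agent.LsF.f2c1b1e_0 : {f // @Cfsg.Agent.H126.PwO.Cert.dg = f} := ⟨_, by first | (delta Cfsg.Agent.H126.PwO.Cert.dg; rewrite [Cfsg.Agent.LsF.ndiv_pat, Cfsg.Agent.LsF.nmod_pat, Cfsg.Agent.LsF.npow_pat]; exact rfl) | exact rfl⟩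
private noncomputable def _root_.Cfsg.Agent.LsF.f2c1b1e_1 : {f // @Cfsg.Agent.H122.Pw.Four.stOK = f} := ⟨_, by first | (delta Cfsg.Agent.H122.Pw.Four.stOK; rewrite [Cfsg.Agent.LsF.f2c1b1e_0.2, Cfsg.Agent.LsF.nsub_pat, Cfsg.Agent.LsF.instDecEq_eq, Cfsg.Agent.LsF.testBit_eq, Cfsg.Agent.LsF.all_eq, Cfsg.Agent.LsF.range_eq, Cfsg.Agent.LsF.dOr_eq, Cfsg.Agent.LsF.dNot_eq, Cfsg.Agent.LsF.dBoolEq_eq, Cfsg.Agent.LsF.decide_eq]; exact rfl) | exact rfl⟩
private noncomputable def _root_.Cfsg.Agent.LsF.f2c1b1e_2 : {f // @Cfsg.Agent.H122.Pw.Four.ex = f} := ⟨_, by first | (delta Cfsg.Agent.H122.Pw.Four.ex; rewrite [Cfsg.Agent.LsF.nbeq_pat, Cfsg.Agent.LsF.and_eq, Cfsg.Agent.LsF.or_eq]; exact rfl) | exact rfl⟩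
private noncomputable def _root_.Cfsg.Agent.LsF.f2c1b1e_3 : {f // @Cfsg.Agent.H126.PwO.Cert.zw = f} := ⟨_, by first | (delta Cfsg.Agent.H126.PwO.Cert.zw; rewrite [Cfsg.Agent.LsF.nadd_pat, Cfsg.Agent.LsF.nmul_pat, Cfsg.Agent.LsF.nmod_pat, Cfsg.Agent.LsF.zipWith_eq]; exact rfl) | exact rfl⟩
private noncomputable def _root_.Cfsg.Agent.LsF.f2c1b1e_4 : {f // @Cfsg.Agent.H126.PwO.Cert.vm = f} := ⟨_, by first | (delta Cfsg.Agent.H126.PwO.Cert.vm List.brecOn List.brecOn.go Cfsg.Agent.H126.PwO.Cert.vm._f; rewrite [Cfsg.Agent.LsF.f2c1b1e_3.2]; (try delta Cfsg.Agent.H126.PwO.Cert.vm.match_1); (try delta Cfsg.Agent.H126.PwO.Cert.vm._sparseCasesOn_1); first | dsimp -zeta only | exact rfl) | exact rfl⟩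
private noncomputable def _root_.Cfsg.Agent.LsF.f2c1b1e_5 : {f // @Cfsg.Agent.H126.PwO.Cert.z0 = f} := ⟨_, by first | (delta Cfsg.Agent.H126.PwO.Cert.z0; rewrite [Cfsg.Agent.LsF.replicate_eq]; exact rfl) | exact rfl⟩
private noncomputable def _root_.Cfsg.Agent.LsF.f2c1b1e_6 : {f // @Cfsg.Agent.H126.PwO.Cert.mulR = f} := ⟨_, by first | (delta Cfsg.Agent.H126.PwO.Cert.mulR; rewrite [Cfsg.Agent.LsF.f2c1b1e_4.2, Cfsg.Agent.LsF.f2c1b1e_5.2, Cfsg.Agent.LsF.map_eq]; exact rfl) | exact rfl⟩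
private noncomputable def _root_.Cfsg.Agent.LsF.f2c1b1e_7 : {f // @Cfsg.Agent.H126.PwO.Cert.unR = f} := ⟨_, by first | (delta Cfsg.Agent.H126.PwO.Cert.unR; rewrite [Cfsg.Agent.LsF.f2c1b1e_0.2, Cfsg.Agent.LsF.map_eq, Cfsg.Agent.LsF.range_eq]; exact rfl) | exact rfl⟩
private noncomputable def _root_.Cfsg.Agent.LsF.f2c1b1e_8 : {f // @Cfsg.Agent.H126.PwO.Cert.unM = f} := ⟨_, by first | (delta Cfsg.Agent.H126.PwO.Cert.unM; rewrite [Cfsg.Agent.LsF.f2c1b1e_7.2, Cfsg.Agent.LsF.ndiv_pat, Cfsg.Agent.LsF.nmod_pat, Cfsg.Agent.LsF.npow_pat, Cfsg.Agent.LsF.map_eq, Cfsg.Agent.LsF.range_eq]; exact rfl) | exact rfl⟩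
private noncomputable def _root_.Cfsg.Agent.LsF.f2c1b1e_9 : {f // @Cfsg.Agent.H126.PwO.Cert.ent = f} := ⟨_, by first | (delta Cfsg.Agent.H126.PwO.Cert.ent; rewrite [Cfsg.Agent.LsF.f2c1b1e_0.2, Cfsg.Agent.LsF.nadd_pat, Cfsg.Agent.LsF.instDecEq_eq, Cfsg.Agent.LsF.decLe_eq, Cfsg.Agent.LsF.decLt_eq, Cfsg.Agent.LsF.testBit_eq, Cfsg.Agent.LsF.all_eq, Cfsg.Agent.LsF.range_eq, Cfsg.Agent.LsF.dAnd_eq, Cfsg.Agent.LsF.dBoolEq_eq, Cfsg.Agent.LsF.ite_eq, Cfsg.Agent.LsF.decide_eq]; exact rfl) | exact rfl⟩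
private noncomputable def _root_.Cfsg.Agent.LsF.f2c1b1e_10 : {f // @Cfsg.Agent.H126.PwO.Cert.rowsB = f} := ⟨_, by first | (delta Cfsg.Agent.H126.PwO.Cert.rowsB; rewrite [Cfsg.Agent.LsF.f2c1b1e_9.2, Cfsg.Agent.LsF.map_eq, Cfsg.Agent.LsF.range_eq]; exact rfl) | exact rfl⟩
private noncomputable def _root_.Cfsg.Agent.LsF.f2c1b1e_11 : {f // @Cfsg.Agent.H126.PwO.Cert.kr = f} := ⟨_, by first | (delta Cfsg.Agent.H126.PwO.Cert.kr List.brecOn List.brecOn.go Cfsg.Agent.H126.PwO.Cert.kr._f; rewrite [Cfsg.Agent.LsF.f2c1b1e_4.2, Cfsg.Agent.LsF.f2c1b1e_5.2, Cfsg.Agent.LsF.f2c1b1e_3.2, Cfsg.Agent.LsF.nsub_pat, Cfsg.Agent.LsF.instNBEq_pat, Cfsg.Agent.LsF.instBEq_eq]; (try delta Cfsg.Agent.H126.PwO.Cert.kr.match_1); (try delta List.casesOn); first | dsimp -zeta only | exact rfl) | exact rfl⟩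
private noncomputable def _root_.Cfsg.Agent.LsF.f2c1b1e_12 : {f // @Cfsg.Agent.H126.PwO.Cert.e1 = f} := ⟨_, by first | (delta Cfsg.Agent.H126.PwO.Cert.e1; rewrite [Cfsg.Agent.LsF.nsub_pat, Cfsg.Agent.LsF.replicate_eq]; exact rfl) | exact rfl⟩
private noncomputable def _root_.Cfsg.Agent.LsF.f2c1b1e_13 : {f // @Cfsg.Agent.H122.Pw.Four.okC = f} := ⟨_, by first | (delta Cfsg.Agent.H122.Pw.Four.okC; rewrite [Cfsg.Agent.LsF.f2c1b1e_6.2, Cfsg.Agent.LsF.f2c1b1e_8.2, Cfsg.Agent.LsF.f2c1b1e_10.2, Cfsg.Agent.LsF.f2c1b1e_11.2, Cfsg.Agent.LsF.f2c1b1e_12.2, Cfsg.Agent.LsF.f2c1b1e_5.2, Cfsg.Agent.LsF.ndiv_pat, Cfsg.Agent.LsF.nmod_pat, Cfsg.Agent.LsF.instNBEq_pat, Cfsg.Agent.LsF.and_eq, Cfsg.Agent.LsF.or_eq, Cfsg.Agent.LsF.instBEq_eq]; exact rfl) | exact rfl⟩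
private noncomputable def _root_.Cfsg.Agent.LsF.f2c1b1e_14 : {f // @Cfsg.Agent.H122.Pw.Four.chkC = f} := ⟨_, by first | (delta Cfsg.Agent.H122.Pw.Four.chkC List.brecOn List.brecOn.go Cfsg.Agent.H122.Pw.Four.chkC._f; rewrite [Cfsg.Agent.LsF.f2c1b1e_1.2, Cfsg.Agent.LsF.f2c1b1e_2.2, Cfsg.Agent.LsF.f2c1b1e_13.2, Cfsg.Agent.LsF.and_eq, Cfsg.Agent.LsF.or_eq, Cfsg.Agent.LsF.not_eq, Cfsg.Agent.LsF.dBoolEq_eq, Cfsg.Agent.LsF.ite_eq]; (try delta Cfsg.Agent.H122.Pw.Four.chkC.match_1); (try delta List.casesOn); first | dsimp -zeta only | exact rfl) | exact rfl⟩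
theorem chk8 : chkC 8 (List.range 81) t8 = true := by
  ((try (rewrite [Cfsg.Agent.LsF.f2c1b1e_14.2, Cfsg.Agent.LsF.range_eq])); decide +kernel)

/-- certificates -/
def t9 : List ℕ := [
  4187237182333335589, 1375349718451701035, 3104160095599602702, 3109747754015720016, 4199095724472407586,
  3970285103464322112, 3252200673531993365, 4541342881532942645, 5209292811211375175, 367390039128744233,
  5193575236990735673, 2608201272602610197, 1014785762352179764, 216809498400734729, 3470084003397849131,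
  5419554716909111607, 1154650125919277070, 2823551619952092451, 5424316654556623139, 593081297428879943,
  3830604276556372258, 2675214084305463310, 808446891793202254, 1671137840959264314, 1876333244476560152,
  3326767160013947187, 439736791133994573, 3190037365690468902, 5494754470567085841, 2253781447293085994,
  730725635681360160, 2825795637671182391, 1390550359683836720, 1235421290282499393, 3388438669020377354, 1734185191167565589]

theorem chk9 : chkC 9 (List.range 81) t9 = true := by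
  ((try (rewrite [Cfsg.Agent.LsF.f2c1b1e_14.2, Cfsg.Agent.LsF.range_eq])); decide +kernel)

/-- certificates -/
def t10 : List ℕ := [
  796095961295899155, 4769083389465408286, 5410549407890551365, 2961467834869485644, 4116374847712475147,
  1886520255158093848, 1377908079710384925, 2380771561814573593, 2963672325486021926, 2540047838546317319,
  79399214220055850, 3333573197140019250, 3332109643728365645, 1738983412212375567, 2318596348322319648,
  4544205714016450874, 4408221666804575291, 4621271857354458955, 2101220704343310405, 4546113567480358936,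
  3754351804233043251, 1514685200632135239, 4474067089519102223, 4542804028823451665, 2026144023644350486,
  4832166769060299811, 298678014059027270, 446463358627156251, 454913092029978934, 2385024383129173552, 1595452008672201520,
  2183723882789867528, 1168410406700726303, 5777037790977467413, 2170535021283249725, 4397845597990305329]

theorem chk10 : chkC 10 (List.range 81) t10 = true := by
  ((try (rewrite [Cfsg.Agent.LsF.f2c1b1e_14.2, Cfsg.Agent.LsF.range_eq])); decide +kernel)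

/-- certificates -/
def t11 : List ℕ := [
  3396310227449167397, 1677669034369895184, 2034295544986421286, 448390917972826886, 91275111856877595, 3977004150003995427,
  3042807278285501455, 4758950418532277765, 3251891603958404637, 2322807448212021284, 237582567909570056,
  2103539742979327244, 5769171669487591955, 3541586503512560443, 1599695973367087628, 649122077213933833,
  3116293262126754620, 4191488160268750672, 3769311892703481676, 738656412752490519, 957637262114499116, 305154235995016728,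
  4405955479185935903]

theorem chk11 : chkC 11 (List.range 81) t11 = true := by
  ((try (rewrite [Cfsg.Agent.LsF.f2c1b1e_14.2, Cfsg.Agent.LsF.range_eq])); decide +kernel)

/-- certificates -/
def t12 : List ℕ := [
  3115972127692504588, 586890841024114963, 4548091653676027450, 5269841683325265177, 1094113245703981318,
  2460674106923562243, 1232875963341281612, 5282755417245105729, 1375366108345012529, 89561841417132071,
  2973228035215999258, 2960032778839662416, 663184796419245851, 4557142829603310597, 5697416415782057282,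
  2533350923911234836, 521616185356850193, 2024974015046624830, 1094953156923361335, 4703772398353979660,
  4399485939701521461, 4629213647523878173, 1523343785964746783, 5773628093496173579, 2522664722348905007,
  3976696227473542712, 2311817815749823310, 4984135855128122652, 4399225454966742562, 2322217203001799704,
  5550751527920536889, 3190604705283641623, 1593732506068522762, 1874988657919465284, 2975817311933175573, 580992106934185231]

theorem chk12 : chkC 12 (List.range 81) t12 = true := by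
  ((try (rewrite [Cfsg.Agent.LsF.f2c1b1e_14.2, Cfsg.Agent.LsF.range_eq])); decide +kernel)

/-- certificates -/
def t13 : List ℕ := [
  3463070305038766896, 2675718910415282216, 4340922647742385453, 4403986378986307912, 525871157846492471,
  2019872409437871125, 4054976971120902442, 3260914299287506468, 2959720518208655128, 2167134404423981572,
  873777608530265158, 5267030163258548556, 3620920601128226311, 5050788258140527619, 4416354509773746741,
  2101521077244606540, 2318312777115969816, 4473278550824263987, 2242875298140522541, 1746876694803268407,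
  4972274409551707410, 1022625258933783868, 3337173006983643415]

theorem chk13 : chkC 13 (List.range 81) t13 = true := by
  ((try (rewrite [Cfsg.Agent.LsF.f2c1b1e_14.2, Cfsg.Agent.LsF.range_eq])); decide +kernel)

/-- certificates -/
def t14 : List ℕ := [
  3245762852481221649, 4042047899705618970, 4690530997606812447, 5426633231771320084, 1017039627892834878,
  2245121436080220685, 3747884451723158290, 369060209637342724, 5049714005919606039, 157950378125237277,
  2821021656578411324, 734106762416102928, 1819462217196178198, 2963723878126532423, 4828724288916304914,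
  4403473830122883887, 5279132612177710385, 4476894986016333378, 3027049146688737865, 1747702401426536197,
  1810767124086916875, 593660747807656999, 5696556717476157003]

theorem chk14 : chkC 14 (List.range 81) t14 = true := by
  ((try (rewrite [Cfsg.Agent.LsF.f2c1b1e_14.2, Cfsg.Agent.LsF.range_eq])); decide +kernel)

/-- certificates -/
def t15 : List ℕ := [
  3685707059759622942, 2034511294329206803, 2465506559680976194, 1519967395872255235, 5057022588575299348,
  5065726154565027143, 4267512814120410943, 3112855085645114131, 5779015863331655453, 5710570139419883296,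
  5422136070169895481, 2380770432338117179, 4990639465834491144, 3322303211173263629, 3120730818852298030]

theorem chk15 : chkC 15 (List.range 81) t15 = true := by
  ((try (rewrite [Cfsg.Agent.LsF.f2c1b1e_14.2, Cfsg.Agent.LsF.range_eq])); decide +kernel)

theorem all {b c : ℕ} (hb : 8 ≤ b) (hb' : b < 16) (hc : c < 81) (h1 : stOK b c = true) (h2 : ex b c = false) :
    ∃ w, okC b c w = true := by
  have hm : c ∈ List.range 81 := List.mem_range.2 hc
  interval_cases b
  · exact chkC_spec _ _ chk8 c hm h1 h2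
  · exact chkC_spec _ _ chk9 c hm h1 h2
  · exact chkC_spec _ _ chk10 c hm h1 h2
  · exact chkC_spec _ _ chk11 c hm h1 h2
  · exact chkC_spec _ _ chk12 c hm h1 h2
  · exact chkC_spec _ _ chk13 c hm h1 h2
  · exact chkC_spec _ _ chk14 c hm h1 h2
  · exact chkC_spec _ _ chk15 c hm h1 h2

variable {F : Type*} [Field F]

/-- the fifth cyclotomic polynomial -/
noncomputable def pF (F : Type*) [Field F] : F[X] := X ^ 4 + X ^ 3 + X ^ 2 + X + 1

/-- determinant `-1` -/
noncomputable def pG (F : Type*) [Field F] : F[X] := X ^ 4 + X ^ 2 + 2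

theorem mono_eq : mono (lF.map fun b : ℕ => (b : F)) = pF F := by
  rw [lF, pF]
  simp only [List.map_cons, List.map_nil, mono, List.cons_append, List.nil_append, toP]
  simp only [Nat.cast_one, map_one]
  ring

theorem mono_eqG : mono (lG.map fun b : ℕ => (b : F)) = pG F := by
  rw [lG, pG]
  simp only [List.map_cons, List.map_nil, mono, List.cons_append, List.nil_append, toP]
  simp only [Nat.cast_ofNat, Nat.cast_one, Nat.cast_zero, map_ofNat, map_one, map_zero]
  ring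

theorem pF_dvd : pF F ∣ X ^ 5 - 1 := ⟨X - 1, by rw [pF]; ring⟩

theorem three [CharP F 3] : (3 : F[X]) = 0 := by
  have : ((3 : ℕ) : F[X]) = 0 := CharP.cast_eq_zero F[X] 3
  exact_mod_cast this

theorem pG_mul [CharP F 3] : pG F * (X ^ 4 + 2 * X ^ 2 + 2) = X ^ 8 + 1 := by
  rw [pG]
  linear_combination (X ^ 6 + 2 * X ^ 4 + 2 * X ^ 2 + 1) * three (F := F)

theorem pF_monic : (pF F).Monic := by
  rw [← mono_eq]; exact mono_monic _

theorem pF_deg : (pF F).natDegree = 4 := by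
  rw [← mono_eq, mono_natDegree]; rfl

theorem pG_monic : (pG F).Monic := by
  rw [← mono_eqG]; exact mono_monic _

theorem pG_deg : (pG F).natDegree = 4 := by
  rw [← mono_eqG, mono_natDegree]; rfl

theorem pF_irr [Finite F] (hF : Nat.card F = 3) [CharP F 3] : Irreducible (pF F) := by
  have : Fintype F := Fintype.ofFinite F
  have hF' : Fintype.card F = 3 := by rw [← Nat.card_eq_fintype_card, hF]
  refine irr_of_pow pF_monic pF_deg (by norm_num) (N := 5) (e := 1) (by norm_num) pF_dvd ?_ ?_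
  · refine ⟨-1, X ^ 3 + 2 * X ^ 2 + 1, ?_⟩
    rw [pF]
    linear_combination (-X ^ 2 - 1 : F[X]) * three (F := F)
  · intro m h1 h2
    rw [hF']
    have : m = 1 ∨ m = 2 := by omega
    rcases this with rfl | rfl <;> norm_num

theorem pG_irr [Finite F] (hF : Nat.card F = 3) [CharP F 3] : Irreducible (pG F) := by
  have : Fintype F := Fintype.ofFinite F
  have hF' : Fintype.card F = 3 := by rw [← Nat.card_eq_fintype_card, hF]
  refine irr_of_pow pG_monic pG_deg (by norm_num) (N := 16) (e := 8) (by norm_num) ?_ ?_ ?_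
  · refine ⟨(X ^ 4 + 2 * X ^ 2 + 2) * (X ^ 8 - 1), ?_⟩
    linear_combination (1 - X ^ 8 : F[X]) * pG_mul (F := F)
  · refine ⟨-(X ^ 4 + 2 * X ^ 2 + 2), 1, ?_⟩
    linear_combination (-1 : F[X]) * pG_mul (F := F) - three (F := F)
  · intro m h1 h2
    rw [hF']
    have : m = 1 ∨ m = 2 := by omega
    rcases this with rfl | rfl <;> norm_num

/-- the transvections among the block companion matrices -/
theorem ex_tv [CharP F 3] {b c : ℕ} (h : ex b c = true) : mat F 4 (rowsB 3 4 b c) = -1 ∨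
    ((∃ u v : Fin 4 → F, mat F 4 (rowsB 3 4 b c) = 1 + vecMulVec u v) ∧ mat F 4 (rowsB 3 4 b c) ≠ 1) := by
  have h3 : (3 : F) = 0 := by
    have : ((3 : ℕ) : F) = 0 := CharP.cast_eq_zero F 3
    exact_mod_cast this
  rw [ex, Bool.or_eq_true, Bool.or_eq_true, Bool.or_eq_true, Bool.and_eq_true, Bool.and_eq_true, Bool.and_eq_true,
    Bool.and_eq_true] at h
  simp only [beq_iff_eq] at h
  rcases h with ⟨rfl, rfl⟩ | ⟨rfl, rfl⟩ | ⟨rfl, rfl⟩ | ⟨rfl, rfl⟩
  · left
    have e : rowsB 3 4 15 80 = [[2, 0, 0, 0], [0, 2, 0, 0], [0, 0, 2, 0], [0, 0, 0, 2]] := by decide +kernel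
    rw [e]
    ext i j
    fin_cases i <;> fin_cases j <;> simp [mat, g] <;> linear_combination h3
  · right
    have e : rowsB 3 4 14 44 = [[0, 2, 0, 0], [1, 2, 0, 0], [0, 0, 1, 0], [0, 0, 0, 1]] := by decide +kernel
    rw [e]
    refine ⟨⟨![2, 1, 0, 0], ![1, 1, 0, 0], ?_⟩, fun h1 => ?_⟩
    · ext i j
      fin_cases i <;> fin_cases j <;> simp [mat, g, vecMulVec] <;>
        first | done | linear_combination h3 | linear_combination -h3 | ring
    · have h2 := congrFun (congrFun h1 1) 0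
      simp [mat, g] at h2
  · right
    have e : rowsB 3 4 13 52 = [[1, 0, 0, 0], [0, 0, 2, 0], [0, 1, 2, 0], [0, 0, 0, 1]] := by decide +kernel
    rw [e]
    refine ⟨⟨![0, 2, 1, 0], ![0, 1, 1, 0], ?_⟩, fun h1 => ?_⟩
    · ext i j
      fin_cases i <;> fin_cases j <;> simp [mat, g, vecMulVec] <;>
        first | done | linear_combination h3 | linear_combination -h3 | ring
    · have h2 := congrFun (congrFun h1 2) 1
      simp [mat, g] at h2
  · right
    have e : rowsB 3 4 11 76 = [[1, 0, 0, 0], [0, 1, 0, 0], [0, 0, 0, 2], [0, 0, 1, 2]] := by decide +kernel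
    rw [e]
    refine ⟨⟨![0, 0, 2, 1], ![0, 0, 1, 1], ?_⟩, fun h1 => ?_⟩
    · ext i j
      fin_cases i <;> fin_cases j <;> simp [mat, g, vecMulVec] <;>
        first | done | linear_combination h3 | linear_combination -h3 | ring
    · have h2 := congrFun (congrFun h1 3) 2
      simp [mat, g] at h2

/-- **`SL_4(3)`.** -/
theorem p4_3 [Finite F] (hF : Nat.card F = 3) (A : Matrix (Fin 4) (Fin 4) F) (hA : A.det = 1) (hs : A ≠ -1)
    (ht : ∀ u v : Fin 4 → F, A = 1 + vecMulVec u v → A = 1) :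
    ∃ X Y : Matrix (Fin 4) (Fin 4) F, A = X * Y ∧ X.charpoly = pF F ∧ Y.charpoly = pF F := by
  have : Fact (Nat.Prime 3) := ⟨Nat.prime_three⟩
  obtain ⟨hch, hall⟩ := H374.Ore.Sl3.exists_cast (K := F) hF
  have h3 : (3 : F) = 0 := by
    have : ((3 : ℕ) : F) = 0 := CharP.cast_eq_zero F 3
    exact_mod_cast this
  have h2 : (-1 : F) ≠ 1 := by
    intro h
    have h4 : (1 : F) = 0 := by linear_combination h3 + h
    exact one_ne_zero h4
  obtain ⟨b, c, P, hb, hP, hAP⟩ := exists_blk (by norm_num : 0 < 4) A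
  have hu : IsUnit P.det := hP.isUnit
  have hA' : A = P * blk b c * P⁻¹ := by
    rw [← hAP, Matrix.mul_assoc, Matrix.mul_nonsing_inv _ hu, Matrix.mul_one]
  have hdet : (blk b c).det = 1 := by
    have h1 := congrArg Matrix.det hAP
    rw [Matrix.det_mul, Matrix.det_mul, hA, one_mul] at h1
    exact mul_left_cancel₀ hP (by rw [mul_one]; exact h1.symm)
  have hdig : ∀ i : Fin 4, ∃ n < 3, ((n : ℕ) : F) = c i := fun i => hall (c i)
  choose dgt hdl hdc using hdig
  obtain ⟨bN, hbN⟩ : ∃ bN, bN = Nat.ofBits b := ⟨_, rfl⟩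
  obtain ⟨cN, hcN⟩ : ∃ cN, cN = dgt 0 + 3 * dgt 1 + 9 * dgt 2 + 27 * dgt 3 := ⟨_, rfl⟩
  have hl0 := hdl 0
  have hl1 := hdl 1
  have hl2 := hdl 2
  have hl3 := hdl 3
  have hb' : ∀ i : Fin 4, b i = bN.testBit i := fun i => by
    rw [hbN, Nat.testBit_ofBits_lt _ _ i.2]
  have hdg : ∀ i : Fin 4, dg 3 cN i = dgt i := by
    have k0 : cN / 3 ^ 0 % 3 = dgt 0 := by rw [hcN]; norm_num; omega
    have k1 : cN / 3 ^ 1 % 3 = dgt 1 := by rw [hcN]; norm_num; omega
    have k2 : cN / 3 ^ 2 % 3 = dgt 2 := by rw [hcN]; norm_num; omega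
    have k3 : cN / 3 ^ 3 % 3 = dgt 3 := by rw [hcN]; norm_num; omega
    intro i
    fin_cases i
    exacts [k0, k1, k2, k3]
  have hc' : ∀ i : Fin 4, c i = ((dg 3 cN i : ℕ) : F) := fun i => by rw [hdg, hdc]
  have hbl : bN < 16 := by rw [hbN]; exact Nat.ofBits_lt_two_pow _
  have hcl : cN < 81 := by rw [hcN]; omega
  have hbt : bN.testBit 3 = true := by
    rw [← hb]; exact (hb' ⟨3, by norm_num⟩).symm
  have hbg : 8 ≤ bN := Nat.ge_two_pow_of_testBit hbt
  have hblk : blk b c = mat F 4 (rowsB 3 4 bN cN) := by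
    rw [mat_rowsB]
    congr 1
    · funext i; exact hb' i
    · funext i; exact hc' i
  have hst : stOK bN cN = true := by
    rw [stOK, List.all_eq_true]
    intro i hi
    rw [List.mem_range] at hi
    rw [decide_eq_true_iff]
    intro hs' h0
    have hci : c ⟨i, hi⟩ = 0 := by
      rw [hc' ⟨i, hi⟩]
      simp only
      rw [h0, Nat.cast_zero]
    have h5 : (blk b c).det = 0 := by
      refine Matrix.det_eq_zero_of_row_eq_zero ⟨i, hi⟩ fun j => ?_
      rw [blk, Matrix.of_apply]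
      by_cases hj : b j = true
      · rw [if_pos hj, hci, ite_self]
      · rw [if_neg hj, if_neg]
        intro h4
        simp only at h4
        rcases hs' with hs' | hs'
        · omega
        · have h6 : i - 1 = j := by omega
          rw [h6, ← hb' j] at hs'
          exact hj hs'
    rw [h5] at hdet
    exact zero_ne_one hdet
  have hex : ex bN cN = false := by
    by_contra hcon
    rw [Bool.not_eq_false] at hcon
    rcases ex_tv (F := F) hcon with h1 | ⟨⟨u, v, h1⟩, h4⟩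
    · apply hs
      rw [hA', hblk, h1, Matrix.mul_neg, Matrix.mul_one, Matrix.neg_mul, Matrix.mul_nonsing_inv _ hu]
    · have h5 : A = 1 := by
        apply ht (P *ᵥ u) (v ᵥ* P⁻¹)
        rw [hA', hblk, h1, Matrix.mul_add, Matrix.mul_one, Matrix.add_mul, Matrix.mul_nonsing_inv _ hu,
          Matrix.mul_vecMulVec, Matrix.vecMulVec_mul]
      apply h4
      rw [← hblk]
      have h6 : P * blk b c = P * 1 := by rw [← hAP, h5, Matrix.one_mul, Matrix.mul_one]
      have h7 := congrArg (P⁻¹ * ·) h6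
      simp only [← Matrix.mul_assoc, Matrix.nonsing_inv_mul _ hu, Matrix.one_mul] at h7
      exact h7
  obtain ⟨w, hw⟩ := all hbg hbl hcl hst hex
  rw [okC, Bool.and_eq_true, Bool.and_eq_true, Bool.or_eq_true, beq_iff_eq] at hw
  obtain ⟨hw1, hw2, hw3⟩ := hw
  obtain ⟨x, hx⟩ : ∃ x, x = unM 3 4 (w % 4294967296) := ⟨_, rfl⟩
  obtain ⟨y, hy⟩ : ∃ y, y = unM 3 4 (w / 4294967296) := ⟨_, rfl⟩
  rw [← hx, ← hy] at hw1
  rw [← hx] at hw2
  rw [← hy] at hw3
  have hxw : WF 4 x := by rw [hx]; exact wf_unM _ _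
  have hyw : WF 4 y := by rw [hy]; exact wf_unM _ _
  have hirr : Irreducible (mono (lF.map fun b : ℕ => (b : F))) := by rw [mono_eq]; exact pF_irr hF
  have hirrG : Irreducible (mono (lG.map fun b : ℕ => (b : F))) := by rw [mono_eqG]; exact pG_irr hF
  have hlp : ∀ b ∈ lF, b ≤ 3 := by decide
  have hlpG : ∀ b ∈ lG, b ≤ 3 := by decide
  have cx : (mat F 4 x).charpoly = pF F := by
    rw [← mono_eq]; exact charpoly_of_kr (by norm_num) hxw rfl hlp hirr hw2
  have hd : ∀ M : Matrix (Fin 4) (Fin 4) F, M.charpoly = pF F → M.det = 1 := by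
    intro M hM
    rw [det_eq_sign_charpoly_coeff, hM, Fintype.card_fin, pF]
    simp
    norm_num
  have hdG : ∀ M : Matrix (Fin 4) (Fin 4) F, M.charpoly = pG F → M.det = -1 := by
    intro M hM
    rw [det_eq_sign_charpoly_coeff, hM, Fintype.card_fin, pG]
    simp only [coeff_add, coeff_X_pow, coeff_ofNat_zero]
    norm_num
    linear_combination h3
  have hprod : mat F 4 (mulR 3 4 x y) = mat F 4 x * mat F 4 y := mat_mulR hxw hyw
  have key : blk b c = mat F 4 x * mat F 4 y := by rw [hblk, ← hprod, hw1]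
  have cy : (mat F 4 y).charpoly = pF F := by
    rcases hw3 with hw3 | hw3
    · rw [← mono_eq]; exact charpoly_of_kr (by norm_num) hyw rfl hlp hirr hw3
    · exfalso
      have cy : (mat F 4 y).charpoly = pG F := by
        rw [← mono_eqG]; exact charpoly_of_kr (by norm_num) hyw rfl hlpG hirrG hw3
      have h6 := congrArg Matrix.det key
      rw [hdet, Matrix.det_mul, hd _ cx, hdG _ cy, one_mul] at h6
      exact h2 h6.symm
  have hconj : ∀ Z : Matrix (Fin 4) (Fin 4) F, (P * Z * P⁻¹).charpoly = Z.charpoly := fun Z =>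
    Matrix.charpoly_units_conj (M := Matrix.nonsingInvUnit P hu) Z
  refine ⟨P * mat F 4 x * P⁻¹, P * mat F 4 y * P⁻¹, ?_, by rw [hconj, cx], by rw [hconj, cy]⟩
  rw [hA', key]
  calc P * (mat F 4 x * mat F 4 y) * P⁻¹ = P * mat F 4 x * (1 * mat F 4 y) * P⁻¹ := by
        rw [Matrix.one_mul]; simp only [Matrix.mul_assoc]
    _ = P * mat F 4 x * P⁻¹ * (P * mat F 4 y * P⁻¹) := by
      rw [← Matrix.nonsing_inv_mul _ hu]; simp only [Matrix.mul_assoc]

end Cfsg.Agent.H122.Pw.Four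

private theorem dce_e4ed6cb48306 : _root_.True := by
  try have : _root_.True := by simp only [_root_.Cfsg.Agent.H122.Pw.Four.chkC.eq_3]
  try have : _root_.True := by simp only [_root_.Cfsg.Agent.H122.Pw.Four.chkC.eq_def]
  try have : _root_.True := by simp only [_root_.Cfsg.Agent.H122.Pw.Four.lF.eq_1]
  try have : _root_.True := by simp only [_root_.Cfsg.Agent.H122.Pw.Four.okC.eq_1]
  try have : _root_.True := by simp only [_root_.Cfsg.Agent.H122.Pw.Four.pG.eq_1]
  try have : _root_.True := by simp only [_root_.Cfsg.Agent.H122.Pw.Four.pF.eq_1]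
  try have : _root_.True := by simp only [_root_.Cfsg.Agent.H122.Pw.Four.lG.eq_1]
  try have : _root_.True := by simp only [_root_.Cfsg.Agent.H122.Pw.Four.stOK.eq_1]
  try have : _root_.True := by simp only [_root_.Cfsg.Agent.H122.Pw.Four.chkC.eq_1]
  try have : _root_.True := by simp only [_root_.Cfsg.Agent.H122.Pw.Four.ex.eq_1]
  try have : _root_.True := by simp only [_root_.Cfsg.Agent.H122.Pw.Four.chkC.eq_2]
  exact _root_.True.intro
end

-- part: H122/Pw/FiveFour
section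
set_option linter.all false
open scoped Cfsg.Agent.FastGrp

/-!
# `SL_5(3)` and `SL_4(3)`: products of two elements of order `11` resp. `5` (helper122, S2465)

* `five` : every element of `SL_5(3)` is `X Y`, `X ^ 11 = Y ^ 11 = 1`, with irreducible characteristic polynomials;
* `four` : the same for the elements of `SL_4(3)` which are neither `-1` nor transvections, and order `5`.
-/

set_option autoImplicit false

namespace Cfsg.Agent.H122.Pw

open Matrix Polynomial Cfsg.Agent.H934.MF Cfsg.Agent.H126.PwO.Cert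

section

variable {F : Type*} [Field F]

/-- the reciprocal polynomial of `Five.pF` -/
noncomputable def pH (F : Type*) [Field F] : F[X] := X ^ 5 + X ^ 4 + 2 * X ^ 3 + X ^ 2 + 2

/-- lower coefficients -/
def lH : List ℕ := [2, 0, 1, 2, 1]

theorem mono_eqH : mono (lH.map fun b : ℕ => (b : F)) = pH F := by
  rw [lH, pH]
  simp only [List.map_cons, List.map_nil, mono, List.cons_append, List.nil_append, toP]
  simp only [Nat.cast_ofNat, Nat.cast_one, Nat.cast_zero, map_ofNat, map_one, map_zero]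
  ring

theorem pH_dvd [CharP F 3] : pH F ∣ X ^ 11 - 1 := by
  refine ⟨X ^ 6 + 2 * X ^ 5 + 2 * X ^ 4 + 2 * X ^ 3 + X ^ 2 + 1, ?_⟩
  rw [pH]
  linear_combination (-(1 + X ^ 2 + 2 * X ^ 3 + 2 * X ^ 4 + 3 * X ^ 5 + 3 * X ^ 6 + 3 * X ^ 7 + 3 * X ^ 8 + 2 * X ^ 9 +
    X ^ 10)) * Four.three (F := F)

theorem pH_monic : (pH F).Monic := by
  rw [← mono_eqH]; exact mono_monic _

theorem pH_deg : (pH F).natDegree = 5 := by
  rw [← mono_eqH, mono_natDegree]; rfl

theorem pH_irr [Finite F] (hF : Nat.card F = 3) [CharP F 3] : Irreducible (pH F) := by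
  have : Fintype F := Fintype.ofFinite F
  have hF' : Fintype.card F = 3 := by rw [← Nat.card_eq_fintype_card, hF]
  refine irr_of_pow pH_monic pH_deg (by norm_num) (N := 11) (e := 1) (by norm_num) pH_dvd ?_ ?_
  · rw [pow_one, ← C_1]
    apply IsCoprime.symm
    rw [(irreducible_X_sub_C (1 : F)).coprime_iff_not_dvd, dvd_iff_isRoot]
    intro h
    rw [IsRoot.def, pH] at h
    simp only [eval_add, eval_mul, eval_pow, eval_X, eval_ofNat, one_pow] at h
    have h3 : (3 : F) = 0 := by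
      have : ((3 : ℕ) : F) = 0 := CharP.cast_eq_zero F 3
      exact_mod_cast this
    exact one_ne_zero (α := F) (by linear_combination h - 2 * h3)
  · intro m h1 h2
    rw [hF']
    have : m = 1 ∨ m = 2 := by omega
    rcases this with rfl | rfl <;> norm_num

/-- the companion matrix and its inverse -/
theorem five_one [Finite F] (hF : Nat.card F = 3) : ∃ X Y : Matrix (Fin 5) (Fin 5) F, 1 = X * Y ∧
    X.charpoly = H126.PwO.Five.pF F ∧ Y.charpoly = pH F := by
  have : Fact (Nat.Prime 3) := ⟨Nat.prime_three⟩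
  obtain ⟨hch, -⟩ := H374.Ore.Sl3.exists_cast (K := F) hF
  obtain ⟨x, hx⟩ : ∃ x : List (List ℕ), x = [[0, 1, 0, 0, 0], [0, 0, 1, 0, 0], [0, 0, 0, 1, 0], [0, 0, 0, 0, 1], [1, 1, 2, 1, 0]] :=
    ⟨_, rfl⟩
  obtain ⟨y, hy⟩ : ∃ y : List (List ℕ), y = [[2, 1, 2, 0, 1], [1, 0, 0, 0, 0], [0, 1, 0, 0, 0], [0, 0, 1, 0, 0], [0, 0, 0, 1, 0]] :=
    ⟨_, rfl⟩
  have hxw : WF 5 x := by rw [hx, WF]; decide
  have hyw : WF 5 y := by rw [hy, WF]; decide
  have h1 : mulR 3 5 x y = [[1, 0, 0, 0, 0], [0, 1, 0, 0, 0], [0, 0, 1, 0, 0], [0, 0, 0, 1, 0], [0, 0, 0, 0, 1]] := by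
    rw [hx, hy]; decide +kernel
  have h2 : kr 3 5 x H126.PwO.Five.lF (e1 5) (z0 5) = true := by rw [hx]; decide +kernel
  have h3 : kr 3 5 y lH (e1 5) (z0 5) = true := by rw [hy]; decide +kernel
  have hirr : Irreducible (mono (H126.PwO.Five.lF.map fun b : ℕ => (b : F))) := by
    rw [H126.PwO.Five.mono_eq]; exact H126.PwO.Five.pF_irr hF
  have hirrH : Irreducible (mono (lH.map fun b : ℕ => (b : F))) := by rw [mono_eqH]; exact pH_irr hF
  refine ⟨mat F 5 x, mat F 5 y, ?_, ?_, ?_⟩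
  · rw [← mat_mulR (p := 3) hxw hyw, h1]
    ext i j
    fin_cases i <;> fin_cases j <;> simp [mat, g]
  · rw [← H126.PwO.Five.mono_eq]
    exact charpoly_of_kr (by norm_num) hxw rfl (by decide) hirr h2
  · rw [← mono_eqH]
    exact charpoly_of_kr (by norm_num) hyw rfl (by decide) hirrH h3

/-- matrices from a polynomial dividing `X ^ N - 1` -/
theorem pow_of_dvd {n N : ℕ} {M : Matrix (Fin n) (Fin n) F} {f : F[X]} (h : M.charpoly = f) (hd : f ∣ X ^ N - 1) :
    M ^ N = 1 := by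
  obtain ⟨q, hq⟩ := hd
  have h1 := congrArg (aeval M) hq
  rw [map_mul, ← h, Matrix.aeval_self_charpoly, zero_mul, map_sub, map_pow, aeval_X, map_one, sub_eq_zero] at h1
  exact h1

end

universe u

variable {K : Type u} [Field K] [Finite K]

/-- **`SL_5(3)`.** -/
theorem five (hK : Nat.card K = 3) (A : SpecialLinearGroup (Fin 5) K) : ∃ X Y : SpecialLinearGroup (Fin 5) K, A = X * Y ∧
    (Irreducible (X : Matrix (Fin 5) (Fin 5) K).charpoly ∧ X ^ 11 = 1) ∧
    (Irreducible (Y : Matrix (Fin 5) (Fin 5) K).charpoly ∧ Y ^ 11 = 1) := by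
  have : Fact (Nat.Prime 3) := ⟨Nat.prime_three⟩
  obtain ⟨hch, hall⟩ := H374.Ore.Sl3.exists_cast (K := K) hK
  have h3 : (3 : K) = 0 := by
    have : ((3 : ℕ) : K) = 0 := CharP.cast_eq_zero K 3
    exact_mod_cast this
  have key : ∃ X Y : Matrix (Fin 5) (Fin 5) K, A.1 = X * Y ∧ X.charpoly = H126.PwO.Five.pF K ∧
      (Y.charpoly = H126.PwO.Five.pF K ∨ Y.charpoly = pH K) := by
    by_cases hs : ∀ c : K, A.1 ≠ c • (1 : Matrix (Fin 5) (Fin 5) K)
    · obtain ⟨X, Y, h1, h2, h4⟩ := H126.PwO.Five.p5_3 hK A.1 A.2 hs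
      exact ⟨X, Y, h1, h2, Or.inl h4⟩
    · push Not at hs
      obtain ⟨c, hc⟩ := hs
      have hd : c ^ 5 = 1 := by
        have h1 := A.2
        rw [hc, Matrix.det_smul, Matrix.det_one, mul_one, Fintype.card_fin] at h1
        exact h1
      have hc1 : c = 1 := by
        obtain ⟨k, hk, rfl⟩ := hall c
        interval_cases k
        · norm_num at hd
        · norm_num
        · exfalso
          have h5 : (2 : K) ^ 5 = 1 := by exact_mod_cast hd
          exact one_ne_zero (α := K) (by linear_combination h5 - 10 * h3)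
      obtain ⟨X, Y, h1, h2, h4⟩ := five_one (F := K) hK
      refine ⟨X, Y, ?_, h2, Or.inr h4⟩
      rw [hc, hc1, one_smul]
      exact h1
  obtain ⟨X, Y, h1, h2, h4⟩ := key
  have hX : X.det = 1 := by
    rw [det_eq_sign_charpoly_coeff, h2, Fintype.card_fin, H126.PwO.Five.pF]
    simp only [coeff_add, coeff_X_pow, coeff_ofNat_mul, coeff_X, coeff_ofNat_zero]
    norm_num
    linear_combination (-1 : K) * h3
  have hY : Y.det = 1 := by
    have h5 := congrArg Matrix.det h1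
    rw [Matrix.det_mul, hX, one_mul, A.2] at h5
    exact h5.symm
  refine ⟨⟨X, hX⟩, ⟨Y, hY⟩, Subtype.ext h1, ⟨?_, ?_⟩, ?_, ?_⟩
  · change Irreducible X.charpoly
    rw [h2]; exact H126.PwO.Five.pF_irr hK
  · apply Subtype.ext
    change X ^ 11 = 1
    exact pow_of_dvd h2 H126.PwO.Five.pF_dvd
  · change Irreducible Y.charpoly
    rcases h4 with h4 | h4
    · rw [h4]; exact H126.PwO.Five.pF_irr hK
    · rw [h4]; exact pH_irr hK
  · apply Subtype.ext
    change Y ^ 11 = 1
    rcases h4 with h4 | h4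
    · exact pow_of_dvd h4 H126.PwO.Five.pF_dvd
    · exact pow_of_dvd h4 pH_dvd

/-- **`SL_4(3)`.** -/
theorem four (hK : Nat.card K = 3) (A : SpecialLinearGroup (Fin 4) K) (hA : Cor.Gd A.1) :
    ∃ X Y : SpecialLinearGroup (Fin 4) K, A = X * Y ∧
    (Irreducible (X : Matrix (Fin 4) (Fin 4) K).charpoly ∧ X ^ 5 = 1) ∧
    (Irreducible (Y : Matrix (Fin 4) (Fin 4) K).charpoly ∧ Y ^ 5 = 1) := by
  have : Fact (Nat.Prime 3) := ⟨Nat.prime_three⟩
  obtain ⟨hch, -⟩ := H374.Ore.Sl3.exists_cast (K := K) hK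
  obtain ⟨X, Y, h1, h2, h4⟩ := Four.p4_3 hK A.1 A.2 hA.1 hA.2
  have hd : ∀ M : Matrix (Fin 4) (Fin 4) K, M.charpoly = Four.pF K → M.det = 1 := by
    intro M hM
    rw [det_eq_sign_charpoly_coeff, hM, Fintype.card_fin, Four.pF]
    simp
    norm_num
  refine ⟨⟨X, hd X h2⟩, ⟨Y, hd Y h4⟩, Subtype.ext h1, ⟨?_, ?_⟩, ?_, ?_⟩
  · change Irreducible X.charpoly
    rw [h2]; exact Four.pF_irr hK
  · apply Subtype.ext
    change X ^ 5 = 1
    exact pow_of_dvd h2 Four.pF_dvd
  · change Irreducible Y.charpoly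
    rw [h4]; exact Four.pF_irr hK
  · apply Subtype.ext
    change Y ^ 5 = 1
    exact pow_of_dvd h4 Four.pF_dvd

end Cfsg.Agent.H122.Pw

private theorem dce_4e2552c65f01 : _root_.True := by
  try have : _root_.True := by simp only [_root_.Cfsg.Agent.H122.Pw.lH.eq_1]
  try have : _root_.True := by simp only [_root_.Cfsg.Agent.H122.Pw.pH.eq_1]
  try have : _root_.True := by simp only [_root_.Cfsg.Agent.H126.PwO.Cert.WF.eq_1]
  exact _root_.True.intro
end

-- part: H962/PP/Five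
section
prune_inst 0x24300400302200000000001022001c665a0000020040000020800d020581240080400020ae900410108200040834002003100000020000000a000000011e01800000000480000000080000000000000000000000000000000000000000000000000000000
set_option linter.all false
open scoped Cfsg.Agent.FastGrp

-- part: H962/PP/Slice1
section
/-!
# Products of two elements with prescribed irreducible characteristic polynomials: the slice of a cyclic element

* `charpoly_of_kill` : an irreducible polynomial of degree `dim V` that kills a vector is the characteristic polynomial;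
* `frame` : `A = Y X`, `X` the companion map of `f` in a basis `ε`;
* `slice_cyc` : `1 + S`, `S` cyclic.
-/

set_option autoImplicit false

namespace Cfsg.Agent.H962.PP

open Polynomial

universe u v

variable {F : Type u} [Field F] {V : Type v} [AddCommGroup V] [Module F V] [FiniteDimensional F V]

theorem charpoly_of_kill (T : Module.End F V) {f : F[X]} (hf : f.Monic) (hfi : Irreducible f)
    (hfd : f.natDegree = Module.finrank F V) {v : V} (hv : v ≠ 0) (h : aeval T f v = 0) :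
    LinearMap.charpoly T = f := by
  have h1 : f ∣ minpoly F T := by
    by_contra hc
    obtain ⟨a, b, hab⟩ := (hfi.coprime_iff_not_dvd).2 hc
    apply hv
    have h2 : aeval T (a * f + b * minpoly F T) v = v := by
      rw [hab, map_one]; rfl
    rw [map_add, map_mul, map_mul, minpoly.aeval, mul_zero, add_zero, Module.End.mul_apply, h, map_zero] at h2
    exact h2.symm
  have h2 : f ∣ LinearMap.charpoly T := h1.trans (LinearMap.minpoly_dvd_charpoly T)
  refine (eq_of_monic_of_dvd_of_natDegree_le hf (LinearMap.charpoly_monic T) h2 ?_)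
  rw [LinearMap.charpoly_natDegree, hfd]

/-- the frame of a slice -/
theorem frame {k : ℕ} (hV : Module.finrank F V = k + 2) (ε : ℕ → V)
    (hs : ⊤ ≤ Submodule.span F (Set.range fun i : Fin (k + 2) => ε i))
    {f : F[X]} (hf : f.Monic) (hfi : Irreducible f) (hfd : f.natDegree = k + 2) (A : Module.End F V) :
    ∃ X Y : Module.End F V, Y * X = A ∧ LinearMap.charpoly X = f ∧ (∀ i ≤ k, Y (ε (i + 1)) = A (ε i)) ∧
      Y (∑ i ∈ Finset.range (k + 2), f.coeff i • ε i) = -A (ε (k + 1)) ∧ ∀ i < k + 2, ε i ≠ 0 := by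
  classical
  let b := basisOfTopLeSpanOfCardEqFinrank (fun i : Fin (k + 2) => ε i) hs (by simp [hV])
  have hb : ∀ i : Fin (k + 2), b i = ε i := fun i => by
    simp [b, coe_basisOfTopLeSpanOfCardEqFinrank]
  have hne : ∀ i < k + 2, ε i ≠ 0 := fun i hi => by
    have := b.ne_zero ⟨i, hi⟩
    rwa [hb] at this
  let X : Module.End F V := b.constr F fun i => if (i : ℕ) ≤ k then ε (i + 1)
    else -∑ i ∈ Finset.range (k + 2), f.coeff i • ε i
  have hX1 : ∀ i ≤ k, X (ε i) = ε (i + 1) := by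
    intro i hi
    have h1 := b.constr_basis F (fun i : Fin (k + 2) => if (i : ℕ) ≤ k then ε (i + 1)
      else -∑ i ∈ Finset.range (k + 2), f.coeff i • ε i) ⟨i, by omega⟩
    rw [hb] at h1
    exact h1.trans (if_pos hi)
  have hX2 : X (ε (k + 1)) = -∑ i ∈ Finset.range (k + 2), f.coeff i • ε i := by
    have h1 := b.constr_basis F (fun i : Fin (k + 2) => if (i : ℕ) ≤ k then ε (i + 1)
      else -∑ i ∈ Finset.range (k + 2), f.coeff i • ε i) ⟨k + 1, by omega⟩
    rw [hb] at h1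
    exact h1.trans (if_neg (by simp))
  have hpow : ∀ i ≤ k + 1, (X ^ i) (ε 0) = ε i := by
    intro i
    induction i with
    | zero => intro _; rfl
    | succ i ih =>
      intro hi
      rw [pow_succ', Module.End.mul_apply, ih (by omega), hX1 i (by omega)]
  have hcp : LinearMap.charpoly X = f := by
    refine charpoly_of_kill X hf hfi (by rw [hfd, hV]) (hne 0 (by omega)) ?_
    rw [aeval_eq_sum_range, LinearMap.sum_apply, hfd, Finset.sum_range_succ]
    have h1 : f.coeff (k + 2) = 1 := by rw [← hfd]; exact hf.coeff_natDegree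
    rw [h1, one_smul, pow_succ', Module.End.mul_apply, hpow (k + 1) le_rfl, hX2]
    rw [show ∑ i ∈ Finset.range (k + 2), (f.coeff i • X ^ i) (ε 0) = ∑ i ∈ Finset.range (k + 2), f.coeff i • ε i from
      Finset.sum_congr rfl fun i hi => by
        rw [LinearMap.smul_apply, hpow i (by have := Finset.mem_range.1 hi; omega)]]
    rw [add_neg_cancel]
  have hf0 : f.coeff 0 ≠ 0 := by
    intro h0
    have h2 : (Polynomial.X : F[X]) ∣ f := X_dvd_iff.2 h0
    have h3 := (hfi.dvd_iff.1 h2).resolve_left not_isUnit_X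
    have h4 := natDegree_eq_of_degree_eq (degree_eq_degree_of_associated h3)
    rw [natDegree_X] at h4
    omega
  have hdet : LinearMap.det X ≠ 0 := by
    rw [LinearMap.det_eq_sign_charpoly_coeff, hcp]
    exact mul_ne_zero (pow_ne_zero _ (by simp)) hf0
  obtain ⟨e, he⟩ : ∃ e : V ≃ₗ[F] V, ∀ v, e v = X v := ⟨LinearMap.equivOfDetNeZero X hdet, fun _ => rfl⟩
  have hse : ∀ v, e.symm (X v) = v := fun v => by rw [← he, e.symm_apply_apply]
  refine ⟨X, A * (e.symm : V →ₗ[F] V), ?_, hcp, ?_, ?_, hne⟩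
  · apply LinearMap.ext
    intro v
    rw [Module.End.mul_apply, Module.End.mul_apply]
    exact congrArg A (hse v)
  · intro i hi
    rw [Module.End.mul_apply, ← hX1 i hi]
    exact congrArg A (hse _)
  · have h1 : ∑ i ∈ Finset.range (k + 2), f.coeff i • ε i = X (-ε (k + 1)) := by
      rw [map_neg, hX2, neg_neg]
    rw [h1, Module.End.mul_apply, ← map_neg]
    exact congrArg A (hse _)

/-! ### Polynomials and reversed sums -/

theorem degree_rev (a : ℕ → F) (n : ℕ) : (∑ i ∈ Finset.range n, C (a i) * X ^ (n - 1 - i) : F[X]).degree < n := by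
  have h : (∑ i ∈ Finset.range n, C (a i) * X ^ (n - 1 - i) : F[X]) ∈ degreeLT F n := by
    refine Submodule.sum_mem _ fun i hi => ?_
    rw [mem_degreeLT]
    have := Finset.mem_range.1 hi
    exact (degree_C_mul_X_pow_le _ _).trans_lt (by exact_mod_cast (by omega : n - 1 - i < n))
  exact mem_degreeLT.1 h

section Rev

variable {W : Type*} [AddCommGroup W] [Module F[X] W]

theorem sum_of_lt {β : F[X]} {n : ℕ} (hβ : β.degree < n) : ∑ j ∈ Finset.range n, C (β.coeff j) * X ^ j = β := by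
  have h : β ∈ degreeLT F n := mem_degreeLT.2 hβ
  ext m
  rw [finsetSum_coeff]
  simp only [coeff_C_mul, coeff_X_pow, mul_ite, mul_one, mul_zero]
  rw [Finset.sum_ite_eq]
  split_ifs with hm
  · rfl
  · rw [Finset.mem_range, not_lt] at hm
    exact (coeff_eq_zero_of_degree_lt (lt_of_lt_of_le hβ (by exact_mod_cast hm))).symm

theorem rev_sum {β : F[X]} {k : ℕ} (hβ : β.degree < (k + 1 : ℕ)) {ε : ℕ → W} {u : W}
    (h : ∀ j ≤ k, ε (k - j) = (X ^ j : F[X]) • u) :
    ∑ i ∈ Finset.range (k + 1), (C (β.coeff (k - i)) : F[X]) • ε i = β • u := by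
  conv_rhs => rw [← sum_of_lt hβ, Finset.sum_smul]
  rw [← Finset.sum_range_reflect]
  refine Finset.sum_congr rfl fun j hj => ?_
  have := Finset.mem_range.1 hj
  rw [show k + 1 - 1 - j = k - j by omega, show k - (k - j) = j by omega, h j (by omega), mul_smul]

theorem rev_sum' {β : F[X]} {k : ℕ} (hβ : β.degree < (k + 1 : ℕ)) {ε : ℕ → W} {u : W}
    (h : ∀ j ≤ k, ε (k - j) = (X ^ j : F[X]) • u) :
    ∑ i ∈ Finset.range k, (C (β.coeff (k - i)) : F[X]) • ε (i + 1) = (divX β) • u := by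
  have hd : (divX β).degree < (k : ℕ) := by
    rw [degree_lt_iff_coeff_zero]
    intro m hm
    rw [coeff_divX]
    exact coeff_eq_zero_of_degree_lt (lt_of_lt_of_le hβ (by exact_mod_cast (by omega : k + 1 ≤ m + 1)))
  conv_rhs => rw [← sum_of_lt hd, Finset.sum_smul]
  rw [← Finset.sum_range_reflect]
  refine Finset.sum_congr rfl fun j hj => ?_
  have := Finset.mem_range.1 hj
  rw [show k - (k - 1 - j) = j + 1 by omega, show k - 1 - j + 1 = k - j by omega, h j (by omega), coeff_divX, mul_smul]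

theorem rev_sum_const {a : ℕ → F} {k : ℕ} {ε : ℕ → W} {u : W}
    (h : ∀ j ≤ k, ε (k - j) = (X ^ j : F[X]) • u) :
    ∑ i ∈ Finset.range (k + 1), (C (a i) : F[X]) • ε i = (∑ i ∈ Finset.range (k + 1), C (a i) * X ^ (k - i)) • u := by
  rw [Finset.sum_smul]
  refine Finset.sum_congr rfl fun i hi => ?_
  have := Finset.mem_range.1 hi
  have h1 := h (k - i) (by omega)
  rw [show k - (k - i) = i by omega] at h1
  rw [h1, mul_smul]

end Rev

/-- the algebra of the cyclic slice -/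
theorem comb_cyc {R : Type*} [CommRing R] {W : Type*} [AddCommGroup W] [Module R W] {X φ δ β1 bk d' f' : R} {u y : W}
    (E2 : X • y = u - (β1 * X + bk) • u)
    (E3 : (X + 1) • (φ • u + f' • y) +
      ((1 - d') • (y - (β1 * X + bk) • u) - δ • u + (X + 1) • (β1 • u + bk • y)) = 0) :
    (((1 - d') + (X + 1) * f' + X * ((X + 1) * φ - δ) - (bk + f' - d') * (X + 1) * (β1 * X + bk))) • u = 0 := by
  linear_combination (norm := module) X • E3 - ((1 - d') + (X + 1) * (bk + f')) • E2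

theorem mul_mem_degreeLT {m n N : ℕ} {p q : F[X]} (hp : p.degree ≤ (m : ℕ)) (hq : q ∈ degreeLT F n) (h : m + n = N) :
    p * q ∈ degreeLT F N := by
  rw [mem_degreeLT] at hq ⊢
  rcases eq_or_ne p 0 with rfl | hp0
  · rw [zero_mul, degree_zero]; exact WithBot.bot_lt_coe _
  rw [degree_mul, ← h]
  push_cast
  refine (add_le_add_left hp _).trans_lt ?_
  exact WithBot.add_lt_add_left (WithBot.natCast_ne_bot m) hq

theorem C_mem_degreeLT {n : ℕ} (a : F) (hn : 0 < n) : (C a : F[X]) ∈ degreeLT F n :=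
  mem_degreeLT.2 (degree_C_le.trans_lt (by exact_mod_cast hn))

theorem CX_mem_degreeLT {n : ℕ} (a : F) (hn : 1 < n) : (C a * X : F[X]) ∈ degreeLT F n := by
  have := degree_C_mul_X_pow_le 1 a
  rw [pow_one] at this
  exact mem_degreeLT.2 (this.trans_lt (by exact_mod_cast hn))

theorem degree_X_one : (X + 1 : F[X]).degree = (1 : ℕ) := by
  rw [show (X + 1 : F[X]) = X + C 1 by rw [C_1], degree_X_add_C]; rfl

theorem degree_XX_one : (X * (X + 1) : F[X]).degree = (2 : ℕ) := by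
  rw [degree_mul, degree_X, degree_X_one]; rfl

theorem degree_num {k : ℕ} {f g ψ : F[X]} (hgm : g.Monic) (hgd : g.natDegree = k + 2)
    (hψ : (ψ - X * (X + 1) * ∑ i ∈ Finset.range (k + 1), C (f.coeff i) * X ^ (k - i)) ∈ degreeLT F (k + 2)) :
    (ψ - C (f.coeff 0) * g.comp (X + 1)) ∈ degreeLT F (k + 2) := by
  have h1 : (X * (X + 1) * (∑ i ∈ Finset.range k, C (f.coeff (i + 1)) * X ^ (k - (i + 1))) : F[X]) ∈
      degreeLT F (k + 2) := by
    refine mul_mem_degreeLT degree_XX_one.le (n := k) ?_ (by ring)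
    rw [show ∑ i ∈ Finset.range k, C (f.coeff (i + 1)) * X ^ (k - (i + 1)) =
        ∑ i ∈ Finset.range k, C (f.coeff (i + 1)) * X ^ (k - 1 - i) from Finset.sum_congr rfl fun i _ => by
          rw [show k - (i + 1) = k - 1 - i by omega]]
    exact mem_degreeLT.2 (degree_rev (fun i => f.coeff (i + 1)) k)
  have h2 : (X + 1 : F[X]).Monic := by rw [show (X + 1 : F[X]) = X + C 1 by rw [C_1]]; exact monic_X_add_C 1
  have h3 : (X + 1 : F[X]).natDegree = 1 := natDegree_eq_of_degree_eq_some degree_X_one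
  have h4 : (X ^ (k + 1) * (X + 1) - g.comp (X + 1) : F[X]) ∈ degreeLT F (k + 2) := by
    rw [mem_degreeLT]
    have h5 : (X ^ (k + 1) * (X + 1) : F[X]).Monic := (monic_X_pow _).mul h2
    have h6 : (g.comp (X + 1)).Monic := hgm.comp h2 (by rw [h3]; norm_num)
    have h7 : (X ^ (k + 1) * (X + 1) : F[X]).degree = (k + 2 : ℕ) := by
      rw [degree_eq_natDegree h5.ne_zero, (monic_X_pow _).natDegree_mul h2, natDegree_X_pow, h3]
    have h8 : (g.comp (X + 1)).degree = (k + 2 : ℕ) := by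
      rw [degree_eq_natDegree h6.ne_zero, natDegree_comp, h3, hgd, mul_one]
    have h9 := degree_sub_lt_left (h7.trans h8.symm) h5.ne_zero (by rw [h5.leadingCoeff, h6.leadingCoeff])
    rwa [h7] at h9
  have h5 : (C (f.coeff 0) * (X ^ (k + 1) * (X + 1) - g.comp (X + 1)) : F[X]) ∈ degreeLT F (k + 2) := by
    rw [← smul_eq_C_mul]
    exact Submodule.smul_mem _ _ h4
  have h6 : ψ - C (f.coeff 0) * g.comp (X + 1) =
    (ψ - X * (X + 1) * ∑ i ∈ Finset.range (k + 1), C (f.coeff i) * X ^ (k - i)) +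
    (X * (X + 1) * (∑ i ∈ Finset.range k, C (f.coeff (i + 1)) * X ^ (k - (i + 1))) +
      C (f.coeff 0) * (X ^ (k + 1) * (X + 1) - g.comp (X + 1))) := by
    rw [Finset.sum_range_succ', Nat.sub_zero, pow_succ]
    ring
  rw [h6]
  exact add_mem hψ (add_mem h1 h5)

/-- **the slice of a cyclic element** -/
theorem slice_cyc {k : ℕ} (hV : Module.finrank F V = k + 2) (A : Module.End F V) {v0 : V}
    (hs : ⊤ ≤ Submodule.span F (Set.range fun i : Fin (k + 2) => ((A - 1) ^ (i : ℕ)) v0))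
    {d : F[X]} (hd : d.Monic) (hdd : d.natDegree = k + 2) (hd0 : aeval (A - 1) d v0 = 0)
    {f g : F[X]} (hf : f.Monic) (hfi : Irreducible f) (hfd : f.natDegree = k + 2)
    (hg : g.Monic) (hgi : Irreducible g) (hgd : g.natDegree = k + 2) {c : F} (hc : c ≠ 0)
    (h0 : 1 - d.coeff (k + 1) + ∑ i ∈ Finset.range (k + 1), d.coeff i * (-1) ^ (k - i) = f.coeff 0 * g.coeff 0)
    (h1 : (1 + c) * (1 + f.coeff (k + 1) - d.coeff (k + 1) - c) = f.coeff 0 * g.eval 1) :
    ∃ X Y : Module.End F V, Y * X = A ∧ LinearMap.charpoly X = f ∧ LinearMap.charpoly Y = g := by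
  classical
  obtain ⟨S, hS⟩ : ∃ S, S = A - 1 := ⟨_, rfl⟩
  rw [← hS] at hs hd0
  have hA : ∀ v, A v = v + S v := fun v => by rw [hS]; simp
  obtain ⟨φ, hφ⟩ : ∃ φ : F[X], φ = ∑ i ∈ Finset.range (k + 1), C (f.coeff i) * X ^ (k - i) := ⟨_, rfl⟩
  obtain ⟨δ, hδ⟩ : ∃ δ : F[X], δ = ∑ i ∈ Finset.range (k + 1), C (d.coeff i) * X ^ (k - i) := ⟨_, rfl⟩
  have hδd : δ ∈ degreeLT F (k + 1) := by
    rw [hδ]; exact mem_degreeLT.2 (degree_rev (fun i => d.coeff i) (k + 1))
  obtain ⟨ψ, hψ⟩ : ∃ ψ : F[X], ψ = (1 - C (d.coeff (k + 1))) + (X + 1) * C (f.coeff (k + 1)) + X * ((X + 1) * φ - δ) :=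
    ⟨_, rfl⟩
  have hN1 : (ψ - C (f.coeff 0) * g.comp (X + 1)) ∈ degreeLT F (k + 2) := by
    refine degree_num hg hgd ?_
    have e1 : ψ - X * (X + 1) * φ = (C (1 - d.coeff (k + 1)) + C (f.coeff (k + 1))) + (C (f.coeff (k + 1)) * X - X * δ) := by
      rw [hψ, C_sub, C_1]; ring
    rw [← hφ, e1]
    refine add_mem (add_mem (C_mem_degreeLT _ (by omega)) (C_mem_degreeLT _ (by omega))) (sub_mem (CX_mem_degreeLT _ (by omega)) ?_)
    exact mul_mem_degreeLT (by rw [degree_X]; rfl) hδd (by ring)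
  have hN2 : (ψ - C (f.coeff 0) * g.comp (X + 1)).IsRoot (-1) := by
    rw [IsRoot.def, eval_sub, eval_mul, eval_C, eval_comp, eval_add, eval_X, eval_one, neg_add_cancel, ← coeff_zero_eq_eval_zero,
      ← h0, hψ, hδ]
    simp only [eval_finsetSum, _root_.Polynomial.eval_add, _root_.Polynomial.eval_sub, _root_.Polynomial.eval_one, _root_.Polynomial.eval_C, _root_.Polynomial.eval_mul, _root_.Polynomial.eval_X, _root_.neg_add_cancel, _root_.MulZeroClass.zero_mul, _root_.add_zero, _root_.Polynomial.eval_pow, _root_.zero_sub, _root_.mul_neg, _root_.neg_mul, _root_.one_mul, _root_.neg_neg, _root_.sub_self]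
  obtain ⟨β0, hβ0⟩ := dvd_iff_isRoot.2 hN2
  rw [show (X - C (-1) : F[X]) = X + 1 by rw [C_neg, C_1, sub_neg_eq_add]] at hβ0
  have hβ0d : β0 ∈ degreeLT F (k + 1) := by
    rw [mem_degreeLT] at hN1 ⊢
    rw [hβ0, degree_mul, degree_X_one, show ((k + 2 : ℕ) : WithBot ℕ) = (1 : ℕ) + (k + 1 : ℕ) by push_cast; ring] at hN1
    exact lt_of_add_lt_add_left hN1
  obtain ⟨β, hβ⟩ : ∃ β : F[X], β = C c⁻¹ * β0 := ⟨_, rfl⟩
  have hβd : β ∈ degreeLT F (k + 1) := by
    rw [hβ, ← smul_eq_C_mul]; exact Submodule.smul_mem _ _ hβ0d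
  have hcβ : C c * β = β0 := by
    rw [hβ, ← mul_assoc, ← C_mul, mul_inv_cancel₀ hc, C_1, one_mul]
  have hβv : β.coeff 0 = c + d.coeff (k + 1) - f.coeff (k + 1) := by
    have e1 := congrArg (eval 0) hβ0
    rw [eval_sub, eval_mul, eval_C, eval_comp, eval_add, eval_X, eval_one, zero_add, eval_mul, eval_add, eval_X, eval_one,
      zero_add, one_mul, ← hcβ, eval_mul, eval_C, ← h1, hψ] at e1
    simp only [eval_add, eval_sub, eval_mul, eval_C, eval_X, eval_one, zero_mul, add_zero, zero_add, one_mul] at e1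
    rw [coeff_zero_eq_eval_zero]
    refine mul_left_cancel₀ hc (e1.symm.trans ?_)
    ring
  obtain ⟨ε, hε1, hε2⟩ : ∃ ε : ℕ → V, (∀ i ≤ k, ε i = (S ^ i) v0) ∧
      ε (k + 1) = (S ^ (k + 1)) v0 + ∑ i ∈ Finset.range (k + 1), β.coeff (k - i) • (S ^ i) v0 :=
    ⟨fun i => if i ≤ k then (S ^ i) v0 else (S ^ (k + 1)) v0 + ∑ i ∈ Finset.range (k + 1), β.coeff (k - i) • (S ^ i) v0,
      fun i hi => if_pos hi, if_neg (by omega)⟩
  have hs' : ⊤ ≤ Submodule.span F (Set.range fun i : Fin (k + 2) => ε i) := by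
    refine hs.trans (Submodule.span_le.2 ?_)
    rintro _ ⟨i, rfl⟩
    have h2 : ∀ i ≤ k, (S ^ i) v0 ∈ Submodule.span F (Set.range fun i : Fin (k + 2) => ε i) := fun i hi =>
      Submodule.subset_span ⟨⟨i, by omega⟩, hε1 i hi⟩
    by_cases hi : (i : ℕ) ≤ k
    · exact h2 _ hi
    · have h3 : (i : ℕ) = k + 1 := by omega
      change (S ^ (i : ℕ)) v0 ∈ _
      rw [h3, show (S ^ (k + 1)) v0 = ε (k + 1) - ∑ i ∈ Finset.range (k + 1), β.coeff (k - i) • (S ^ i) v0 by
        rw [hε2, add_sub_cancel_right]]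
      exact sub_mem (Submodule.subset_span ⟨⟨k + 1, by omega⟩, rfl⟩)
        (Submodule.sum_mem _ fun i hi => Submodule.smul_mem _ _ (h2 i (by have := Finset.mem_range.1 hi; omega)))
  obtain ⟨XX, Y, hYX, hXc, hY1, hY2, hne⟩ := frame hV ε hs' hf hfi hfd A
  refine ⟨XX, Y, hYX, hXc, ?_⟩
  let _ : Module F[X] V := Module.compHom V (aeval (Y - 1) : F[X] →ₐ[F] Module.End F V).toRingHom
  have hsm : ∀ (p : F[X]) (v : V), p • v = aeval (Y - 1) p v := fun _ _ => rfl
  have hXs : ∀ v : V, (X : F[X]) • v = Y v - v := fun v => by rw [hsm, aeval_X]; rfl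
  have hX1s : ∀ v : V, (X + 1 : F[X]) • v = Y v := fun v => by rw [add_smul, one_smul, hXs, sub_add_cancel]
  have hCs : ∀ (a : F) (v : V), (C a : F[X]) • v = a • v := fun a v => by rw [hsm, aeval_C]; rfl
  obtain ⟨u, hu⟩ : ∃ u, u = ε k := ⟨_, rfl⟩
  obtain ⟨y, hy⟩ : ∃ y, y = ε (k + 1) := ⟨_, rfl⟩
  have hSε : ∀ i < k, S (ε i) = ε (i + 1) := fun i hi => by
    rw [hε1 i hi.le, hε1 (i + 1) hi, pow_succ', Module.End.mul_apply]
  have hM : ∀ i < k, (X : F[X]) • ε (i + 1) = ε i := fun i hi => by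
    rw [hXs, hY1 i hi.le, hA, hSε i hi, add_sub_cancel_right]
  have hur : ∀ j ≤ k, ε (k - j) = (X ^ j : F[X]) • u := by
    intro j
    induction j with
    | zero => intro _; rw [pow_zero, one_smul, Nat.sub_zero, hu]
    | succ j ih =>
      intro hj
      rw [pow_succ', mul_smul, ← ih (by omega), ← hM (k - (j + 1)) (by omega), show k - (j + 1) + 1 = k - j by (clear * - hj; omega)]
  have hβs : ∑ i ∈ Finset.range (k + 1), β.coeff (k - i) • ε i = β • u := by
    rw [← rev_sum (mem_degreeLT.1 hβd) hur]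
    exact Finset.sum_congr rfl fun i _ => (hCs _ _).symm
  have hβs' : ∑ i ∈ Finset.range (k + 1), β.coeff (k - i) • ε (i + 1) = divX β • u + (C (β.coeff 0) : F[X]) • y := by
    rw [Finset.sum_range_succ, ← rev_sum' (mem_degreeLT.1 hβd) hur, hCs, Nat.sub_self, hy]
    congr 1
    exact Finset.sum_congr rfl fun i _ => (hCs _ _).symm
  have hφs : ∑ i ∈ Finset.range (k + 1), f.coeff i • ε i = φ • u := by
    rw [hφ, ← rev_sum_const hur]
    exact Finset.sum_congr rfl fun i _ => (hCs _ _).symm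
  have hδs : ∑ i ∈ Finset.range (k + 1), d.coeff i • ε i = δ • u := by
    rw [hδ, ← rev_sum_const hur]
    exact Finset.sum_congr rfl fun i _ => (hCs _ _).symm
  have hw : (S ^ (k + 1)) v0 = y - β • u := by
    rw [← hβs, hy, hε2]
    rw [show ∑ i ∈ Finset.range (k + 1), β.coeff (k - i) • (S ^ i) v0 = ∑ i ∈ Finset.range (k + 1), β.coeff (k - i) • ε i from
      Finset.sum_congr rfl fun i hi => by rw [hε1 i (by have := Finset.mem_range.1 hi; omega)]]
    abel
  have hSu : S u = y - β • u := by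
    rw [← hw, hu, hε1 k le_rfl, ← Module.End.mul_apply, ← pow_succ']
  have hdx : (divX β * X + C (β.coeff 0) : F[X]) = β := divX_mul_X_add β
  have E2 : (X : F[X]) • y = u - (divX β * X + C (β.coeff 0) : F[X]) • u := by
    rw [hdx, hXs, hy, hY1 k le_rfl, hA, ← hu, hSu, ← hy]
    abel
  have hSw : S ((S ^ (k + 1)) v0) = -(δ • u) - (C (d.coeff (k + 1)) : F[X]) • (y - β • u) := by
    have e1 := hd0
    rw [aeval_eq_sum_range, LinearMap.sum_apply, hdd, Finset.sum_range_succ, Finset.sum_range_succ] at e1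
    have e2 : d.coeff (k + 2) = 1 := by rw [← hdd]; exact hd.coeff_natDegree
    rw [e2, one_smul, show S ^ (k + 2) = S * S ^ (k + 1) from pow_succ' _ _, Module.End.mul_apply] at e1
    rw [show ∑ i ∈ Finset.range (k + 1), (d.coeff i • S ^ i) v0 = δ • u by
      rw [← hδs]
      exact Finset.sum_congr rfl fun i hi => by
        rw [LinearMap.smul_apply, hε1 i (by have := Finset.mem_range.1 hi; omega)]] at e1
    rw [LinearMap.smul_apply, ← hCs, hw] at e1
    rw [hw]
    rw [eq_neg_of_add_eq_zero_right e1]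
    abel
  have hAy : A y = (1 - C (d.coeff (k + 1)) : F[X]) • (y - β • u) - δ • u + (X + 1 : F[X]) • (divX β • u +
      (C (β.coeff 0) : F[X]) • y) := by
    have e1 : y = (S ^ (k + 1)) v0 + ∑ i ∈ Finset.range (k + 1), β.coeff (k - i) • ε i := by
      rw [hw, hβs]; abel
    have e2 : A (∑ i ∈ Finset.range (k + 1), β.coeff (k - i) • ε i) = (X + 1 : F[X]) • (divX β • u +
      (C (β.coeff 0) : F[X]) • y) := by
      rw [← hβs', hX1s, map_sum, map_sum]
      exact Finset.sum_congr rfl fun i hi => by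
        rw [map_smul, map_smul, hY1 i (by have := Finset.mem_range.1 hi; omega)]
    conv_lhs => rw [e1]
    rw [map_add, e2, hA, hSw, hw, sub_smul, one_smul]
    abel
  have E3 : (X + 1 : F[X]) • (φ • u + (C (f.coeff (k + 1)) : F[X]) • y) +
      ((1 - C (d.coeff (k + 1)) : F[X]) • (y - (divX β * X + C (β.coeff 0) : F[X]) • u) - δ • u + (X + 1 : F[X]) •
        (divX β • u + (C (β.coeff 0) : F[X]) • y)) = 0 := by
    rw [hdx, ← hAy, hy, ← hφs, hX1s, hCs, ← Finset.sum_range_succ, hY2, neg_add_cancel]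
  have hP := comb_cyc E2 E3
  rw [hdx] at hP
  have hPe : (1 - C (d.coeff (k + 1))) + (X + 1) * C (f.coeff (k + 1)) + X * ((X + 1) * φ - δ) -
      (C (β.coeff 0) + C (f.coeff (k + 1)) - C (d.coeff (k + 1))) * (X + 1) * β = C (f.coeff 0) * g.comp (X + 1) := by
    rw [← hψ, hβv, ← C_add, ← C_sub, show c + d.coeff (k + 1) - f.coeff (k + 1) + f.coeff (k + 1) - d.coeff (k + 1) = c by ring,
      show C c * (X + 1) * β = (X + 1) * (C c * β) by ring, hcβ, ← hβ0]
    ring
  rw [hPe, mul_smul, hCs, hsm] at hP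
  have hf0 : f.coeff 0 ≠ 0 := by
    intro h0
    have h2 : (Polynomial.X : F[X]) ∣ f := X_dvd_iff.2 h0
    have h3 := (hfi.dvd_iff.1 h2).resolve_left not_isUnit_X
    have h4 := natDegree_eq_of_degree_eq (degree_eq_degree_of_associated h3)
    rw [natDegree_X] at h4
    omega
  have hg1 := (smul_eq_zero.1 hP).resolve_left hf0
  rw [aeval_comp, map_add, aeval_X, map_one, sub_add_cancel] at hg1
  refine charpoly_of_kill Y hg hgi (by rw [hgd, hV]) ?_ hg1
  rw [hu]
  exact hne k (by omega)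

end Cfsg.Agent.H962.PP
end

-- part: H962/PP/Slice2
section
/-!
# The slice of an element with two cyclic blocks
-/

set_option autoImplicit false

namespace Cfsg.Agent.H962.PP

open Polynomial

universe u v

variable {F : Type u} [Field F] {V : Type v} [AddCommGroup V] [Module F V] [FiniteDimensional F V]

/-- the algebra of the slice with two blocks -/
theorem comb_two {R : Type*} [CommRing R] {W : Type*} [AddCommGroup W] [Module R W]
    {X l φ1 φ2 δ β1 η β2 bk d' f' Xs : R} {u x y : W}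
    (E1 : l • x = ((X + 1) * Xs) • u)
    (E2 : X • y = u - (β1 * X + η) • x - (β2 * X + bk) • u)
    (E3 : (X + 1) • (φ1 • x + φ2 • u + f' • y) +
      ((1 - d') • (y - (β1 * X + η) • x - (β2 * X + bk) • u) - δ • u +
        (X + 1) • (β1 • x + (η * Xs) • u + (β2 • u + bk • y))) = 0) :
    ((X + 1) ^ 2 * Xs * (X * φ1 - η - (bk + f' - d') * (β1 * X + η)) +
      l * ((X + 1) * (X * φ2 + f' + η * X * Xs - (bk + f' - d') * (β2 * X + bk)) + (1 - d') - X * δ)) • u = 0 := by
  linear_combination (norm := module) (l * X) • E3 - (l * ((1 - d') + (X + 1) * (bk + f'))) • E2 -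
    ((X + 1) * (X * φ1 - η - (bk + f' - d') * (β1 * X + η))) • E1

theorem coprime_lin {l : F[X]} {a : F} (h : l.eval a ≠ 0) : IsCoprime l (X - C a) :=
  ((irreducible_X_sub_C a).coprime_iff_not_dvd.2 fun hd => h (dvd_iff_isRoot.1 hd)).symm

/-- the linear equation of the slice with two blocks -/
theorem exists_parts {ρ σ : ℕ} {l Q : F[X]} (hl : l ∈ degreeLT F (ρ + 1)) (hQ : Q ∈ degreeLT F (ρ + σ + 2))
    (hl0 : l.eval 0 ≠ 0) (hl1 : l.eval (-1) ≠ 0) :
    ∃ H1 H2 : F[X], l * H2 + (X + 1) * X ^ σ * H1 = Q ∧ H1 ∈ degreeLT F (ρ + 1) ∧ H2 ∈ degreeLT F (σ + 1) := by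
  obtain ⟨m, hm⟩ : ∃ m : F[X], m = (X + 1) * X ^ σ := ⟨_, rfl⟩
  have hX1 : (X + 1 : F[X]) = X - C (-1) := by rw [C_neg, C_1, sub_neg_eq_add]
  have hmm : m.Monic := by rw [hm, hX1]; exact (monic_X_sub_C _).mul (monic_X_pow σ)
  have hmd : m.degree = (σ + 1 : ℕ) := by
    rw [hm, degree_mul, degree_X_one, degree_X_pow]; push_cast; rw [add_comm]
  have hco : IsCoprime l m := by
    rw [hm]
    refine IsCoprime.mul_right (by rw [hX1]; exact coprime_lin hl1) (IsCoprime.pow_right ?_)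
    have := coprime_lin hl0
    rwa [C_0, sub_zero] at this
  obtain ⟨a, b, hab⟩ := hco
  refine ⟨l * ((a * Q) /ₘ m) + b * Q, (a * Q) %ₘ m, ?_, ?_, ?_⟩
  · have h1 := modByMonic_add_div (a * Q) m
    rw [← hm]
    calc l * ((a * Q) %ₘ m) + m * (l * ((a * Q) /ₘ m) + b * Q)
        = l * ((a * Q) %ₘ m + m * ((a * Q) /ₘ m)) + b * m * Q := by ring
      _ = (a * l + b * m) * Q := by rw [h1]; ring
      _ = Q := by rw [hab, one_mul]
  · have h1 := modByMonic_add_div (a * Q) m
    have h2 : (a * Q) %ₘ m ∈ degreeLT F (σ + 1) := by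
      rw [mem_degreeLT, ← hmd]; exact degree_modByMonic_lt _ hmm
    have h3 : m * (l * ((a * Q) /ₘ m) + b * Q) ∈ degreeLT F (ρ + σ + 2) := by
      have e1 : m * (l * ((a * Q) /ₘ m) + b * Q) = Q - l * ((a * Q) %ₘ m) := by
        rw [eq_sub_iff_add_eq]
        calc m * (l * ((a * Q) /ₘ m) + b * Q) + l * ((a * Q) %ₘ m)
            = l * ((a * Q) %ₘ m + m * ((a * Q) /ₘ m)) + b * m * Q := by ring
          _ = (a * l + b * m) * Q := by rw [h1]; ring
          _ = Q := by rw [hab, one_mul]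
      rw [e1]
      refine sub_mem hQ ?_
      have hl' : l.degree ≤ (ρ + 1 : ℕ) := (mem_degreeLT.1 hl).le
      exact mul_mem_degreeLT hl' h2 (by ring)
    rw [mem_degreeLT] at h3 ⊢
    rw [degree_mul, hmd, show ((ρ + σ + 2 : ℕ) : WithBot ℕ) = (σ + 1 : ℕ) + (ρ + 1 : ℕ) by push_cast; ring] at h3
    exact lt_of_add_lt_add_left h3
  · rw [mem_degreeLT, ← hmd]; exact degree_modByMonic_lt _ hmm

theorem sum_split (a : ℕ → F) (ρ s : ℕ) :
    (∑ i ∈ Finset.range (ρ + 1 + s + 1), C (a i) * X ^ (ρ + 1 + s - i) : F[X]) =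
      X ^ (s + 1) * (∑ i ∈ Finset.range (ρ + 1), C (a i) * X ^ (ρ - i)) +
        ∑ j ∈ Finset.range (s + 1), C (a (ρ + 1 + j)) * X ^ (s - j) := by
  rw [show ρ + 1 + s + 1 = (ρ + 1) + (s + 1) by ring, Finset.sum_range_add, Finset.mul_sum]
  refine congrArg₂ (· + ·) ?_ ?_
  · refine Finset.sum_congr rfl fun i hi => ?_
    have := Finset.mem_range.1 hi
    rw [show ρ + 1 + s - i = s + 1 + (ρ - i) by omega, pow_add]
    ring
  · refine Finset.sum_congr rfl fun j hj => ?_
    rw [show ρ + 1 + s - (ρ + 1 + j) = s - j by omega]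

/-- **the slice of an element with two blocks** -/
theorem slice_two {ρ σ : ℕ} (hV : Module.finrank F V = ρ + 1 + (σ + 1) + 2) (A : Module.End F V) {v1 v2 : V}
    (hs : ⊤ ≤ Submodule.span F (Set.range (fun i : Fin (ρ + 1) => ((A - 1) ^ (i : ℕ)) v1) ∪
      Set.range fun i : Fin (σ + 3) => ((A - 1) ^ (i : ℕ)) v2))
    {p d : F[X]} (hp : p.Monic) (hpd : p.natDegree = ρ + 1) (hp0 : aeval (A - 1) p v1 = 0)
    (hd : d.Monic) (hdd : d.natDegree = σ + 3) (hd0 : aeval (A - 1) d v2 = 0)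
    {f g : F[X]} (hf : f.Monic) (hfi : Irreducible f) (hfd : f.natDegree = ρ + 1 + (σ + 1) + 2)
    (hg : g.Monic) (hgi : Irreducible g) (hgd : g.natDegree = ρ + 1 + (σ + 1) + 2) {c : F} (hc : c ≠ 0)
    (hl0 : 1 - p.coeff ρ ≠ 0) (hl1 : 1 - ∑ i ∈ Finset.range (ρ + 1), p.coeff i * (-1) ^ (ρ - i) ≠ 0)
    (hcl : 1 + c ≠ 1 - p.coeff ρ)
    (h0 : (1 - ∑ i ∈ Finset.range (ρ + 1), p.coeff i * (-1) ^ (ρ - i)) *
      (1 - d.coeff (σ + 2) + ∑ i ∈ Finset.range (σ + 2), d.coeff i * (-1) ^ (σ + 1 - i)) = f.coeff 0 * g.coeff 0)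
    (h1 : (1 - p.coeff ρ) * (1 + c) * (1 + f.coeff (ρ + 1 + (σ + 1) + 1) - d.coeff (σ + 2) - c) =
      f.coeff 0 * g.eval 1) :
    ∃ X Y : Module.End F V, Y * X = A ∧ LinearMap.charpoly X = f ∧ LinearMap.charpoly Y = g := by
  classical
  obtain ⟨S, hS⟩ : ∃ S, S = A - 1 := ⟨_, rfl⟩
  rw [← hS] at hs hd0 hp0
  have hA : ∀ v, A v = v + S v := fun v => by rw [hS]; simp
  obtain ⟨π, hπ⟩ : ∃ π : F[X], π = ∑ i ∈ Finset.range (ρ + 1), C (p.coeff i) * X ^ (ρ - i) := ⟨_, rfl⟩
  obtain ⟨φ1, hφ1⟩ : ∃ φ : F[X], φ = ∑ i ∈ Finset.range (ρ + 1), C (f.coeff i) * X ^ (ρ - i) := ⟨_, rfl⟩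
  obtain ⟨φ2, hφ2⟩ : ∃ φ : F[X], φ = ∑ i ∈ Finset.range (σ + 2), C (f.coeff (ρ + 1 + i)) * X ^ (σ + 1 - i) := ⟨_, rfl⟩
  obtain ⟨δ, hδ⟩ : ∃ δ : F[X], δ = ∑ i ∈ Finset.range (σ + 2), C (d.coeff i) * X ^ (σ + 1 - i) := ⟨_, rfl⟩
  have hπd : π ∈ degreeLT F (ρ + 1) := by
    rw [hπ]; exact mem_degreeLT.2 (degree_rev (fun i => p.coeff i) (ρ + 1))
  have hφ1d : φ1 ∈ degreeLT F (ρ + 1) := by
    rw [hφ1]; exact mem_degreeLT.2 (degree_rev (fun i => f.coeff i) (ρ + 1))
  have hφ2d : φ2 ∈ degreeLT F (σ + 2) := by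
    rw [hφ2]; exact mem_degreeLT.2 (degree_rev (fun i => f.coeff (ρ + 1 + i)) (σ + 2))
  have hδd : δ ∈ degreeLT F (σ + 2) := by
    rw [hδ]; exact mem_degreeLT.2 (degree_rev (fun i => d.coeff i) (σ + 2))
  obtain ⟨l, hl⟩ : ∃ l : F[X], l = 1 - π := ⟨_, rfl⟩
  have hld : l ∈ degreeLT F (ρ + 1) := by
    rw [hl, ← C_1]; exact sub_mem (C_mem_degreeLT _ (by omega)) hπd
  have hle0 : l.eval 0 = 1 - p.coeff ρ := by
    rw [hl, hπ, Finset.sum_range_succ]
    simp only [eval_sub, eval_one, eval_add, eval_finsetSum, eval_mul, eval_C, eval_pow, eval_X]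
    rw [Finset.sum_eq_zero, zero_add, Nat.sub_self, pow_zero, mul_one]
    intro i hi
    rw [zero_pow (by have := Finset.mem_range.1 hi; omega), mul_zero]
  have hle1 : l.eval (-1) = 1 - ∑ i ∈ Finset.range (ρ + 1), p.coeff i * (-1) ^ (ρ - i) := by
    rw [hl, hπ]
    simp only [eval_finsetSum, _root_.Polynomial.eval_sub, _root_.Polynomial.eval_one, _root_.Polynomial.eval_mul, _root_.Polynomial.eval_C, _root_.Polynomial.eval_pow, _root_.Polynomial.eval_X]
  rw [← hle1] at hl1 h0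
  rw [← hle0] at hl0 hcl h1
  obtain ⟨f', hf'⟩ : ∃ f', f' = f.coeff (ρ + 1 + (σ + 1) + 1) := ⟨_, rfl⟩
  obtain ⟨d', hd'⟩ : ∃ d', d' = d.coeff (σ + 2) := ⟨_, rfl⟩
  rw [← hf', ← hd'] at h1
  rw [← hd'] at h0
  obtain ⟨ψ, hψ⟩ : ∃ ψ : F[X], ψ = l * ((1 - C d') - X * δ) + (X + 1) * l * (C f' + X * φ2) +
      (X + 1) ^ 2 * X ^ (σ + 2) * φ1 := ⟨_, rfl⟩
  have hsub : ∀ {m n : ℕ}, m ≤ n → ∀ {q : F[X]}, q ∈ degreeLT F m → q ∈ degreeLT F n := fun h q hq =>
    mem_degreeLT.2 ((mem_degreeLT.1 hq).trans_le (by exact_mod_cast h))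
  have hlρ : l.degree ≤ (ρ : ℕ) := by
    have := mem_degreeLT.1 hld
    rw [degree_lt_iff_coeff_zero] at this
    exact (degree_le_iff_coeff_zero _ _).2 fun m hm => this m (by
      have : (ρ : WithBot ℕ) < m := hm
      have : ρ < m := by exact_mod_cast this
      omega)
  have hN1 : (ψ - C (f.coeff 0) * g.comp (X + 1)) ∈ degreeLT F (ρ + 1 + (σ + 1) + 2) := by
    refine degree_num hg hgd ?_
    rw [sum_split f.coeff ρ (σ + 1), ← hφ1, ← hφ2]
    have e1 : ψ - X * (X + 1) * (X ^ (σ + 1 + 1) * φ1 + φ2) = l * ((C (1 - d') + C f') + (C f' * X - X * δ)) +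
        (X * (X + 1) * (l * φ2) + (((X + 1) * (X ^ (σ + 2) * φ1)) - X * (X + 1) * φ2)) := by
      rw [hψ, C_sub, C_1]; ring
    rw [e1]
    refine add_mem ?_ (add_mem ?_ (sub_mem ?_ ?_))
    · refine hsub (by omega) (mul_mem_degreeLT (N := ρ + (σ + 3)) hlρ (n := σ + 3) ?_ (by ring))
      refine add_mem (add_mem (C_mem_degreeLT _ (by omega)) (C_mem_degreeLT _ (by omega)))
        (sub_mem (CX_mem_degreeLT _ (by omega)) ?_)
      exact mul_mem_degreeLT (by rw [degree_X]; rfl) hδd (by ring)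
    · refine mul_mem_degreeLT degree_XX_one.le (n := ρ + (σ + 2)) (mul_mem_degreeLT hlρ hφ2d rfl) (by ring)
    · refine hsub ?_ (mul_mem_degreeLT (N := 1 + (σ + 2 + (ρ + 1))) degree_X_one.le
        (mul_mem_degreeLT (degree_X_pow_le _) hφ1d rfl) rfl)
      omega
    · refine hsub ?_ (mul_mem_degreeLT (N := 2 + (σ + 2)) degree_XX_one.le hφ2d rfl)
      omega
  have hN2 : (ψ - C (f.coeff 0) * g.comp (X + 1)).IsRoot (-1) := by
    rw [IsRoot.def, eval_sub, eval_mul, eval_C, eval_comp, eval_add, eval_X, eval_one, neg_add_cancel, ← coeff_zero_eq_eval_zero,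
      ← h0, hψ, hδ]
    simp only [eval_finsetSum, _root_.Polynomial.eval_add, _root_.Polynomial.eval_mul, _root_.Polynomial.eval_sub, _root_.Polynomial.eval_one, _root_.Polynomial.eval_C, _root_.Polynomial.eval_X, _root_.Polynomial.eval_pow, _root_.neg_mul, _root_.one_mul, _root_.sub_neg_eq_add, _root_.neg_add_cancel, _root_.MulZeroClass.zero_mul, _root_.add_zero, _root_.ne_eq, _root_.OfNat.ofNat_ne_zero, _root_.not_false_eq_true, _root_.zero_pow, _root_.sub_self]
  obtain ⟨N, hN⟩ := dvd_iff_isRoot.2 hN2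
  rw [show (X - C (-1) : F[X]) = X + 1 by rw [C_neg, C_1, sub_neg_eq_add]] at hN
  have hNd : N ∈ degreeLT F (ρ + σ + 3) := by
    rw [mem_degreeLT] at hN1 ⊢
    rw [hN, degree_mul, degree_X_one, show ((ρ + 1 + (σ + 1) + 2 : ℕ) : WithBot ℕ) = (1 : ℕ) + (ρ + σ + 3 : ℕ) by
      push_cast; ring] at hN1
    exact lt_of_add_lt_add_left hN1
  obtain ⟨bk, hbk⟩ : ∃ bk, bk = c + d' - f' := ⟨_, rfl⟩
  have hN0 : N.eval 0 = c * bk * l.eval 0 := by
    have e1 := congrArg (eval 0) hN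
    rw [eval_sub, eval_mul, eval_C, eval_comp, eval_add, eval_X, eval_one, zero_add, eval_mul, eval_add, eval_X, eval_one,
      zero_add, one_mul, ← h1, hψ] at e1
    simp only [eval_add, eval_sub, eval_mul, eval_C, eval_X, eval_one, eval_pow, zero_mul, add_zero, zero_add, one_mul,
      sub_zero, zero_pow (Nat.succ_ne_zero _), mul_zero, one_pow] at e1
    rw [← e1, hbk]
    ring
  have hQ1 : (N - C (c * bk) * l).IsRoot 0 := by
    rw [IsRoot.def, eval_sub, eval_mul, eval_C, hN0, sub_self]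
  obtain ⟨Q, hQ⟩ := dvd_iff_isRoot.2 hQ1
  rw [C_0, sub_zero] at hQ
  have hQd : Q ∈ degreeLT F (ρ + σ + 2) := by
    have e1 : N - C (c * bk) * l ∈ degreeLT F (ρ + σ + 3) := by
      refine sub_mem hNd ?_
      rw [← smul_eq_C_mul]
      exact Submodule.smul_mem _ _ (hsub (by omega) hld)
    rw [mem_degreeLT] at e1 ⊢
    rw [hQ, degree_mul, degree_X, show ((ρ + σ + 3 : ℕ) : WithBot ℕ) = 1 + (ρ + σ + 2 : ℕ) by push_cast; ring] at e1
    exact lt_of_add_lt_add_left e1
  obtain ⟨H1, H2, hH, hH1, hH2⟩ := exists_parts hld hQd hl0 hl1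
  obtain ⟨η, hη⟩ : ∃ η, η * (1 + c - l.eval 0) = H1.coeff 0 :=
    ⟨H1.coeff 0 / (1 + c - l.eval 0), div_mul_cancel₀ _ (sub_ne_zero.2 hcl)⟩
  obtain ⟨β1, hβ1⟩ : ∃ β : F[X], β = C c⁻¹ * (H1 + C η * l - C η) := ⟨_, rfl⟩
  obtain ⟨β2, hβ2⟩ : ∃ β : F[X], β = C c⁻¹ * (H2 - C η * X ^ σ) := ⟨_, rfl⟩
  have hcβ1 : C c * β1 = H1 + C η * l - C η := by
    rw [hβ1, ← mul_assoc, ← C_mul, mul_inv_cancel₀ hc, C_1, one_mul]
  have hcβ2 : C c * β2 = H2 - C η * X ^ σ := by
    rw [hβ2, ← mul_assoc, ← C_mul, mul_inv_cancel₀ hc, C_1, one_mul]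
  have hβ1d : β1 ∈ degreeLT F (ρ + 1) := by
    rw [hβ1, ← smul_eq_C_mul, ← smul_eq_C_mul]
    exact Submodule.smul_mem _ _ (sub_mem (add_mem hH1 (Submodule.smul_mem _ _ hld)) (C_mem_degreeLT _ (by omega)))
  have hβ2d : β2 ∈ degreeLT F (σ + 1) := by
    rw [hβ2, ← smul_eq_C_mul, ← smul_eq_C_mul]
    refine Submodule.smul_mem _ _ (sub_mem hH2 (Submodule.smul_mem _ _ ?_))
    exact mem_degreeLT.2 ((degree_X_pow_le σ).trans_lt (by exact_mod_cast Nat.lt_succ_self σ))
  have hβ1v : β1.coeff 0 = η := by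
    have e1 := congrArg (fun q : F[X] => q.coeff 0) hcβ1
    simp only [coeff_C_mul, coeff_add, coeff_sub, coeff_C_zero] at e1
    rw [← hη, coeff_zero_eq_eval_zero l] at e1
    refine mul_left_cancel₀ hc (e1.trans ?_)
    ring
  obtain ⟨γ, hγ⟩ : ∃ γ : F[X], γ = β2 * X + C bk := ⟨_, rfl⟩
  have hγd : γ ∈ degreeLT F (σ + 2) := by
    rw [hγ, mul_comm]
    exact add_mem (mul_mem_degreeLT (by rw [degree_X]; rfl) hβ2d (by ring)) (C_mem_degreeLT _ (by omega))
  have hγx : divX γ = β2 := by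
    ext n
    rw [coeff_divX, hγ, coeff_add, coeff_mul_X, coeff_C_succ, add_zero]
  have hγ0 : γ.coeff 0 = bk := by
    rw [hγ, coeff_add, mul_coeff_zero, coeff_X_zero, mul_zero, zero_add, coeff_C_zero]
  obtain ⟨k, hk⟩ : ∃ k, k = ρ + 1 + (σ + 1) := ⟨_, rfl⟩
  obtain ⟨w, hw⟩ : ∃ w, w = (S ^ (σ + 2)) v2 := ⟨_, rfl⟩
  obtain ⟨ε, hε1, hε2, hε3⟩ : ∃ ε : ℕ → V, (∀ i ≤ ρ, ε i = (S ^ i) v1) ∧ (∀ j ≤ σ + 1, ε (ρ + 1 + j) = (S ^ j) v2) ∧
      ε (k + 1) = w + (∑ i ∈ Finset.range (ρ + 1), β1.coeff (ρ - i) • (S ^ i) v1 +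
        ∑ j ∈ Finset.range (σ + 2), γ.coeff (σ + 1 - j) • (S ^ j) v2) := by
    refine ⟨fun i => if i ≤ ρ then (S ^ i) v1 else if i ≤ k then (S ^ (i - (ρ + 1))) v2 else
      w + (∑ i ∈ Finset.range (ρ + 1), β1.coeff (ρ - i) • (S ^ i) v1 +
        ∑ j ∈ Finset.range (σ + 2), γ.coeff (σ + 1 - j) • (S ^ j) v2), fun i hi => if_pos hi, fun j hj => ?_, ?_⟩
    · simp only []
      rw [if_neg (by omega), if_pos (by omega), Nat.add_sub_cancel_left]
    · simp only []
      rw [if_neg (by omega), if_neg (by omega)]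
  have hs' : ⊤ ≤ Submodule.span F (Set.range fun i : Fin (k + 2) => ε i) := by
    have g1 : ∀ i ≤ ρ, (S ^ i) v1 ∈ Submodule.span F (Set.range fun i : Fin (k + 2) => ε i) := fun i hi =>
      Submodule.subset_span ⟨⟨i, by omega⟩, hε1 i hi⟩
    have g2 : ∀ i ≤ σ + 1, (S ^ i) v2 ∈ Submodule.span F (Set.range fun i : Fin (k + 2) => ε i) := fun i hi =>
      Submodule.subset_span ⟨⟨ρ + 1 + i, by omega⟩, hε2 i hi⟩
    refine hs.trans (Submodule.span_le.2 (Set.union_subset ?_ ?_))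
    · rintro _ ⟨i, rfl⟩
      exact g1 i (by omega)
    · rintro _ ⟨i, rfl⟩
      by_cases hi : (i : ℕ) ≤ σ + 1
      · exact g2 _ hi
      · have h3 : (i : ℕ) = σ + 2 := by omega
        change (S ^ (i : ℕ)) v2 ∈ _
        rw [h3, ← hw, show w = ε (k + 1) - (∑ i ∈ Finset.range (ρ + 1), β1.coeff (ρ - i) • (S ^ i) v1 +
          ∑ j ∈ Finset.range (σ + 2), γ.coeff (σ + 1 - j) • (S ^ j) v2) by rw [hε3, add_sub_cancel_right]]
        refine sub_mem (Submodule.subset_span ⟨⟨k + 1, by omega⟩, rfl⟩) (add_mem ?_ ?_)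
        · exact Submodule.sum_mem _ fun i hi => Submodule.smul_mem _ _ (g1 i (by have := Finset.mem_range.1 hi; omega))
        · exact Submodule.sum_mem _ fun i hi => Submodule.smul_mem _ _ (g2 i (by have := Finset.mem_range.1 hi; omega))
  obtain ⟨XX, Y, hYX, hXc, hY1, hY2, hne⟩ := frame (k := k) (by rw [hV, hk]) ε hs' hf hfi (by rw [hfd, hk]) A
  refine ⟨XX, Y, hYX, hXc, ?_⟩
  let _ : Module F[X] V := Module.compHom V (aeval (Y - 1) : F[X] →ₐ[F] Module.End F V).toRingHom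
  have hsm : ∀ (p : F[X]) (v : V), p • v = aeval (Y - 1) p v := fun _ _ => rfl
  have hXs : ∀ v : V, (X : F[X]) • v = Y v - v := fun v => by rw [hsm, aeval_X]; rfl
  have hX1s : ∀ v : V, (X + 1 : F[X]) • v = Y v := fun v => by rw [add_smul, one_smul, hXs, sub_add_cancel]
  have hCs : ∀ (a : F) (v : V), (C a : F[X]) • v = a • v := fun a v => by rw [hsm, aeval_C]; rfl
  obtain ⟨u, hu⟩ : ∃ u, u = ε k := ⟨_, rfl⟩
  obtain ⟨x, hx⟩ : ∃ x, x = ε ρ := ⟨_, rfl⟩
  obtain ⟨y, hy⟩ : ∃ y, y = ε (k + 1) := ⟨_, rfl⟩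
  have hSε1 : ∀ i < ρ, S (ε i) = ε (i + 1) := fun i hi => by
    rw [hε1 i hi.le, hε1 (i + 1) hi, pow_succ', Module.End.mul_apply]
  have hSε2 : ∀ j < σ + 1, S (ε (ρ + 1 + j)) = ε (ρ + 1 + (j + 1)) := fun j hj => by
    rw [hε2 j hj.le, hε2 (j + 1) hj, pow_succ', Module.End.mul_apply]
  have hM1 : ∀ i < ρ, (X : F[X]) • ε (i + 1) = ε i := fun i hi => by
    rw [hXs, hY1 i (by omega), hA, hSε1 i hi, add_sub_cancel_right]
  have hM2 : ∀ j < σ + 1, (X : F[X]) • ε (ρ + 1 + (j + 1)) = ε (ρ + 1 + j) := fun j hj => by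
    rw [hXs, show ρ + 1 + (j + 1) = ρ + 1 + j + 1 by ring, hY1 (ρ + 1 + j) (by omega), hA, hSε2 j hj,
      show ρ + 1 + (j + 1) = ρ + 1 + j + 1 by ring, add_sub_cancel_right]
  have hxr : ∀ j ≤ ρ, ε (ρ - j) = (X ^ j : F[X]) • x := by
    intro j
    induction j with
    | zero => intro _; rw [pow_zero, one_smul, Nat.sub_zero, hx]
    | succ j ih =>
      intro hj
      rw [pow_succ', mul_smul, ← ih (by omega), ← hM1 (ρ - (j + 1)) (by omega), show ρ - (j + 1) + 1 = ρ - j by (clear * - hdd hj; omega)]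
  have hur : ∀ j ≤ σ + 1, (fun i => ε (ρ + 1 + i)) (σ + 1 - j) = (X ^ j : F[X]) • u := by
    intro j
    simp only []
    induction j with
    | zero => intro _; rw [pow_zero, one_smul, Nat.sub_zero, hu, hk]
    | succ j ih =>
      intro hj
      rw [pow_succ', mul_smul, ← ih (by omega), ← hM2 (σ + 1 - (j + 1)) (by omega),
        show σ + 1 - (j + 1) + 1 = σ + 1 - j by omega]
  have hxρ : ε (ρ + 1) = (X ^ (σ + 1) : F[X]) • u := by
    have := hur (σ + 1) le_rfl
    simpa using this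
  have hβs : ∑ i ∈ Finset.range (ρ + 1), β1.coeff (ρ - i) • ε i = β1 • x := by
    rw [← rev_sum (mem_degreeLT.1 hβ1d) hxr]
    exact Finset.sum_congr rfl fun i _ => (hCs _ _).symm
  have hβs' : ∑ i ∈ Finset.range (ρ + 1), β1.coeff (ρ - i) • ε (i + 1) =
      divX β1 • x + (C η * X ^ (σ + 1) : F[X]) • u := by
    rw [Finset.sum_range_succ, ← rev_sum' (mem_degreeLT.1 hβ1d) hxr, mul_smul, ← hxρ, hCs, Nat.sub_self, hβ1v]
    congr 1
    exact Finset.sum_congr rfl fun i _ => (hCs _ _).symm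
  have hγs : ∑ j ∈ Finset.range (σ + 2), γ.coeff (σ + 1 - j) • ε (ρ + 1 + j) = γ • u := by
    rw [← rev_sum (k := σ + 1) (ε := fun i => ε (ρ + 1 + i)) (mem_degreeLT.1 hγd) hur]
    exact Finset.sum_congr rfl fun i _ => (hCs _ _).symm
  have hγs' : ∑ j ∈ Finset.range (σ + 2), γ.coeff (σ + 1 - j) • ε (ρ + 1 + j + 1) = β2 • u + (C bk : F[X]) • y := by
    rw [Finset.sum_range_succ, ← hγx, ← rev_sum' (k := σ + 1) (ε := fun i => ε (ρ + 1 + i)) (mem_degreeLT.1 hγd) hur, hCs, Nat.sub_self, hγ0, hy, hk]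
    congr 1
    exact Finset.sum_congr rfl fun i _ => (hCs _ _).symm
  have hφs1 : ∑ i ∈ Finset.range (ρ + 1), f.coeff i • ε i = φ1 • x := by
    rw [hφ1, ← rev_sum_const hxr]
    exact Finset.sum_congr rfl fun i _ => (hCs _ _).symm
  have hφs2 : ∑ j ∈ Finset.range (σ + 2), f.coeff (ρ + 1 + j) • ε (ρ + 1 + j) = φ2 • u := by
    rw [hφ2, ← rev_sum_const (k := σ + 1) (ε := fun i => ε (ρ + 1 + i)) (a := fun j => f.coeff (ρ + 1 + j)) hur]
    exact Finset.sum_congr rfl fun i _ => (hCs _ _).symm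
  have hδs : ∑ j ∈ Finset.range (σ + 2), d.coeff j • ε (ρ + 1 + j) = δ • u := by
    rw [hδ, ← rev_sum_const (k := σ + 1) (ε := fun i => ε (ρ + 1 + i)) (a := fun j => d.coeff j) hur]
    exact Finset.sum_congr rfl fun i _ => (hCs _ _).symm
  have hπs : ∑ i ∈ Finset.range (ρ + 1), p.coeff i • ε i = π • x := by
    rw [hπ, ← rev_sum_const hxr]
    exact Finset.sum_congr rfl fun i _ => (hCs _ _).symm
  have hyw : y = w + (β1 • x + γ • u) := by
    rw [hy, hε3, ← hβs, ← hγs]
    congr 2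
    · exact Finset.sum_congr rfl fun i hi => by rw [hε1 i (by have := Finset.mem_range.1 hi; omega)]
    · exact Finset.sum_congr rfl fun i hi => by rw [hε2 i (by have := Finset.mem_range.1 hi; omega)]
  have hSu : S u = w := by
    rw [hw, hu, hk, hε2 (σ + 1) le_rfl, ← Module.End.mul_apply, ← pow_succ']
  have hSx : S x = -(π • x) := by
    have e1 := hp0
    rw [aeval_eq_sum_range, LinearMap.sum_apply, hpd, Finset.sum_range_succ] at e1
    have e2 : p.coeff (ρ + 1) = 1 := by rw [← hpd]; exact hp.coeff_natDegree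
    rw [e2, one_smul, pow_succ', Module.End.mul_apply] at e1
    rw [show ∑ i ∈ Finset.range (ρ + 1), (p.coeff i • S ^ i) v1 = π • x by
      rw [← hπs]
      exact Finset.sum_congr rfl fun i hi => by
        rw [LinearMap.smul_apply, hε1 i (by have := Finset.mem_range.1 hi; omega)]] at e1
    have e3 : S x = S ((S ^ ρ) v1) := by rw [hx, hε1 ρ le_rfl]
    rw [e3]
    exact (neg_eq_of_add_eq_zero_right e1).symm
  have E1 : l • x = ((X + 1) * X ^ (σ + 1) : F[X]) • u := by
    rw [mul_smul, ← hxρ, hX1s, hY1 ρ (by omega), hA, ← hx, hSx, hl, sub_smul, one_smul, sub_eq_add_neg]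
  have hdx : (divX β1 * X + C η : F[X]) = β1 := by
    rw [← hβ1v]; exact divX_mul_X_add β1
  have E2 : (X : F[X]) • y = u - (divX β1 * X + C η : F[X]) • x - (β2 * X + C bk : F[X]) • u := by
    rw [hdx, ← hγ, hXs]
    conv_lhs => rw [hyw, ← hyw, hy, hY1 k le_rfl, hA, ← hu, hSu, ← hy, hyw]
    abel
  have hSw : S w = -(δ • u) - (C d' : F[X]) • w := by
    have e1 := hd0
    rw [aeval_eq_sum_range, LinearMap.sum_apply, hdd, Finset.sum_range_succ, Finset.sum_range_succ] at e1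
    have e2 : d.coeff (σ + 3) = 1 := by rw [← hdd]; exact hd.coeff_natDegree
    rw [e2, one_smul, show S ^ (σ + 3) = S * S ^ (σ + 2) from pow_succ' _ _, Module.End.mul_apply] at e1
    rw [show ∑ i ∈ Finset.range (σ + 2), (d.coeff i • S ^ i) v2 = δ • u by
      rw [← hδs]
      exact Finset.sum_congr rfl fun i hi => by
        rw [LinearMap.smul_apply, hε2 i (by have := Finset.mem_range.1 hi; omega)]] at e1
    rw [LinearMap.smul_apply, ← hCs, ← hd', ← hw] at e1
    rw [eq_neg_of_add_eq_zero_right e1]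
    abel
  have hAy : A y = (1 - C d' : F[X]) • w - δ • u + (X + 1 : F[X]) • (divX β1 • x + (C η * X ^ (σ + 1) : F[X]) • u +
      (β2 • u + (C bk : F[X]) • y)) := by
    have e2 : A (β1 • x) = (X + 1 : F[X]) • (divX β1 • x + (C η * X ^ (σ + 1) : F[X]) • u) := by
      rw [← hβs', ← hβs, hX1s, map_sum, map_sum]
      exact Finset.sum_congr rfl fun i hi => by
        rw [map_smul, map_smul, hY1 i (by have := Finset.mem_range.1 hi; omega)]
    have e3 : A (γ • u) = (X + 1 : F[X]) • (β2 • u + (C bk : F[X]) • y) := by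
      rw [← hγs', ← hγs, hX1s, map_sum, map_sum]
      exact Finset.sum_congr rfl fun i hi => by
        rw [map_smul, map_smul, hY1 (ρ + 1 + i) (by have := Finset.mem_range.1 hi; omega)]
    conv_lhs => rw [hyw]
    rw [map_add, map_add, e2, e3, hA, hSw, sub_smul, one_smul, smul_add (X + 1 : F[X]) (divX β1 • x + _)]
    abel
  have hwy : w = y - (divX β1 * X + C η : F[X]) • x - (β2 * X + C bk : F[X]) • u := by
    rw [hdx, ← hγ, hyw]; abel
  have E3 : (X + 1 : F[X]) • (φ1 • x + φ2 • u + (C f' : F[X]) • y) +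
      ((1 - C d' : F[X]) • (y - (divX β1 * X + C η : F[X]) • x - (β2 * X + C bk : F[X]) • u) - δ • u +
        (X + 1 : F[X]) • (divX β1 • x + (C η * X ^ (σ + 1) : F[X]) • u + (β2 • u + (C bk : F[X]) • y))) = 0 := by
    rw [← hwy, ← hAy]
    have e1 : φ1 • x + φ2 • u + (C f' : F[X]) • y = ∑ i ∈ Finset.range (k + 2), f.coeff i • ε i := by
      rw [Finset.sum_range_succ, ← hφs1, ← hφs2, hCs, hf', hy, ← hk, show k + 1 = (ρ + 1) + (σ + 2) by omega,
        Finset.sum_range_add (fun i => f.coeff i • ε i) (ρ + 1) (σ + 2)]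
    rw [e1, hX1s, hY2, ← hy, neg_add_cancel]
  have hP := comb_two E1 E2 E3
  have hcC : (C bk + C f' - C d' : F[X]) = C c := by
    rw [hbk, ← C_add, ← C_sub]
    congr 1
    ring
  rw [hcC, hdx, ← hγ] at hP
  have hcγ : C c * γ = C (c * bk) + X * (H2 - C η * X ^ σ) := by
    rw [hγ, mul_add, ← C_mul, ← mul_assoc, hcβ2]; ring
  have hPe : (X + 1) ^ 2 * X ^ (σ + 1) * (X * φ1 - C η - C c * β1) +
      l * ((X + 1) * (X * φ2 + C f' + C η * X * X ^ (σ + 1) - C c * γ) + (1 - C d') - X * δ) =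
        C (f.coeff 0) * g.comp (X + 1) := by
    rw [hcγ, hcβ1]
    have e1 : C (f.coeff 0) * g.comp (X + 1) = ψ - (X + 1) * (X * (l * H2 + (X + 1) * X ^ σ * H1) + C (c * bk) * l) := by
      rw [hH, ← hQ, sub_add_cancel, ← hN]
      ring
    rw [e1, hψ]
    ring
  rw [hPe, mul_smul, hCs, hsm] at hP
  have hf0 : f.coeff 0 ≠ 0 := by
    intro h0
    have h2 : (Polynomial.X : F[X]) ∣ f := X_dvd_iff.2 h0
    have h3 := (hfi.dvd_iff.1 h2).resolve_left not_isUnit_X
    have h4 := natDegree_eq_of_degree_eq (degree_eq_degree_of_associated h3)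
    rw [natDegree_X] at h4
    omega
  have hg1 := (smul_eq_zero.1 hP).resolve_left hf0
  rw [aeval_comp, map_add, aeval_X, map_one, sub_add_cancel] at hg1
  refine charpoly_of_kill Y hg hgi (by rw [hgd, hV]) ?_ hg1
  rw [hu]
  exact hne k (by omega)

end Cfsg.Agent.H962.PP
end

-- part: H962/PP/Dich
section
/-!
# An endomorphism has at most two cyclic blocks, or a polynomial `q` with a large kernel

* `dich`.
-/

set_option autoImplicit false

namespace Cfsg.Agent.H962.PP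

open Polynomial Cfsg.Agent.H953

universe u v

variable {F : Type u} [Field F] {V : Type v} [AddCommGroup V] [Module F V] [FiniteDimensional F V]

omit [FiniteDimensional F V] in
theorem finrank_of_cyclic (T : Module.End F V) {d : ℕ} {g : Fin d → F[X]} {v : Fin d → V} (hmonic : ∀ i, (g i).Monic)
    (hspan : ∀ m : V, ∃ f : Fin d → F[X], m = ∑ i, aeval T (f i) (v i))
    (hind : ∀ f : Fin d → F[X], ∑ i, aeval T (f i) (v i) = 0 ↔ ∀ i, g i ∣ f i) :
    Module.finrank F V = ∑ i, (g i).natDegree := by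
  classical
  have hann : ∀ i (f : F[X]), aeval T f (v i) = 0 ↔ g i ∣ f := by
    intro i f
    have := hind (fun j => if j = i then f else 0)
    rw [Finset.sum_eq_single i] at this
    · simp only [if_true] at this
      rw [this]
      constructor
      · intro h; simpa only [↓ _root_.reduceIte] using h i
      · intro h j
        by_cases hj : j = i
        · subst hj; simpa only [↓ _root_.reduceIte] using h
        · simp [hj]
    · intro j _ hj; simp [hj]
    · intro h; exact absurd (Finset.mem_univ i) h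
  let w : (Σ i : Fin d, Fin (g i).natDegree) → V := fun a => (T ^ (a.2 : ℕ)) (v a.1)
  have hw : ∀ c : (Σ i : Fin d, Fin (g i).natDegree) → F, ∑ a, c a • w a =
      ∑ i, aeval T (∑ j : Fin (g i).natDegree, C (c ⟨i, j⟩) * X ^ (j : ℕ)) (v i) := by
    intro c
    rw [Fintype.sum_sigma]
    refine Finset.sum_congr rfl fun i _ => ?_
    rw [map_sum, LinearMap.sum_apply]
    refine Finset.sum_congr rfl fun j _ => ?_
    rw [map_mul, aeval_C, map_pow, aeval_X]
    simp only [w, Algebra.algebraMap_eq_smul_one, _root_.Algebra.smul_mul_assoc, _root_.one_mul, _root_.LinearMap.smul_apply]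
  have hdeg : ∀ i (c : Fin (g i).natDegree → F),
      (∑ j : Fin (g i).natDegree, C (c j) * X ^ (j : ℕ)).degree < (g i).degree := by
    intro i c
    rw [Polynomial.degree_eq_natDegree (hmonic i).ne_zero]
    exact Polynomial.degree_sum_fin_lt c
  have hli : LinearIndependent F w := by
    rw [Fintype.linearIndependent_iff]
    intro c hc
    rw [hw, hind] at hc
    rintro ⟨i, j⟩
    have h0 := Polynomial.eq_zero_of_dvd_of_degree_lt (hc i) (hdeg i fun j => c ⟨i, j⟩)
    have h1 := congrArg (fun p => p.coeff (j : ℕ)) h0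
    simp only [Polynomial.finsetSum_coeff, Polynomial.coeff_C_mul, Polynomial.coeff_X_pow, coeff_zero] at h1
    rw [Finset.sum_eq_single j] at h1
    · simpa using h1
    · intro k _ hk
      rw [if_neg, mul_zero]
      intro h; exact hk (Fin.ext h.symm)
    · intro h; exact absurd (Finset.mem_univ j) h
  have hsp : ⊤ ≤ Submodule.span F (Set.range w) := by
    intro m _
    obtain ⟨f, hf⟩ := hspan m
    rw [hf]
    refine Submodule.sum_mem _ fun i _ => ?_
    have e1 : aeval T (f i) (v i) = aeval T (f i %ₘ g i) (v i) := by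
      conv_lhs => rw [← Polynomial.modByMonic_add_div (f i) (g i)]
      rw [map_add, mul_comm (g i), map_mul, LinearMap.add_apply]
      rw [Module.End.mul_apply, (hann i (g i)).mpr dvd_rfl, map_zero, add_zero]
    rw [e1]
    have hlt : (f i %ₘ g i).natDegree < (g i).natDegree ∨ f i %ₘ g i = 0 := by
      by_cases h : f i %ₘ g i = 0
      · exact Or.inr h
      · exact Or.inl (Polynomial.natDegree_lt_natDegree h (Polynomial.degree_modByMonic_lt _ (hmonic i)))
    rcases hlt with hlt | h0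
    · rw [Polynomial.aeval_eq_sum_range' hlt, LinearMap.sum_apply]
      refine Submodule.sum_mem _ fun j hj => ?_
      rw [LinearMap.smul_apply]
      refine Submodule.smul_mem _ _ (Submodule.subset_span ⟨⟨i, ⟨j, Finset.mem_range.mp hj⟩⟩, rfl⟩)
    · rw [h0, map_zero, LinearMap.zero_apply]; exact zero_mem _
  rw [Module.finrank_eq_card_basis (Module.Basis.mk hli hsp), Fintype.card_sigma]
  simp only [_root_.Fintype.card_fin]

/-- **two blocks** -/
theorem two_blocks (T : Module.End F V) {v1 v2 : V} {g1 g2 : F[X]} (h1 : g1.Monic) (h2 : g2.Monic)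
    (hV : Module.finrank F V = g1.natDegree + g2.natDegree)
    (hind : ∀ f1 f2 : F[X], aeval T f1 v1 + aeval T f2 v2 = 0 ↔ g1 ∣ f1 ∧ g2 ∣ f2) :
    (⊤ ≤ Submodule.span F (Set.range (fun i : Fin g1.natDegree => (T ^ (i : ℕ)) v1) ∪
      Set.range fun i : Fin g2.natDegree => (T ^ (i : ℕ)) v2)) ∧ aeval T g1 v1 = 0 ∧ aeval T g2 v2 = 0 ∧
    LinearMap.det T = (-1) ^ (g1.natDegree + g2.natDegree) * (g1.coeff 0 * g2.coeff 0) := by
  classical
  have ha1 : aeval T g1 v1 = 0 := by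
    have := (hind g1 0).2 ⟨dvd_rfl, dvd_zero _⟩
    simpa only [_root_.map_zero, _root_.LinearMap.zero_apply, _root_.add_zero] using this
  have ha2 : aeval T g2 v2 = 0 := by
    have := (hind 0 g2).2 ⟨dvd_zero _, dvd_rfl⟩
    simpa only [_root_.map_zero, _root_.LinearMap.zero_apply, _root_.zero_add] using this
  let g : Fin 2 → F[X] := ![g1, g2]
  let v : Fin 2 → V := ![v1, v2]
  have hmonic : ∀ i, (g i).Monic := by
    intro i; fin_cases i
    · exact h1
    · exact h2
  let w : (Σ i : Fin 2, Fin (g i).natDegree) → V := fun a => (T ^ (a.2 : ℕ)) (v a.1)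
  have hw : ∀ c : (Σ i : Fin 2, Fin (g i).natDegree) → F, ∑ a, c a • w a =
      ∑ i, aeval T (∑ j : Fin (g i).natDegree, C (c ⟨i, j⟩) * X ^ (j : ℕ)) (v i) := by
    intro c
    rw [Fintype.sum_sigma]
    refine Finset.sum_congr rfl fun i _ => ?_
    rw [map_sum, LinearMap.sum_apply]
    refine Finset.sum_congr rfl fun j _ => ?_
    rw [map_mul, aeval_C, map_pow, aeval_X]
    simp only [w, Algebra.algebraMap_eq_smul_one, _root_.Algebra.smul_mul_assoc, _root_.one_mul, _root_.LinearMap.smul_apply]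
  have hdeg : ∀ i (c : Fin (g i).natDegree → F),
      (∑ j : Fin (g i).natDegree, C (c j) * X ^ (j : ℕ)).degree < (g i).degree := by
    intro i c
    rw [Polynomial.degree_eq_natDegree (hmonic i).ne_zero]
    exact Polynomial.degree_sum_fin_lt c
  have hli : LinearIndependent F w := by
    rw [Fintype.linearIndependent_iff]
    intro c hc
    rw [hw, Fin.sum_univ_two] at hc
    have hc2 := (hind _ _).1 hc
    have hc3 : ∀ i, g i ∣ ∑ j : Fin (g i).natDegree, C (c ⟨i, j⟩) * X ^ (j : ℕ) := by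
      intro i; fin_cases i
      · exact hc2.1
      · exact hc2.2
    rintro ⟨i, j⟩
    have h0 := Polynomial.eq_zero_of_dvd_of_degree_lt (hc3 i) (hdeg i fun j => c ⟨i, j⟩)
    have h1 := congrArg (fun p => p.coeff (j : ℕ)) h0
    simp only [Polynomial.finsetSum_coeff, Polynomial.coeff_C_mul, Polynomial.coeff_X_pow, coeff_zero] at h1
    rw [Finset.sum_eq_single j] at h1
    · simpa using h1
    · intro k _ hk
      rw [if_neg, mul_zero]
      intro h; exact hk (Fin.ext h.symm)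
    · intro h; exact absurd (Finset.mem_univ j) h
  have hcard : Fintype.card (Σ i : Fin 2, Fin (g i).natDegree) = Module.finrank F V := by
    rw [Fintype.card_sigma, Fin.sum_univ_two, hV, Fintype.card_fin, Fintype.card_fin]
    rfl
  have hsp : ⊤ ≤ Submodule.span F (Set.range w) := (hli.span_eq_top_of_card_eq_finrank' hcard).ge
  let b := Module.Basis.mk hli hsp
  have hb : ∀ i j, b ⟨i, j⟩ = (T ^ (j : ℕ)) (v i) := by
    intro i j
    rw [Module.Basis.mk_apply]
  refine ⟨?_, ha1, ha2, ?_⟩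
  · refine hsp.trans (Submodule.span_mono ?_)
    rintro _ ⟨⟨i, j⟩, rfl⟩
    fin_cases i
    · exact Or.inl ⟨j, rfl⟩
    · exact Or.inr ⟨j, rfl⟩
  · rw [← LinearMap.det_toMatrix b, toMatrix_basis T b hmonic hb (by
      intro i; fin_cases i
      · exact ha1
      · exact ha2), det_blockDiagonal', Fin.prod_univ_two, det_comp (hmonic 0), det_comp (hmonic 1)]
    change (-1) ^ g1.natDegree * g1.coeff 0 * ((-1) ^ g2.natDegree * g2.coeff 0) = _
    rw [pow_add]
    ring

theorem three_le_ker (T : Module.End F V) {d : ℕ} {g : Fin d → F[X]} {v : Fin d → V}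
    (hind : ∀ f : Fin d → F[X], ∑ i, aeval T (f i) (v i) = 0 ↔ ∀ i, g i ∣ f i) {c : F} {e : Fin 3 → ℕ}
    {t : Fin 3 → Fin d} (ht : Function.Injective t) (hg : ∀ k, g (t k) = (X - C c) ^ (e k + 1)) :
    3 ≤ Module.finrank F (LinearMap.ker (T - c • (1 : Module.End F V))) := by
  classical
  have hlin : ∀ f : Fin 3 → F[X], ∑ k, aeval T (f k) (v (t k)) = 0 → ∀ k, g (t k) ∣ f k := by
    intro f hf k
    let f' : Fin d → F[X] := fun i => ∑ k, if t k = i then f k else 0
    have hf' : ∀ k, f' (t k) = f k := by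
      intro k
      simp only [f']
      rw [Finset.sum_eq_single k]
      · simp
      · intro l _ hl
        rw [if_neg fun h => hl (ht h)]
      · intro h; exact absurd (Finset.mem_univ k) h
    have h1 : ∑ i, aeval T (f' i) (v i) = 0 := by
      rw [← hf]
      simp only [f', map_sum, LinearMap.sum_apply]
      rw [Finset.sum_comm]
      refine Finset.sum_congr rfl fun k _ => ?_
      rw [Finset.sum_eq_single (t k)]
      · simp
      · intro i _ hi
        rw [if_neg fun h => hi h.symm, map_zero, LinearMap.zero_apply]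
      · intro h; exact absurd (Finset.mem_univ _) h
    have h2 := (hind f').1 h1 (t k)
    rwa [hf'] at h2
  have hann : ∀ k, aeval T (g (t k)) (v (t k)) = 0 := by
    intro k
    have := (hind (fun j => if j = t k then g (t k) else 0)).2 (by
      intro i
      by_cases hi : i = t k
      · rw [if_pos hi, hi]
      · rw [if_neg hi]; exact dvd_zero _)
    rw [Finset.sum_eq_single (t k)] at this
    · simpa using this
    · intro i _ hi; rw [if_neg hi, map_zero, LinearMap.zero_apply]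
    · intro h; exact absurd (Finset.mem_univ _) h
  have hmem : ∀ k, aeval T ((X - C c) ^ e k) (v (t k)) ∈ LinearMap.ker (T - c • (1 : Module.End F V)) := by
    intro k
    rw [LinearMap.mem_ker]
    have h1 : (T - c • (1 : Module.End F V)) = aeval T (X - C c) := by
      rw [map_sub, aeval_X, aeval_C, Algebra.algebraMap_eq_smul_one]
    rw [h1, ← Module.End.mul_apply, ← map_mul, ← pow_succ', ← hg]
    exact hann k
  have hli : LinearIndependent F (fun k => (⟨_, hmem k⟩ : LinearMap.ker (T - c • (1 : Module.End F V)))) := by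
    rw [Fintype.linearIndependent_iff]
    intro a ha
    have h1 : ∑ k, aeval T (C (a k) * (X - C c) ^ e k) (v (t k)) = 0 := by
      have h2 := congrArg Subtype.val ha
      rw [AddSubmonoidClass.coe_finsetSum] at h2
      rw [show ((0 : LinearMap.ker (T - c • (1 : Module.End F V))) : V) = 0 from rfl] at h2
      rw [← h2]
      refine Finset.sum_congr rfl fun k _ => ?_
      rw [map_mul, aeval_C, Module.End.mul_apply, Algebra.algebraMap_eq_smul_one]
      rfl
    intro k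
    have h3 := hlin _ h1 k
    rw [hg, pow_succ', mul_comm (C (a k))] at h3
    rw [mul_comm (X - C c)] at h3
    have h4 := (mul_dvd_mul_iff_left (pow_ne_zero _ (X_sub_C_ne_zero c))).1 h3
    by_contra h5
    have h6 := natDegree_le_of_dvd h4 (C_ne_zero.2 h5)
    rw [natDegree_X_sub_C, natDegree_C] at h6
    omega
  have := hli.fintype_card_le_finrank
  rwa [Fintype.card_fin] at this

/-- **the dichotomy** -/
theorem dich (T : Module.End F V) :
    (∃ q : F[X], q.Monic ∧ Irreducible q ∧ 3 * q.natDegree ≤ Module.finrank F V ∧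
      ∀ c, q = X - C c → 3 ≤ Module.finrank F (LinearMap.ker (T - c • (1 : Module.End F V)))) ∨
    ∃ (v1 v2 : V) (g1 g2 : F[X]), g1.Monic ∧ g2.Monic ∧ g1.natDegree ≤ g2.natDegree ∧
      g1.natDegree + g2.natDegree = Module.finrank F V ∧
      (⊤ ≤ Submodule.span F (Set.range (fun i : Fin g1.natDegree => (T ^ (i : ℕ)) v1) ∪
        Set.range fun i : Fin g2.natDegree => (T ^ (i : ℕ)) v2)) ∧ aeval T g1 v1 = 0 ∧ aeval T g2 v2 = 0 ∧
      LinearMap.det T = (-1) ^ (g1.natDegree + g2.natDegree) * (g1.coeff 0 * g2.coeff 0) := by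
  classical
  obtain ⟨d, g, v, hg, hspan, hind⟩ := exists_cyclic T
  have hmonic : ∀ i, (g i).Monic := by
    intro i
    obtain ⟨q, e, hq, -, -, h⟩ := hg i
    rw [h]; exact hq.pow e
  have hfin := finrank_of_cyclic T hmonic hspan hind
  choose q e hq hirr he hge using hg
  by_cases h3 : ∃ t : Fin 3 → Fin d, Function.Injective t ∧ q (t 0) = q (t 1) ∧ q (t 0) = q (t 2)
  · left
    obtain ⟨t, ht, ht1, ht2⟩ := h3
    have hqt : ∀ k, q (t k) = q (t 0) := by
      intro k; fin_cases k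
      · rfl
      · exact ht1.symm
      · exact ht2.symm
    refine ⟨q (t 0), hq _, hirr _, ?_, ?_⟩
    · rw [hfin]
      have h1 : ∑ k, (g (t k)).natDegree ≤ ∑ i, (g i).natDegree := by
        rw [← Finset.sum_image (f := fun i => (g i).natDegree) (s := Finset.univ) (g := t) (fun a _ b _ h => ht h)]
        exact Finset.sum_le_sum_of_subset (Finset.subset_univ _)
      refine le_trans ?_ h1
      rw [show 3 * (q (t 0)).natDegree = ∑ _k : Fin 3, (q (t 0)).natDegree by simp]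
      refine Finset.sum_le_sum fun k _ => ?_
      rw [hge, natDegree_pow, ← hqt k]
      exact Nat.le_mul_of_pos_left _ (he _)
    · intro c hc
      refine three_le_ker T hind (e := fun k => e (t k) - 1) ht fun k => ?_
      rw [hge, hqt, hc, Nat.sub_add_cancel (he _)]
  · right
    let A : Finset (Fin d) := Finset.univ.filter fun i => ∀ j < i, q j ≠ q i
    let B : Finset (Fin d) := Finset.univ.filter fun i => ¬ ∀ j < i, q j ≠ q i
    have hcop : ∀ i j, q i ≠ q j → IsCoprime (g i) (g j) := by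
      intro i j hij
      rw [hge, hge]
      refine IsCoprime.pow ?_
      refine ((hirr i).coprime_iff_not_dvd).2 fun hd => hij ?_
      exact eq_of_monic_of_associated (hq i) (hq j) ((hirr i).associated_of_dvd (hirr j) hd)
    have hA : ∀ i ∈ A, ∀ j ∈ A, i ≠ j → q i ≠ q j := by
      intro i hi j hj hij
      rcases lt_or_gt_of_ne hij with h | h
      · exact (Finset.mem_filter.1 hj).2 i h
      · exact ((Finset.mem_filter.1 hi).2 j h).symm
    have hB' : ∀ i ∈ B, ∀ j ∈ B, i < j → q i ≠ q j := by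
      intro i hi j hj hij h
      apply h3
      have h4 := (Finset.mem_filter.1 hi).2
      push Not at h4
      obtain ⟨k, hk, hk2⟩ := h4
      refine ⟨![k, i, j], ?_, ?_, ?_⟩
      · intro a b hab
        have hki : k ≠ i := hk.ne
        have hkj : k ≠ j := (hk.trans hij).ne
        have hij' : i ≠ j := hij.ne
        fin_cases a <;> fin_cases b <;> simp_all only [_root_.Polynomial.natDegree_pow, _root_.Fin.isValue, _root_.not_exists, _root_.not_and, _root_.ne_eq, _root_.Fin.zero_eta, _root_.Matrix.cons_val_zero, _root_.Fin.mk_one, _root_.Matrix.cons_val_one, _root_.Fin.reduceFinMk, _root_.Matrix.cons_val, _root_.one_ne_zero, _root_.lt_self_iff_false, _root_.Fin.reduceEq, _root_.not_true_eq_false]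
      · exact hk2
      · exact hk2.trans h
    have hB : ∀ i ∈ B, ∀ j ∈ B, i ≠ j → q i ≠ q j := by
      intro i hi j hj hij
      rcases lt_or_gt_of_ne hij with h | h
      · exact hB' i hi j hj h
      · exact (hB' j hj i hi h).symm
    have hsplit : ∀ f1 f2 : F[X], aeval T f1 (∑ i ∈ A, v i) + aeval T f2 (∑ i ∈ B, v i) =
        ∑ i, aeval T (if i ∈ A then f1 else f2) (v i) := by
      intro f1 f2
      rw [map_sum, map_sum, ← Finset.sum_filter_add_sum_filter_not Finset.univ (fun i => ∀ j < i, q j ≠ q i)]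
      congr 1
      · refine Finset.sum_congr rfl fun i hi => ?_
        rw [if_pos hi]
      · refine Finset.sum_congr rfl fun i hi => ?_
        rw [if_neg fun h => (Finset.mem_filter.1 hi).2 (Finset.mem_filter.1 h).2]
    have hind2 : ∀ f1 f2 : F[X], aeval T f1 (∑ i ∈ A, v i) + aeval T f2 (∑ i ∈ B, v i) = 0 ↔
        (∏ i ∈ A, g i) ∣ f1 ∧ (∏ i ∈ B, g i) ∣ f2 := by
      intro f1 f2
      rw [hsplit, hind]
      constructor
      · intro h
        constructor
        · refine Finset.prod_dvd_of_coprime (fun i hi j hj hij => hcop i j (hA i hi j hj hij)) fun i hi => ?_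
          have := h i
          rwa [if_pos hi] at this
        · refine Finset.prod_dvd_of_coprime (fun i hi j hj hij => hcop i j (hB i hi j hj hij)) fun i hi => ?_
          have := h i
          rwa [if_neg fun h => (Finset.mem_filter.1 hi).2 (Finset.mem_filter.1 h).2] at this
      · rintro ⟨h1, h2⟩ i
        by_cases hi : i ∈ A
        · rw [if_pos hi]
          exact (Finset.dvd_prod_of_mem g hi).trans h1
        · rw [if_neg hi]
          refine (Finset.dvd_prod_of_mem g ?_).trans h2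
          exact Finset.mem_filter.2 ⟨Finset.mem_univ i, fun h => hi (Finset.mem_filter.2 ⟨Finset.mem_univ i, h⟩)⟩
    have hmA : (∏ i ∈ A, g i).Monic := monic_prod_of_monic _ _ fun i _ => hmonic i
    have hmB : (∏ i ∈ B, g i).Monic := monic_prod_of_monic _ _ fun i _ => hmonic i
    have hsum : Module.finrank F V = (∏ i ∈ A, g i).natDegree + (∏ i ∈ B, g i).natDegree := by
      rw [natDegree_prod_of_monic _ _ fun i _ => hmonic i, natDegree_prod_of_monic _ _ fun i _ => hmonic i, hfin]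
      exact (Finset.sum_filter_add_sum_filter_not Finset.univ (fun i => ∀ j < i, q j ≠ q i) _).symm
    rcases le_total (∏ i ∈ A, g i).natDegree (∏ i ∈ B, g i).natDegree with hle | hle
    · obtain ⟨k1, k2, k3, k4⟩ := two_blocks T hmA hmB hsum hind2
      exact ⟨_, _, _, _, hmA, hmB, hle, hsum.symm, k1, k2, k3, k4⟩
    · have hind3 : ∀ f1 f2 : F[X], aeval T f1 (∑ i ∈ B, v i) + aeval T f2 (∑ i ∈ A, v i) = 0 ↔
        (∏ i ∈ B, g i) ∣ f1 ∧ (∏ i ∈ A, g i) ∣ f2 := by
        intro f1 f2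
        rw [add_comm, hind2, and_comm]
      obtain ⟨k1, k2, k3, k4⟩ := two_blocks T hmB hmA (hsum.trans (add_comm _ _)) hind3
      exact ⟨_, _, _, _, hmB, hmA, hle, (hsum.trans (add_comm _ _)).symm, k1, k2, k3, k4⟩

end Cfsg.Agent.H962.PP
end

-- part: H962/PP/Quint
section
/-!
# Irreducible quintics

* `irr_five` : a quintic dividing `X ^ r - 1`, `r` prime to `q² - 1`, without the root 1, is irreducible;
* `irr_scale`, `irr_reverse`;
* `quint_four`, `quint_nine` : `f`, `g` irreducible, `f_4 = 0`, `f_0 g_0 = L ^ 5`, `f_0 g(1) = L ^ 5 v`.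
-/

set_option autoImplicit false

namespace Cfsg.Agent.H962.PP

open Polynomial

universe u

variable {F : Type u} [Field F]

theorem irr_five [Finite F] {f : F[X]} (hf : f.Monic) (hd : f.natDegree = 5) {r : ℕ}
    (hr : r.Coprime (Nat.card F ^ 2 - 1)) (hr0 : r ≠ 0) (hdv : f ∣ X ^ r - 1) (h1 : f.eval 1 ≠ 0) : Irreducible f := by
  classical
  rw [hf.irreducible_iff_lt_natDegree_lt (by rintro rfl; rw [natDegree_one] at hd; norm_num at hd)]
  intro q hq hqd hqf
  rw [Finset.mem_Ioc, hd] at hqd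
  obtain ⟨h, hh, hhq⟩ := exists_irreducible_of_natDegree_pos hqd.1
  have hh2 : h.natDegree ≤ 2 := (natDegree_le_of_dvd hhq hq.ne_zero).trans (by omega)
  have hh1 : 0 < h.natDegree := hh.natDegree_pos
  have : Fact (Irreducible h) := ⟨hh⟩
  have : Module.Finite F (AdjoinRoot h) := (AdjoinRoot.powerBasis hh.ne_zero).finite
  have : Finite (AdjoinRoot h) := Module.finite_of_finite F
  let _ : Fintype (AdjoinRoot h) := Fintype.ofFinite _
  have hcard : Fintype.card (AdjoinRoot h) = Nat.card F ^ h.natDegree := by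
    rw [← Nat.card_eq_fintype_card, Module.natCard_eq_pow_finrank (K := F), (AdjoinRoot.powerBasis hh.ne_zero).finrank]
    rfl
  obtain ⟨θ, hθ⟩ : ∃ θ, θ = AdjoinRoot.root h := ⟨_, rfl⟩
  have hθ0 : aeval θ h = 0 := by rw [hθ, AdjoinRoot.aeval_eq, AdjoinRoot.mk_self]
  have hθr : θ ^ r = 1 := by
    obtain ⟨k, hk⟩ := (hhq.trans hqf).trans hdv
    have := congrArg (aeval θ) hk
    rw [map_mul, hθ0, zero_mul, map_sub, map_pow, aeval_X, map_one, sub_eq_zero] at this
    exact this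
  have hθn : θ ≠ 0 := by
    rintro rfl
    rw [zero_pow hr0] at hθr
    exact zero_ne_one hθr
  have hθq : θ ^ (Nat.card F ^ 2 - 1) = 1 := by
    have h2 := FiniteField.pow_card_sub_one_eq_one θ hθn
    rw [hcard] at h2
    have h3 : Nat.card F ^ h.natDegree - 1 ∣ Nat.card F ^ 2 - 1 := by
      rcases (show h.natDegree = 1 ∨ h.natDegree = 2 by omega) with h3 | h3
      · rw [h3]
        exact Nat.pow_sub_one_dvd_pow_sub_one _ (by norm_num)
      · rw [h3]
    obtain ⟨k, hk⟩ := h3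
    rw [hk, pow_mul, h2, one_pow]
  have hθ1 : θ = 1 := by
    have h2 := Nat.dvd_gcd (orderOf_dvd_of_pow_eq_one hθr) (orderOf_dvd_of_pow_eq_one hθq)
    rw [hr.gcd_eq_one, Nat.dvd_one, orderOf_eq_one_iff] at h2
    exact h2
  rw [hθ1] at hθ0
  have h4 : h.eval 1 = 0 := by
    have h5 : aeval (1 : AdjoinRoot h) h = algebraMap F (AdjoinRoot h) (h.eval 1) := by
      rw [← map_one (algebraMap F (AdjoinRoot h)), aeval_algebraMap_apply, coe_aeval_eq_eval]
    rw [h5] at hθ0
    exact (map_eq_zero _).1 hθ0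
  obtain ⟨k, hk⟩ := hhq.trans hqf
  apply h1
  rw [hk, eval_mul, h4, zero_mul]

/-- scaling of the roots -/
noncomputable def scl (c : F) (f : F[X]) : F[X] := C (c ^ f.natDegree) * f.comp (C c⁻¹ * X)

theorem comp_scale_natDegree {c : F} (hc : c ≠ 0) (f : F[X]) : (f.comp (C c⁻¹ * X)).natDegree = f.natDegree := by
  rw [natDegree_comp, natDegree_C_mul_X _ (inv_ne_zero hc), mul_one]

theorem scl_coeff {c : F} (hc : c ≠ 0) (f : F[X]) {i : ℕ} (hi : i ≤ f.natDegree) :
    (scl c f).coeff i = c ^ (f.natDegree - i) * f.coeff i := by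
  rw [scl, coeff_C_mul, comp_C_mul_X_coeff, inv_pow]
  obtain ⟨k, hk⟩ := Nat.exists_eq_add_of_le hi
  rw [hk, Nat.add_sub_cancel_left, pow_add]
  have h1 : c ^ i ≠ 0 := pow_ne_zero _ hc
  field_simp

theorem scl_natDegree {c : F} (hc : c ≠ 0) (f : F[X]) : (scl c f).natDegree = f.natDegree := by
  rw [scl, natDegree_C_mul (pow_ne_zero _ hc), comp_scale_natDegree hc]

theorem scl_monic {c : F} (hc : c ≠ 0) {f : F[X]} (hf : f.Monic) : (scl c f).Monic := by
  rw [Monic, leadingCoeff, scl_natDegree hc, scl_coeff hc f le_rfl, Nat.sub_self, pow_zero, one_mul, hf.coeff_natDegree]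

theorem scl_eval_one {c : F} (f : F[X]) : (scl c f).eval 1 = c ^ f.natDegree * f.eval c⁻¹ := by
  rw [scl, eval_mul, eval_C, eval_comp, eval_mul, eval_C, eval_X, mul_one]

theorem scl_irr {c : F} (hc : c ≠ 0) {f : F[X]} (hf : Irreducible f) : Irreducible (scl c f) := by
  let _ : Invertible (c⁻¹) := invertibleOfNonzero (inv_ne_zero hc)
  have h1 : f.comp (C c⁻¹ * X) = algEquivCMulXAddC c⁻¹ 0 f := by
    rw [algEquivCMulXAddC_apply, map_zero, add_zero]
    rfl
  have h2 : Irreducible (f.comp (C c⁻¹ * X)) := by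
    rw [h1]
    exact (MulEquiv.irreducible_iff (algEquivCMulXAddC (R := F) c⁻¹ 0)).2 hf
  rw [scl]
  exact (irreducible_isUnit_mul (isUnit_C.2 (isUnit_iff_ne_zero.2 (pow_ne_zero _ hc)))).2 h2

theorem irr_reverse {f : F[X]} (hf : Irreducible f) (h0 : f.coeff 0 ≠ 0) : Irreducible f.reverse := by
  have hrev : ∀ g : F[X], g.coeff 0 ≠ 0 → g.reverse.natDegree = g.natDegree := by
    intro g hg
    rw [reverse_natDegree, natTrailingDegree_eq_zero_of_constantCoeff_ne_zero hg, Nat.sub_zero]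
  have hrr : f.reverse.reverse = f := by
    rw [reverse, hrev f h0, reverse]
    ext i
    rw [coeff_reflect, coeff_reflect, revAt_invol]
  refine ⟨fun hu => ?_, fun {a b} hab => ?_⟩
  · have h1 := natDegree_eq_zero_of_isUnit hu
    rw [hrev f h0] at h1
    have := hf.natDegree_pos
    omega
  · have h1 : f = a.reverse * b.reverse := by
      rw [← reverse_mul_of_domain, ← hab, hrr]
    have hab0 : a.coeff 0 * b.coeff 0 ≠ 0 := by
      rw [← mul_coeff_zero, ← hab, coeff_zero_reverse]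
      exact leadingCoeff_ne_zero.2 hf.ne_zero
    have key : ∀ g : F[X], g.coeff 0 ≠ 0 → IsUnit g.reverse → IsUnit g := by
      intro g hg hu
      have h2 := natDegree_eq_zero_of_isUnit hu
      rw [hrev g hg] at h2
      rw [eq_C_of_natDegree_eq_zero h2]
      exact isUnit_C.2 (isUnit_iff_ne_zero.2 hg)
    rcases hf.isUnit_or_isUnit h1 with h2 | h2
    · exact Or.inl (key a (left_ne_zero_of_mul hab0) h2)
    · exact Or.inr (key b (right_ne_zero_of_mul hab0) h2)

/-! ### Four elements -/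

/-- the pair of polynomials -/
def Pair (F : Type u) [Field F] : Prop :=
  ∀ v L : F, v ≠ 0 → L ≠ 0 → ∃ f g : F[X], f.Monic ∧ Irreducible f ∧ f.natDegree = 5 ∧ g.Monic ∧ Irreducible g ∧
    g.natDegree = 5 ∧ f.coeff 4 = 0 ∧ f.coeff 0 * g.coeff 0 = L ^ 5 ∧ f.coeff 0 * g.eval 1 = L ^ 5 * v

/-- the pair of polynomials for elements with many eigenvectors -/
def Pair' (F : Type u) [Field F] : Prop :=
  ∃ f g : F[X], f.Monic ∧ Irreducible f ∧ f.natDegree = 5 ∧ g.Monic ∧ Irreducible g ∧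
    g.natDegree = 5 ∧ f.coeff 4 = 0 ∧ g.coeff 4 = 1 ∧ f.coeff 0 = g.coeff 0

theorem three_zero (h : Nat.card F = 9) : (3 : F) = 0 := by
  have : Finite F := Nat.finite_of_card_ne_zero (by rw [h]; norm_num)
  have h1 : ((Nat.card F : ℕ) : F) = 0 := by
    let _ : Fintype F := Fintype.ofFinite F
    rw [Nat.card_eq_fintype_card]
    exact FiniteField.cast_card_eq_zero F
  rw [h] at h1
  have h2 : (3 : F) * 3 = 0 := by
    rw [← h1]; norm_num
  rcases mul_eq_zero.1 h2 with h3 | h3 <;> exact h3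

theorem pow_card {n : ℕ} (h : Nat.card F = n + 2) {v : F} (hv : v ≠ 0) : v ^ (n + 1) = 1 := by
  have : Finite F := Nat.finite_of_card_ne_zero (by rw [h]; norm_num)
  let _ : Fintype F := Fintype.ofFinite F
  have h1 := FiniteField.pow_card_sub_one_eq_one v hv
  rwa [← Nat.card_eq_fintype_card, h] at h1

/-- `X⁵ + a X⁴ + b X³ + c X² + d X + e` -/
noncomputable def qt (a b c d e : F) : F[X] := X ^ 5 + C a * X ^ 4 + C b * X ^ 3 + C c * X ^ 2 + C d * X + C e

theorem qt_monic (a b c d e : F) : (qt a b c d e).Monic := by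
  rw [qt]; monicity!

theorem qt_natDegree (a b c d e : F) : (qt a b c d e).natDegree = 5 := by
  rw [qt]; compute_degree!

theorem qt_four (a b c d e : F) : (qt a b c d e).coeff 4 = a := by
  rw [qt]
  simp

theorem qt_zero (a b c d e : F) : (qt a b c d e).coeff 0 = e := by
  rw [qt]
  simp

theorem qt_eval (a b c d e x : F) : (qt a b c d e).eval x = x ^ 5 + a * x ^ 4 + b * x ^ 3 + c * x ^ 2 + d * x + e := by
  rw [qt]
  simp

theorem irr_nine_zero (h : Nat.card F = 9) : Irreducible (qt (0 : F) (-1) 1 (-1) (-1)) := by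
  have : Finite F := Nat.finite_of_card_ne_zero (by rw [h]; norm_num)
  have h2 : (3 : F[X]) = 0 := (map_ofNat (C : F →+* F[X]) 3).symm.trans (by rw [three_zero h, C_0])
  refine irr_five (qt_monic ..) (qt_natDegree ..) (r := 11) (by rw [h]; decide) (by norm_num) ⟨X ^ 6 + X ^ 4 +
    (-1) * X ^ 3 + (-1) * X ^ 2 + (-1) * X + 1, ?_⟩ ?_
  · rw [qt]
    simp only [C_0, C_1, C_neg, zero_mul, one_mul]
    linear_combination (X ^ 7 + (-1) * X ^ 2) * h2
  · rw [qt_eval, show (1 : F) ^ 5 + 0 * 1 ^ 4 + (-1) * 1 ^ 3 + 1 * 1 ^ 2 + (-1) * 1 + -1 = -1 by ring]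
    exact neg_ne_zero.2 one_ne_zero

theorem irr_nine_one (h : Nat.card F = 9) : Irreducible (qt (1 : F) (-1) 1 0 (-1)) := by
  have : Finite F := Nat.finite_of_card_ne_zero (by rw [h]; norm_num)
  have h2 : (3 : F[X]) = 0 := (map_ofNat (C : F →+* F[X]) 3).symm.trans (by rw [three_zero h, C_0])
  refine irr_five (qt_monic ..) (qt_natDegree ..) (r := 11) (by rw [h]; decide) (by norm_num) ⟨X ^ 6 + (-1) * X ^ 5 +
    (-1) * X ^ 4 + (-1) * X ^ 3 + X ^ 2 + 1, ?_⟩ ?_
  · rw [qt]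
    simp only [C_0, C_1, C_neg, zero_mul, one_mul]
    linear_combination (X ^ 9 + (-1) * X ^ 4) * h2
  · rw [qt_eval, show (1 : F) ^ 5 + 1 * 1 ^ 4 + (-1) * 1 ^ 3 + 1 * 1 ^ 2 + 0 * 1 + -1 = 1 by ring]
    exact one_ne_zero

/-- the pair from two polynomials `f1` (`X⁴`-coefficient 0) and `g1` with `g1(κ) = f1(0) v` -/
theorem pair_of {s v L κ : F} {f1 g1 : F[X]} (hf : f1.Monic) (hfi : Irreducible f1) (hfd : f1.natDegree = 5)
    (hg : g1.Monic) (hgi : Irreducible g1) (hgd : g1.natDegree = 5) (h4 : f1.coeff 4 = 0) (hf0 : f1.coeff 0 = s)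
    (hg0 : g1.coeff 0 = s) (hs : s * s = 1) (hL : L ≠ 0) (hκ : κ ≠ 0) (hv : s * g1.eval κ = v) :
    ∃ f g : F[X], f.Monic ∧ Irreducible f ∧ f.natDegree = 5 ∧ g.Monic ∧ Irreducible g ∧
      g.natDegree = 5 ∧ f.coeff 4 = 0 ∧ f.coeff 0 * g.coeff 0 = L ^ 5 ∧ f.coeff 0 * g.eval 1 = L ^ 5 * v := by
  have hc : L * κ ≠ 0 := mul_ne_zero hL hκ
  have he : κ⁻¹ ≠ 0 := inv_ne_zero hκ
  refine ⟨scl (L * κ) f1, scl κ⁻¹ g1, scl_monic hc hf, scl_irr hc hfi, (scl_natDegree hc _).trans hfd, scl_monic he hg,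
    scl_irr he hgi, (scl_natDegree he _).trans hgd, ?_, ?_, ?_⟩
  · rw [scl_coeff hc _ (by omega), h4, mul_zero]
  · rw [scl_coeff hc _ (by omega), scl_coeff he _ (by omega), hf0, hg0, hfd, hgd]
    rw [show (L * κ) ^ (5 - 0) * s * (κ⁻¹ ^ (5 - 0) * s) = L ^ 5 * (κ * κ⁻¹) ^ 5 * (s * s) by ring, hs, mul_inv_cancel₀ hκ]
    ring
  · rw [scl_coeff hc _ (by omega), scl_eval_one, hf0, hfd, hgd, inv_inv, ← hv]
    rw [show (L * κ) ^ (5 - 0) * s * (κ⁻¹ ^ 5 * eval κ g1) = L ^ 5 * (κ * κ⁻¹) ^ 5 * (s * eval κ g1) by ring,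
      mul_inv_cancel₀ hκ]
    ring

theorem pair_nine' (h : Nat.card F = 9) : Pair' F :=
  ⟨_, _, qt_monic .., irr_nine_zero h, qt_natDegree .., qt_monic .., irr_nine_one h, qt_natDegree .., qt_four .., qt_four ..,
    (qt_zero ..).trans (qt_zero ..).symm⟩

theorem pair_nine (h : Nat.card F = 9) : Pair F := by
  intro v L hv hL
  have h3 := three_zero h
  have h20 : (2 : F) ≠ 0 := by
    intro h2
    exact one_ne_zero (show (1 : F) = 0 by linear_combination h3 - h2)
  obtain ⟨w, hw⟩ : ∃ w, w = -v := ⟨_, rfl⟩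
  have hw0 : w ≠ 0 := by rw [hw]; exact neg_ne_zero.2 hv
  have hwv : ∀ x : F, x = w → (-1) * x = v := by
    rintro x rfl; rw [hw]; ring
  have h8 : w ^ 8 = 1 := pow_card (n := 7) h hw0
  have hz : ∀ κ : F, κ ≠ 0 → (qt (0 : F) (-1) 1 (-1) (-1)).eval κ = w → ∃ f g : F[X], f.Monic ∧ Irreducible f ∧
      f.natDegree = 5 ∧ g.Monic ∧ Irreducible g ∧ g.natDegree = 5 ∧ f.coeff 4 = 0 ∧ f.coeff 0 * g.coeff 0 = L ^ 5 ∧
      f.coeff 0 * g.eval 1 = L ^ 5 * v := fun κ hκ hκw =>
    pair_of (s := -1) (κ := κ) (qt_monic ..) (irr_nine_zero h) (qt_natDegree ..) (qt_monic ..) (irr_nine_zero h)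
      (qt_natDegree ..) (qt_four ..) (qt_zero ..) (qt_zero ..) (by norm_num) hL hκ (hwv _ hκw)
  have ho : ∀ κ : F, κ ≠ 0 → (qt (1 : F) (-1) 1 0 (-1)).eval κ = w → ∃ f g : F[X], f.Monic ∧ Irreducible f ∧
      f.natDegree = 5 ∧ g.Monic ∧ Irreducible g ∧ g.natDegree = 5 ∧ f.coeff 4 = 0 ∧ f.coeff 0 * g.coeff 0 = L ^ 5 ∧
      f.coeff 0 * g.eval 1 = L ^ 5 * v := fun κ hκ hκw =>
    pair_of (s := -1) (κ := κ) (qt_monic ..) (irr_nine_zero h) (qt_natDegree ..) (qt_monic ..) (irr_nine_one h)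
      (qt_natDegree ..) (qt_four ..) (qt_zero ..) (qt_zero ..) (by norm_num) hL hκ (hwv _ hκw)
  have hfac : (w - 1) * ((w + 1) * ((w ^ 2 + 1) * (((w - 1) ^ 2 + 1) * ((w + 1) ^ 2 + 1)))) = 0 := by
    linear_combination h8 + (w ^ 4 - 1) * h3
  rcases mul_eq_zero.1 hfac with h1 | h1
  · refine ho 1 one_ne_zero ?_
    rw [qt_eval]
    linear_combination -h1
  rcases mul_eq_zero.1 h1 with h1 | h1
  · refine hz 1 one_ne_zero ?_
    rw [qt_eval]
    linear_combination -h1
  rcases mul_eq_zero.1 h1 with h1 | h1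
  · refine ho (w - 1) ?_ ?_
    · intro h4
      exact h20 (by linear_combination h1 - (w + 1) * h4)
    · rw [qt_eval]
      linear_combination (4 + 4 * w - 4 * w ^ 2 + w ^ 3) * h1 + (-1 - 3 * w) * h3
  rcases mul_eq_zero.1 h1 with h1 | h1
  · refine hz (w - 1) ?_ ?_
    · intro h4
      rw [h4] at h1
      exact one_ne_zero (by linear_combination h1)
    · rw [qt_eval]
      linear_combination (2 + w - 3 * w ^ 2 + w ^ 3) * h1 - h3
  · refine hz (w - 1) ?_ ?_
    · intro h4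
      exact h20 (by linear_combination h1 - (w + 3) * h4 - h3)
    · rw [qt_eval]
      linear_combination (-34 + 21 * w - 7 * w ^ 2 + w ^ 3) * h1 + (23 + 8 * w) * h3

end Cfsg.Agent.H962.PP
end

-- part: H962/PP/Five
section
/-!
# `SL₅(q)`, `q = 4, 9`: every nonscalar element is a product of two elements with irreducible characteristic polynomials
-/

set_option autoImplicit false

namespace Cfsg.Agent.H962.PP

open Polynomial

universe u v

variable {F : Type u} [Field F]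

/-- the polynomial of `L A - 1` from the polynomial of `A` -/
noncomputable def shf (L : F) (G : F[X]) : F[X] := (scl L G).comp (X + 1)

theorem monic_X_one : (X + 1 : F[X]).Monic := by
  rw [show (X + 1 : F[X]) = X + C 1 by rw [C_1]]; exact monic_X_add_C 1

theorem natDegree_X_one : (X + 1 : F[X]).natDegree = 1 := natDegree_eq_of_degree_eq_some degree_X_one

theorem shf_monic {L : F} (hL : L ≠ 0) {G : F[X]} (hG : G.Monic) : (shf L G).Monic :=
  (scl_monic hL hG).comp monic_X_one (by rw [natDegree_X_one]; norm_num)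

theorem shf_natDegree {L : F} (hL : L ≠ 0) (G : F[X]) : (shf L G).natDegree = G.natDegree := by
  rw [shf, natDegree_comp, natDegree_X_one, mul_one, scl_natDegree hL]

theorem shf_eval {L : F} (hL : L ≠ 0) (G : F[X]) : (shf L G).eval (-1) = L ^ G.natDegree * G.coeff 0 := by
  rw [shf, eval_comp, eval_add, eval_X, eval_one, neg_add_cancel, ← coeff_zero_eq_eval_zero,
    scl_coeff hL _ (Nat.zero_le _), Nat.sub_zero]

theorem coeff_comp_next {q : F[X]} (hq : q.Monic) {m : ℕ} (hd : q.natDegree = m + 1) :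
    (q.comp (X + 1)).coeff m = (m + 1 : ℕ) + q.coeff m := by
  rw [comp, eval₂_eq_sum_range, hd, Finset.sum_range_succ, Finset.sum_range_succ, coeff_add, coeff_add, finsetSum_coeff,
    Finset.sum_eq_zero]
  · have h1 : q.coeff (m + 1) = 1 := by rw [← hd]; exact hq.coeff_natDegree
    rw [h1, coeff_C_mul, coeff_C_mul, coeff_X_add_one_pow, coeff_X_add_one_pow, Nat.choose_self, Nat.choose_succ_self_right]
    push_cast
    ring
  · intro i hi
    rw [coeff_C_mul, coeff_X_add_one_pow, Nat.choose_eq_zero_of_lt (Finset.mem_range.1 hi), Nat.cast_zero, mul_zero]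

theorem shf_coeff {L : F} (hL : L ≠ 0) {G : F[X]} (hG : G.Monic) {m : ℕ} (hd : G.natDegree = m + 1) :
    (shf L G).coeff m = (m + 1 : ℕ) + L * G.coeff m := by
  rw [shf, coeff_comp_next (scl_monic hL hG) ((scl_natDegree hL G).trans hd), scl_coeff hL _ (by omega), hd,
    Nat.add_sub_cancel_left, pow_one]

theorem alt_sum {q : F[X]} (hq : q.Monic) {m : ℕ} (hd : q.natDegree = m + 1) :
    1 - ∑ i ∈ Finset.range (m + 1), q.coeff i * (-1) ^ (m - i) = (-1) ^ (m + 1) * q.eval (-1) := by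
  rw [eval_eq_sum_range, hd, Finset.sum_range_succ (fun i => q.coeff i * (-1) ^ i) (m + 1)]
  have h1 : q.coeff (m + 1) = 1 := by rw [← hd]; exact hq.coeff_natDegree
  rw [h1, one_mul, mul_add, ← pow_add, Finset.mul_sum, sub_eq_neg_add, ← Finset.sum_neg_distrib]
  congr 1
  · refine Finset.sum_congr rfl fun i hi => ?_
    obtain ⟨k, hk⟩ := Nat.exists_eq_add_of_le (Nat.lt_succ_iff.1 (Finset.mem_range.1 hi))
    rw [hk, Nat.add_sub_cancel_left]
    rw [show (-1 : F) ^ (i + k + 1) * (q.coeff i * (-1) ^ i) = -(q.coeff i * ((-1) ^ k * ((-1) ^ i * (-1) ^ i))) by ring,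
      ← mul_pow, show (-1 : F) * -1 = 1 by ring, one_pow, mul_one]
  · rw [← two_mul, pow_mul]; norm_num

section

variable {V : Type v} [AddCommGroup V] [Module F V]

theorem shf_aeval {L : F} (hL : L ≠ 0) (A : Module.End F V) {G : F[X]} {v : V} (h : aeval A G v = 0) :
    aeval (L • A - 1) (shf L G) v = 0 := by
  have h1 : aeval (L • A - 1) (X + 1 : F[X]) = L • A := by
    rw [map_add, aeval_X, map_one, sub_add_cancel]
  have h2 : aeval (L • A) (C L⁻¹ * X : F[X]) = A := by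
    rw [map_mul, aeval_C, aeval_X, Algebra.algebraMap_eq_smul_one, smul_one_mul, smul_smul, inv_mul_cancel₀ hL, one_smul]
  rw [shf, aeval_comp, h1, scl, map_mul, aeval_comp, h2, aeval_C, Algebra.algebraMap_eq_smul_one, smul_one_mul,
    LinearMap.smul_apply, h, smul_zero]

theorem mem_span_shift {L : F} (hL : L ≠ 0) (A : Module.End F V) (v : V) {n : ℕ} (i : Fin n) :
    (A ^ (i : ℕ)) v ∈ Submodule.span F (Set.range fun j : Fin n => ((L • A - 1) ^ (j : ℕ)) v) := by
  have h1 : aeval (L • A - 1) (C L⁻¹ * (X + 1) : F[X]) = A := by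
    rw [map_mul, map_add, aeval_X, map_one, sub_add_cancel, aeval_C, Algebra.algebraMap_eq_smul_one, smul_one_mul, smul_smul,
      inv_mul_cancel₀ hL, one_smul]
  have h2 : A ^ (i : ℕ) = aeval (L • A - 1) ((C L⁻¹ * (X + 1)) ^ (i : ℕ) : F[X]) := by
    rw [map_pow, h1]
  have h3 : ((C L⁻¹ * (X + 1)) ^ (i : ℕ) : F[X]).natDegree < n := by
    refine lt_of_le_of_lt (natDegree_pow_le_of_le (i : ℕ) (m := 1) ?_) (by rw [mul_one]; exact i.2)
    exact (natDegree_C_mul_le _ _).trans natDegree_X_one.le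
  rw [h2, aeval_eq_sum_range' h3, LinearMap.sum_apply]
  refine Submodule.sum_mem _ fun j hj => ?_
  rw [LinearMap.smul_apply]
  exact Submodule.smul_mem _ _ (Submodule.subset_span ⟨⟨j, Finset.mem_range.1 hj⟩, rfl⟩)

theorem span_shift {L : F} (hL : L ≠ 0) (A : Module.End F V) (v w : V) {m n : ℕ}
    (h : ⊤ ≤ Submodule.span F (Set.range (fun i : Fin m => (A ^ (i : ℕ)) v) ∪
      Set.range fun i : Fin n => (A ^ (i : ℕ)) w)) :
    ⊤ ≤ Submodule.span F (Set.range (fun i : Fin m => ((L • A - 1) ^ (i : ℕ)) v) ∪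
      Set.range fun i : Fin n => ((L • A - 1) ^ (i : ℕ)) w) := by
  refine h.trans (Submodule.span_le.2 (Set.union_subset ?_ ?_))
  · rintro _ ⟨i, rfl⟩
    exact Submodule.span_mono Set.subset_union_left (mem_span_shift hL A v i)
  · rintro _ ⟨i, rfl⟩
    exact Submodule.span_mono Set.subset_union_right (mem_span_shift hL A w i)

end

omit [Field F] in
theorem exists_ne_three (h : 4 ≤ Nat.card F) (x y z : F) : ∃ w : F, w ≠ x ∧ w ≠ y ∧ w ≠ z := by
  classical
  by_contra hc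
  push Not at hc
  have : Finite F := Nat.finite_of_card_ne_zero (by omega)
  have h1 : (Set.univ : Set F) ⊆ ({x, y, z} : Set F) := by
    intro w _
    by_cases hx : w = x
    · simp [hx]
    · by_cases hy : w = y
      · simp [hy]
      · simp [hc w hx hy]
  have h2 := Set.ncard_le_ncard h1 (Set.toFinite _)
  have h3 : ({x, y, z} : Set F).ncard ≤ 3 :=
    (Set.ncard_insert_le _ _).trans (Nat.succ_le_succ ((Set.ncard_insert_le _ _).trans (by rw [Set.ncard_singleton])))
  rw [Set.ncard_univ] at h2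
  omega

theorem exists_param (h4 : 4 ≤ Nat.card F) (x y : F) : ∃ L Y : F, L ≠ 0 ∧ -1 - L * x ≠ 0 ∧ Y ≠ 0 ∧ Y ≠ 1 ∧
    Y ≠ -1 - L * x ∧ Y ≠ -1 - L * y := by
  have gen : ∃ L : F, L ≠ 0 ∧ -1 - L * x ≠ 0 := by
    obtain ⟨L, h1, h2, -⟩ := exists_ne_three h4 0 (-x⁻¹) 0
    refine ⟨L, h1, fun h3 => ?_⟩
    by_cases hx : x = 0
    · rw [hx, mul_zero, sub_zero, neg_eq_zero] at h3
      exact one_ne_zero h3
    · apply h2
      rw [eq_neg_iff_add_eq_zero]
      refine mul_right_cancel₀ hx ?_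
      rw [add_mul, inv_mul_cancel₀ hx, zero_mul]
      linear_combination -h3
  by_cases hxy : y = x
  · obtain ⟨L, h1, h2⟩ := gen
    obtain ⟨Y, k1, k2, k3⟩ := exists_ne_three h4 0 1 (-1 - L * x)
    exact ⟨L, Y, h1, h2, k1, k2, k3, by rw [hxy]; exact k3⟩
  by_cases hy : y = 0
  · have hx : x ≠ 0 := fun h => hxy (by rw [h, hy])
    by_cases h2 : (2 : F) = 0
    · obtain ⟨L, h1, h3⟩ := gen
      obtain ⟨Y, k1, k2, k3⟩ := exists_ne_three h4 0 1 (-1 - L * x)
      refine ⟨L, Y, h1, h3, k1, k2, k3, ?_⟩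
      rw [hy, mul_zero, sub_zero]
      intro h
      exact k2 (by linear_combination h - h2)
    · obtain ⟨Y, k1, k2, k3⟩ := exists_ne_three h4 0 1 (-1)
      have e1 : -1 - (-2 * x⁻¹) * x = (1 : F) := by
        rw [mul_assoc, inv_mul_cancel₀ hx]; ring
      refine ⟨-2 * x⁻¹, Y, mul_ne_zero (neg_ne_zero.2 h2) (inv_ne_zero hx), ?_, k1, k2, ?_, ?_⟩
      · rw [e1]; exact one_ne_zero
      · rw [e1]; exact k2
      · rw [hy, mul_zero, sub_zero]; exact k3
  · have e1 : -1 - (-y⁻¹) * y = (0 : F) := by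
      rw [neg_mul, inv_mul_cancel₀ hy]; ring
    obtain ⟨Y, k1, k2, k3⟩ := exists_ne_three h4 0 1 (-1 - (-y⁻¹) * x)
    refine ⟨-y⁻¹, Y, neg_ne_zero.2 (inv_ne_zero hy), ?_, k1, k2, k3, by rw [e1]; exact k1⟩
    intro h
    apply hxy
    have h3 : y * (-1 - (-y⁻¹) * x) = x - y := by
      rw [mul_sub, mul_neg, mul_one, neg_mul, mul_neg, ← mul_assoc, mul_inv_cancel₀ hy]; ring
    rw [h, mul_zero] at h3
    exact (sub_eq_zero.1 h3.symm).symm

/-! ### The three cases -/

section Cases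

variable {V : Type v} [AddCommGroup V] [Module F V] [FiniteDimensional F V]

/-- the conclusion -/
def Good (A : Module.End F V) : Prop :=
  ∃ L : F, L ≠ 0 ∧ ∃ X Y : Module.End F V, Y * X = L • A ∧ Irreducible (LinearMap.charpoly X) ∧
    Irreducible (LinearMap.charpoly Y)

/-- a cyclic element -/
theorem case_cyc (h4 : 4 ≤ Nat.card F) (hP : Pair F) (hV : Module.finrank F V = 5) (A : Module.End F V) {v w : V}
    {G : F[X]} (hG : G.Monic) (hGd : G.natDegree = 5)
    (hs : ⊤ ≤ Submodule.span F (Set.range (fun i : Fin 0 => (A ^ (i : ℕ)) w) ∪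
      Set.range fun i : Fin 5 => (A ^ (i : ℕ)) v)) (h0 : aeval A G v = 0) (hdet : G.coeff 0 = -1) : Good A := by
  have hL : (1 : F) ≠ 0 := one_ne_zero
  have hs' := span_shift hL A w v hs
  have h0' := shf_aeval hL A h0
  have hd := shf_monic hL hG
  have hdd : (shf 1 G).natDegree = 3 + 2 := (shf_natDegree hL G).trans hGd
  obtain ⟨T, hT⟩ : ∃ T, T = 2 - (shf 1 G).coeff 4 := ⟨_, rfl⟩
  obtain ⟨Y, hY0, hY1, hYT⟩ := exists_ne_three h4 0 1 T
  obtain ⟨f, g, hf, hfi, hfd, hg, hgi, hgd, hf4, hfg, hfg1⟩ := hP (Y * (T - Y)) 1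
    (mul_ne_zero hY0 (sub_ne_zero.2 hYT.symm)) hL
  refine ⟨1, hL, ?_⟩
  obtain ⟨X', Y', hXY, hX', hY'⟩ := slice_cyc (k := 3) hV (1 • A) (v0 := v) (d := shf 1 G) (f := f) (g := g) (c := Y - 1) (by
    refine hs'.trans (Submodule.span_mono ?_)
    refine Set.union_subset ?_ ?_
    · rintro _ ⟨i, rfl⟩; exact i.elim0
    · rintro _ ⟨i, rfl⟩; exact ⟨i, rfl⟩) hd hdd h0' hf hfi hfd hg hgi hgd (sub_ne_zero.2 hY1) (by
      have e1 := alt_sum hd hdd
      rw [shf_eval hL, hdet] at e1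
      rw [hfg]
      simp only [Finset.sum_range_succ, Finset.sum_range_zero] at e1 ⊢
      norm_num only [_root_.mul_one, _root_.zero_add, _root_.mul_neg, _root_.one_pow, _root_.sub_eq_self] at e1 ⊢
      linear_combination -e1) (by
      rw [hfg1, hf4, hT]
      ring)
  exact ⟨X', Y', hXY, by rw [hX']; exact hfi, by rw [hY']; exact hgi⟩

/-- blocks of dimensions 1 and 4 -/
theorem case_one (h4 : 4 ≤ Nat.card F) (hP : Pair F) (hV : Module.finrank F V = 5) (A : Module.End F V) {v w : V}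
    {G H : F[X]} (hG : G.Monic) (hGd : G.natDegree = 4) (hH : H.Monic) (hHd : H.natDegree = 1)
    (hs : ⊤ ≤ Submodule.span F (Set.range (fun i : Fin 1 => (A ^ (i : ℕ)) w) ∪
      Set.range fun i : Fin 4 => (A ^ (i : ℕ)) v)) (h0 : aeval A G v = 0) (h1 : aeval A H w = 0)
    (hdet : H.coeff 0 * G.coeff 0 = -1) : Good A := by
  have hH0 : H.coeff 0 ≠ 0 := by
    intro h
    rw [h, zero_mul] at hdet
    exact one_ne_zero (neg_eq_zero.1 hdet.symm)
  obtain ⟨L, hLd⟩ : ∃ L, L = -(H.coeff 0)⁻¹ := ⟨_, rfl⟩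
  have hL : L ≠ 0 := by rw [hLd]; exact neg_ne_zero.2 (inv_ne_zero hH0)
  have hLH : L * H.coeff 0 = -1 := by rw [hLd, neg_mul, inv_mul_cancel₀ hH0]
  have hs' := span_shift hL A w v hs
  have hd := shf_monic hL hG
  have hdd : (shf L G).natDegree = 1 + 3 := (shf_natDegree hL G).trans hGd
  have hp := shf_monic hL hH
  have hpd : (shf L H).natDegree = 0 + 1 := (shf_natDegree hL H).trans hHd
  have hp0 : (shf L H).coeff 0 = 0 := by
    rw [shf_coeff hL hH (m := 0) hHd, hLH]; norm_num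
  have hGL : G.coeff 0 = L := mul_left_cancel₀ hH0 (by rw [hdet, mul_comm, hLH])
  obtain ⟨T, hT⟩ : ∃ T, T = 2 - (shf L G).coeff 3 := ⟨_, rfl⟩
  obtain ⟨Y, hY0, hY1, hYT⟩ := exists_ne_three h4 0 1 T
  obtain ⟨f, g, hf, hfi, hfd, hg, hgi, hgd, hf4, hfg, hfg1⟩ := hP (Y * (T - Y) * (L ^ 5)⁻¹) L
    (mul_ne_zero (mul_ne_zero hY0 (sub_ne_zero.2 hYT.symm)) (inv_ne_zero (pow_ne_zero _ hL))) hL
  rw [mul_comm (L ^ 5), inv_mul_cancel_right₀ (pow_ne_zero _ hL)] at hfg1
  refine ⟨L, hL, ?_⟩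
  obtain ⟨X', Y', hXY, hX', hY'⟩ := slice_two (ρ := 0) (σ := 1) hV (L • A) (v1 := w) (v2 := v) (p := shf L H) (d := shf L G)
    (f := f) (g := g) (c := Y - 1) hs' hp hpd (shf_aeval hL A h1) hd hdd (shf_aeval hL A h0) hf hfi hfd hg hgi hgd
    (sub_ne_zero.2 hY1) (by rw [hp0, sub_zero]; exact one_ne_zero) (by
      simp [hp0]) (by
      rw [hp0, sub_zero, add_sub_cancel]; exact hY1) (by
      have e1 := alt_sum hd hdd
      rw [shf_eval hL, hGL, hGd] at e1
      rw [hfg]
      simp only [Finset.sum_range_succ, Finset.sum_range_zero, hp0] at e1 ⊢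
      norm_num only [_root_.mul_neg, _root_.mul_one, _root_.zero_add, _root_.one_mul] at e1 ⊢
      linear_combination e1) (by
      rw [hfg1, hp0, hf4, hT]
      ring)
  exact ⟨X', Y', hXY, by rw [hX']; exact hfi, by rw [hY']; exact hgi⟩

/-- blocks of dimensions 2 and 3 -/
theorem case_two (h4 : 4 ≤ Nat.card F) (hP : Pair F) (hV : Module.finrank F V = 5) (A : Module.End F V) {v w : V}
    {G H : F[X]} (hG : G.Monic) (hGd : G.natDegree = 3) (hH : H.Monic) (hHd : H.natDegree = 2)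
    (hs : ⊤ ≤ Submodule.span F (Set.range (fun i : Fin 2 => (A ^ (i : ℕ)) w) ∪
      Set.range fun i : Fin 3 => (A ^ (i : ℕ)) v)) (h0 : aeval A G v = 0) (h1 : aeval A H w = 0)
    (hdet : H.coeff 0 * G.coeff 0 = -1) : Good A := by
  have hH0 : H.coeff 0 ≠ 0 := by
    intro h
    rw [h, zero_mul] at hdet
    exact one_ne_zero (neg_eq_zero.1 hdet.symm)
  obtain ⟨L, Y, hL, hl, hY0, hY1, hYl, hYT⟩ := exists_param h4 (H.coeff 1) (G.coeff 2)
  have hs' := span_shift hL A w v hs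
  have hd := shf_monic hL hG
  have hdd : (shf L G).natDegree = 0 + 3 := (shf_natDegree hL G).trans hGd
  have hp := shf_monic hL hH
  have hpd : (shf L H).natDegree = 1 + 1 := (shf_natDegree hL H).trans hHd
  have hp1 : 1 - (shf L H).coeff 1 = -1 - L * H.coeff 1 := by
    rw [shf_coeff hL hH (m := 1) hHd]; push_cast; ring
  have hd1 : 2 - (shf L G).coeff 2 = -1 - L * G.coeff 2 := by
    rw [shf_coeff hL hG (m := 2) hGd]; push_cast; ring
  obtain ⟨f, g, hf, hfi, hfd, hg, hgi, hgd, hf4, hfg, hfg1⟩ := hP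
    ((-1 - L * H.coeff 1) * (Y * (-1 - L * G.coeff 2 - Y)) * (L ^ 5)⁻¹) L
    (mul_ne_zero (mul_ne_zero hl (mul_ne_zero hY0 (sub_ne_zero.2 hYT.symm))) (inv_ne_zero (pow_ne_zero _ hL))) hL
  rw [mul_comm (L ^ 5), inv_mul_cancel_right₀ (pow_ne_zero _ hL)] at hfg1
  have e2 := alt_sum hp hpd
  rw [shf_eval hL, hHd] at e2
  refine ⟨L, hL, ?_⟩
  obtain ⟨X', Y', hXY, hX', hY'⟩ := slice_two (ρ := 1) (σ := 0) hV (L • A) (v1 := w) (v2 := v) (p := shf L H) (d := shf L G)
    (f := f) (g := g) (c := Y - 1) hs' hp hpd (shf_aeval hL A h1) hd hdd (shf_aeval hL A h0) hf hfi hfd hg hgi hgd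
    (sub_ne_zero.2 hY1) (by rw [hp1]; exact hl) (by
      rw [e2]
      exact mul_ne_zero (pow_ne_zero _ (by simp)) (mul_ne_zero (pow_ne_zero _ hL) hH0)) (by
      rw [hp1, add_sub_cancel]; exact hYl) (by
      have e1 := alt_sum hd hdd
      rw [shf_eval hL, hGd] at e1
      rw [hfg, e2]
      simp only [Finset.sum_range_succ, Finset.sum_range_zero] at e1 ⊢
      norm_num only [_root_.mul_one, _root_.zero_add, _root_.mul_neg, _root_.neg_mul, _root_.one_mul] at e1 ⊢
      linear_combination (L ^ 2 * H.coeff 0) * e1 - L ^ 5 * hdet) (by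
      rw [hfg1, hp1, hf4, ← hd1]
      ring)
  exact ⟨X', Y', hXY, by rw [hX']; exact hfi, by rw [hY']; exact hgi⟩

/-- **the theorem for linear maps** -/
theorem good_or [Finite F] (h4 : 4 ≤ Nat.card F) (hP : Pair F) (hP' : Pair' F) (hV : Module.finrank F V = 5)
    (A : Module.End F V) (hdet : LinearMap.det A = 1) (hns : ∀ c : F, A ≠ c • 1) :
    Good A ∨ ∃ Z : Module.End F V, Irreducible (LinearMap.charpoly (A * Z)) ∧ Irreducible (LinearMap.charpoly Z) := by
  rcases dich A with ⟨q, hq, hqi, hq3, hqk⟩ | ⟨v1, v2, g1, g2, hg1, hg2, hle, hsum, hs, ha1, ha2, hd⟩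
  · right
    have hq1 : q.natDegree = 1 := by
      have := hqi.natDegree_pos
      omega
    obtain ⟨c, hc⟩ : ∃ c, q = X - C c := ⟨-q.coeff 0, by
      rw [C_neg, sub_neg_eq_add]
      exact hq.eq_X_add_C hq1⟩
    have hk := hqk c hc
    have hrk := LinearMap.finrank_range_add_finrank_ker (A - c • (1 : Module.End F V))
    have hc0 : c ≠ 0 := by
      rintro rfl
      rw [zero_smul, sub_zero] at hk
      have h2 : LinearMap.ker A = ⊥ := LinearMap.ker_eq_bot.2
        (LinearMap.equivOfDetNeZero A (by rw [hdet]; exact one_ne_zero)).injective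
      rw [h2, finrank_bot] at hk
      omega
    obtain ⟨p, g, hp, hpi, hpd, hg, hgi, hgd, hp4, hg4, hpg⟩ := hP'
    have hcoef : ∀ {f : F[X]}, Irreducible f → f.natDegree = 5 → f.coeff 0 ≠ 0 := by
      intro f hfi hfd h0
      have h2 : (X : F[X]) ∣ f := X_dvd_iff.2 h0
      have h3 := (hfi.dvd_iff.1 h2).resolve_left not_isUnit_X
      have h4 := natDegree_eq_of_degree_eq (degree_eq_degree_of_associated h3)
      rw [natDegree_X] at h4
      omega
    obtain ⟨Z, hZ1, hZ2⟩ := H130.War.exists_rank_le_two (m := 5) le_rfl hV hc0 (by omega) (hns c) hp hpd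
      (hcoef hpi hpd) hg hgd (hcoef hgi hgd) (by rw [hdet, one_mul, hpg]) (by
        intro h
        have h2 := congrArg (fun f => f.coeff 4) h
        rw [hp4, coeff_C_mul, comp_C_mul_X_coeff, hg4] at h2
        have h3 : c ^ 5 * (1 * c⁻¹ ^ 4) ≠ 0 := mul_ne_zero (pow_ne_zero _ hc0) (mul_ne_zero one_ne_zero
          (pow_ne_zero _ (inv_ne_zero hc0)))
        exact h3 h2.symm)
    exact ⟨Z, by rw [hZ1]; exact hpi, by rw [hZ2]; exact hgi⟩
  · left
    have hdet' : g1.coeff 0 * g2.coeff 0 = -1 := by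
      rw [hsum, hV, hdet] at hd
      linear_combination hd
    have hcase : g1.natDegree = 0 ∨ g1.natDegree = 1 ∨ g1.natDegree = 2 := by omega
    rcases hcase with h | h | h
    · have h2 : g2.natDegree = 5 := by omega
      have hg1' : g1 = 1 := hg1.natDegree_eq_zero.1 h
      rw [h, h2] at hs
      rw [hg1', coeff_one_zero, one_mul] at hdet'
      exact case_cyc h4 hP hV A hg2 h2 hs ha2 hdet'
    · have h2 : g2.natDegree = 4 := by omega
      rw [h, h2] at hs
      exact case_one h4 hP hV A hg2 h2 hg1 h hs ha2 ha1 hdet'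
    · have h2 : g2.natDegree = 3 := by omega
      rw [h, h2] at hs
      exact case_two h4 hP hV A hg2 h2 hg1 h hs ha2 ha1 hdet'

end Cases

end Cfsg.Agent.H962.PP
end

private theorem dce_e102215a405b : _root_.True := by
  try have : _root_.True := by simp only [_root_.Cfsg.Agent.H962.PP.scl.eq_1]
  try have : _root_.True := by simp only [_root_.Cfsg.Agent.H962.PP.qt.eq_1]
  try have : _root_.True := by simp only [_root_.Cfsg.Agent.H962.PP.shf.eq_1]
  exact _root_.True.intro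
end

-- part: H267/Pw/SpFrame
section
prune_inst 0x21107404306202080000051232201c22960005b000080000308001460587dc2080c028e0fa301d0282a89c05583d006003100100420000000a003400011f01a080800600a1480200ae001f000082000000000000000000000000000000041004000000000
set_option linter.all false
open scoped Cfsg.Agent.FastGrp

/-!
# `Sp_6(3)`: products of two elements of order 13 in opposite positions (helper267; S2465, `F_4(3)`, piece F-E3)

`sp_frame` : `l ∈ Sp_6(3)`, `l ≠ ±1`, is conjugate to `(v(X) d(c₁) v(X)⁻¹) (u(Y) d(c₂) u(Y)⁻¹)`, `c₁`, `c₂` of order 13, `X, Y ≠ 0`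
symmetric, `X Y ≠ 1`.
-/

set_option autoImplicit false

namespace Cfsg.Agent.H267.Pw

open Matrix M9

/-- 6 × 6 matrices -/
abbrev M6 := Matrix (Fin 3 ⊕ Fin 3) (Fin 3 ⊕ Fin 3) (ZMod 3)

/-- the symplectic form -/
def J6 : M6 := fromBlocks 0 (-1) 1 0

/-- lower unipotent -/
def vv (S : Mat) : M6 := fromBlocks 1 0 S 1

/-- upper unipotent -/
def uu (T : Mat) : M6 := fromBlocks 1 T 0 1

/-- the Levi subgroup -/
noncomputable def dd (A : Mat) : M6 := fromBlocks A 0 0 (A⁻¹)ᵀ

/-- symplectic matrices -/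
def IsSp (M : M6) : Prop := Mᵀ * J6 * M = J6

theorem isSp_iff {a b c d : Mat} : IsSp (fromBlocks a b c d) ↔ aᵀ * c = cᵀ * a ∧ aᵀ * d - cᵀ * b = 1 ∧ bᵀ * d = dᵀ * b := by
  have h1 : (fromBlocks a b c d)ᵀ * J6 * fromBlocks a b c d =
      fromBlocks (cᵀ * a - aᵀ * c) (cᵀ * b - aᵀ * d) (dᵀ * a - bᵀ * c) (dᵀ * b - bᵀ * d) := by
    rw [J6, fromBlocks_transpose, fromBlocks_multiply, fromBlocks_multiply]
    congr 1 <;> simp [sub_eq_add_neg, add_comm]
  rw [IsSp, h1, J6, fromBlocks_inj]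
  constructor
  · rintro ⟨h2, h3, h4, h5⟩
    refine ⟨(sub_eq_zero.1 h2).symm, ?_, (sub_eq_zero.1 h5).symm⟩
    rw [← neg_sub, h3, neg_neg]
  · rintro ⟨h2, h3, h4⟩
    refine ⟨by rw [h2, sub_self], by rw [← neg_sub, h3], ?_, by rw [h4, sub_self]⟩
    have := congrArg Matrix.transpose h3
    rw [transpose_sub, transpose_mul, transpose_mul, transpose_transpose, transpose_transpose, transpose_one] at this
    exact this

theorem IsSp.mul {M N : M6} (hM : IsSp M) (hN : IsSp N) : IsSp (M * N) := by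
  rw [IsSp] at hM hN ⊢
  rw [transpose_mul]
  calc Nᵀ * Mᵀ * J6 * (M * N) = Nᵀ * (Mᵀ * J6 * M) * N := by simp only [Matrix.mul_assoc]
    _ = J6 := by rw [hM, hN]

theorem IsSp.of_inv {g g' : M6} (hg : IsSp g) (h : g * g' = 1) : IsSp g' := by
  rw [IsSp] at hg ⊢
  calc g'ᵀ * J6 * g' = g'ᵀ * (gᵀ * J6 * g) * g' := by rw [hg]
    _ = (g * g')ᵀ * J6 * (g * g') := by rw [transpose_mul]; simp only [Matrix.mul_assoc]
    _ = J6 := by rw [h, transpose_one, Matrix.one_mul, Matrix.mul_one]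

/-- conjugacy in the symplectic group -/
def Cj (l l' : M6) : Prop := ∃ g g' : M6, IsSp g ∧ g * g' = 1 ∧ g * l * g' = l'

theorem Cj.trans {l l' l'' : M6} (h : Cj l l') (h' : Cj l' l'') : Cj l l'' := by
  obtain ⟨g, g', h1, h2, h3⟩ := h
  obtain ⟨k, k', h4, h5, h6⟩ := h'
  refine ⟨k * g, g' * k', h4.mul h1, ?_, ?_⟩
  · calc k * g * (g' * k') = k * (g * g') * k' := by simp only [Matrix.mul_assoc]
      _ = 1 := by rw [h2, Matrix.mul_one, h5]
  · calc k * g * l * (g' * k') = k * (g * l * g') * k' := by simp only [Matrix.mul_assoc]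
      _ = l'' := by rw [h3, h6]

theorem Cj.isSp {l l' : M6} (h : Cj l l') (hl : IsSp l) : IsSp l' := by
  obtain ⟨g, g', h1, h2, rfl⟩ := h
  exact (h1.mul hl).mul (h1.of_inv h2)

theorem isSp_uu {P : Mat} (hP : Pᵀ = P) : IsSp (uu P) := by
  rw [uu, isSp_iff]
  simp [hP]

theorem uu_mul (P Q : Mat) : uu P * uu Q = uu (P + Q) := by
  rw [uu, uu, fromBlocks_multiply, uu]
  simp [add_comm]

theorem uu_zero : uu 0 = 1 := by rw [uu, fromBlocks_one]

/-- conjugation by `u(P)` -/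
theorem cj_uu {a b c d P : Mat} (hP : Pᵀ = P) :
    Cj (fromBlocks a b c d) (fromBlocks (a + P * c) (b + P * d - (a + P * c) * P) c (d - c * P)) := by
  refine ⟨uu P, uu (-P), isSp_uu hP, by rw [uu_mul, add_neg_cancel, uu_zero], ?_⟩
  rw [uu, uu, fromBlocks_multiply, fromBlocks_multiply]
  congr 1 <;> simp [sub_eq_add_neg, add_comm]

theorem isSp_dd {g g' : Mat} (h : g * g' = 1) : IsSp (fromBlocks g 0 0 g'ᵀ) := by
  rw [isSp_iff]
  refine ⟨by simp, ?_, by simp⟩
  rw [Matrix.mul_zero, sub_zero, ← transpose_mul, mul_eq_one_comm.1 h, transpose_one]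

/-- conjugation by `d(g)` -/
theorem cj_dd {a b c d g g' : Mat} (h : g * g' = 1) :
    Cj (fromBlocks a b c d) (fromBlocks (g * a * g') (g * b * gᵀ) (g'ᵀ * c * g') (g'ᵀ * d * gᵀ)) := by
  refine ⟨fromBlocks g 0 0 g'ᵀ, fromBlocks g' 0 0 gᵀ, isSp_dd h, ?_, ?_⟩
  · rw [fromBlocks_multiply, ← fromBlocks_one]
    congr 1 <;> simp [h, ← transpose_mul]
  · rw [fromBlocks_multiply, fromBlocks_multiply]
    congr 1 <;> simp

/-- conjugation by the Weyl element -/
theorem cj_J {a b c d : Mat} : Cj (fromBlocks a b c d) (fromBlocks d (-c) (-b) a) := by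
  refine ⟨J6, fromBlocks 0 1 (-1) 0, ?_, ?_, ?_⟩
  · rw [J6, isSp_iff]
    simp
  · rw [J6, fromBlocks_multiply, ← fromBlocks_one]
    congr 1 <;> simp
  · rw [J6, fromBlocks_multiply, fromBlocks_multiply]
    congr 1 <;> simp

/-! ### The lower left block -/

/-- scalar matrices -/
theorem scalar_of_comm {a d : Mat} (h : ∀ P : Mat, Pᵀ = P → P * d = a * P) : ∃ t : ZMod 3, a = t • (1 : Mat) ∧ d = a := by
  have h1 := h 1 transpose_one
  rw [Matrix.one_mul, Matrix.mul_one] at h1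
  subst h1
  have hd : ∀ i, single i i (1 : ZMod 3) * d = d * single i i 1 := fun i => h _ (by rw [transpose_single])
  have ho : ∀ i j, (single i j (1 : ZMod 3) + single j i 1) * d = d * (single i j 1 + single j i 1) := fun i j =>
    h _ (by rw [transpose_add, transpose_single, transpose_single, add_comm])
  have h2 : ∀ i j, i ≠ j → d i j = 0 := by
    intro i j hij
    have h3 := congrFun (congrFun (hd i) i) j
    rw [single_mul_apply_same, one_mul] at h3
    rw [h3, mul_single_apply_of_ne _ _ _ _ _ hij.symm]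
  have h3 : ∀ i j, d i i = d j j := by
    intro i j
    by_cases hij : i = j
    · rw [hij]
    · have h4 := congrFun (congrFun (ho i j) i) j
      rw [add_mul, mul_add, Matrix.add_apply, Matrix.add_apply, single_mul_apply_same, one_mul,
        single_mul_apply_of_ne _ _ _ _ _ hij, mul_single_apply_same, mul_one,
        mul_single_apply_of_ne _ _ _ _ _ (Ne.symm hij)] at h4
      · rw [add_zero, add_zero] at h4
        exact h4.symm
  refine ⟨d 0 0, ?_, rfl⟩
  ext i j
  by_cases hij : i = j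
  · subst hij
    rw [Matrix.smul_apply, one_apply_eq, smul_eq_mul, mul_one, h3]
  · rw [h2 i j hij, Matrix.smul_apply, one_apply_ne hij, smul_zero]

/-- Step 1: the lower left block can be made nonzero. -/
theorem step_one {l : M6} (hl : IsSp l) (h1 : l ≠ 1) (h2 : l ≠ -1) :
    ∃ a b c d : Mat, Cj l (fromBlocks a b c d) ∧ c ≠ 0 := by
  obtain ⟨a, b, c, d, rfl⟩ : ∃ a b c d : Mat, l = fromBlocks a b c d :=
    ⟨_, _, _, _, (fromBlocks_toBlocks l).symm⟩
  have hrefl : ∀ l : M6, Cj l l := fun l => ⟨1, 1, by rw [IsSp, transpose_one, Matrix.one_mul, Matrix.mul_one],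
    Matrix.one_mul 1, by rw [Matrix.one_mul, Matrix.mul_one]⟩
  by_cases hc : c = 0
  · subst hc
    by_cases hex : ∃ P : Mat, Pᵀ = P ∧ b + P * d - (a + P * 0) * P ≠ 0
    · obtain ⟨P, hP, hne⟩ := hex
      exact ⟨_, _, _, _, (cj_uu hP).trans cj_J, neg_ne_zero.2 hne⟩
    · push Not at hex
      exfalso
      have hb := hex 0 transpose_zero
      rw [Matrix.zero_mul, Matrix.mul_zero, add_zero, sub_zero] at hb
      subst hb
      have h3 : ∀ P : Mat, Pᵀ = P → P * d = a * P := by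
        intro P hP
        have h4 := hex P hP
        rw [Matrix.mul_zero, add_zero, zero_add, sub_eq_zero] at h4
        exact h4
      obtain ⟨t, ht, hda⟩ := scalar_of_comm h3
      rw [isSp_iff] at hl
      obtain ⟨-, h5, -⟩ := hl
      rw [hda, ht, transpose_zero, Matrix.zero_mul, sub_zero, transpose_smul, transpose_one, Matrix.smul_mul,
        Matrix.mul_smul, Matrix.one_mul] at h5
      have h6 : t * t = 1 := by
        have := congrFun (congrFun h5 0) 0
        simpa only [_root_.Fin.isValue, _root_.Matrix.smul_apply, _root_.Matrix.one_apply_eq, _root_.smul_eq_mul, _root_.mul_one] using this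
      have h7 : t = 1 ∨ t = -1 := (by decide : ∀ t : ZMod 3, t * t = 1 → t = 1 ∨ t = -1) t h6
      rcases h7 with h7 | h7
      · apply h1
        rw [hda, ht, h7, one_smul, fromBlocks_one]
      · apply h2
        rw [hda, ht, h7, neg_one_smul, ← fromBlocks_one, fromBlocks_neg, neg_zero]
  · exact ⟨a, b, c, d, hrefl _, hc⟩

/-! ### The upper left block -/

/-- Step 2a: the upper left block can be made invertible. -/
theorem exists_inv (c : Mat) : ∀ (n : ℕ) (a : Mat), (Finset.univ.filter fun z : Fin 3 → ZMod 3 => a *ᵥ z = 0).card ≤ n →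
    aᵀ * c = cᵀ * a → (∀ x : Fin 3 → ZMod 3, a *ᵥ x = 0 → c *ᵥ x = 0 → x = 0) →
    ∃ P : Mat, Pᵀ = P ∧ (a + P * c).det ≠ 0 := by
  intro n
  induction n with
  | zero =>
    intro a hn _ _
    exfalso
    have h1 : (0 : Fin 3 → ZMod 3) ∈ (Finset.univ.filter fun z : Fin 3 → ZMod 3 => a *ᵥ z = 0) := by
      rw [Finset.mem_filter]
      exact ⟨Finset.mem_univ _, Matrix.mulVec_zero a⟩
    have h2 := Finset.card_pos.2 ⟨_, h1⟩
    omega
  | succ n ih =>
    intro a hn hs hr
    by_cases hdet : a.det = 0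
    · obtain ⟨y, hy0, hy⟩ := Matrix.exists_mulVec_eq_zero_iff.2 hdet
      have hcy : c *ᵥ y ≠ 0 := fun h => hy0 (hr y hy h)
      obtain ⟨i, hi⟩ := Function.ne_iff.1 hcy
      have hi' : (c *ᵥ y) i ≠ 0 := hi
      have key : ∀ z : Fin 3 → ZMod 3, (a + single i i 1 * c) *ᵥ z = a *ᵥ z + Pi.single i ((c *ᵥ z) i) := by
        intro z
        rw [Matrix.add_mulVec, ← Matrix.mulVec_mulVec]
        congr 1
        ext j
        rw [single_mulVec, one_mul]
        rfl
      have hsub : ∀ z : Fin 3 → ZMod 3, (a + single i i 1 * c) *ᵥ z = 0 → a *ᵥ z = 0 ∧ (c *ᵥ z) i = 0 := by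
        intro z hz
        rw [key] at hz
        have h1 : (c *ᵥ y) ⬝ᵥ (a *ᵥ z) = 0 := by
          have h2 : (c *ᵥ y) ⬝ᵥ (a *ᵥ z) = y ⬝ᵥ ((cᵀ * a) *ᵥ z) := by
            rw [← Matrix.mulVec_mulVec, Matrix.dotProduct_mulVec y cᵀ, Matrix.vecMul_transpose]
          rw [h2, ← hs, ← Matrix.mulVec_mulVec, Matrix.dotProduct_mulVec y aᵀ, Matrix.vecMul_transpose, hy, zero_dotProduct]
        have h3 : a *ᵥ z = -Pi.single i ((c *ᵥ z) i) := eq_neg_of_add_eq_zero_left hz
        rw [h3, dotProduct_neg, dotProduct_single, neg_eq_zero] at h1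
        have h4 : (c *ᵥ z) i = 0 := (mul_eq_zero.1 h1).resolve_left hi'
        rw [h4, Pi.single_zero, neg_zero] at h3
        exact ⟨h3, h4⟩
      have hcard : (Finset.univ.filter fun z : Fin 3 → ZMod 3 => (a + single i i 1 * c) *ᵥ z = 0).card ≤ n := by
        have hlt : (Finset.univ.filter fun z : Fin 3 → ZMod 3 => (a + single i i 1 * c) *ᵥ z = 0).card <
            (Finset.univ.filter fun z : Fin 3 → ZMod 3 => a *ᵥ z = 0).card := by
          refine Finset.card_lt_card ⟨fun z hz => ?_, fun h => ?_⟩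
          · rw [Finset.mem_filter] at hz ⊢
            exact ⟨hz.1, (hsub z hz.2).1⟩
          · have h1 := h (Finset.mem_filter.2 ⟨Finset.mem_univ y, hy⟩)
            rw [Finset.mem_filter] at h1
            exact hi' (hsub y h1.2).2
        omega
      obtain ⟨P, hP, hPd⟩ := ih (a + single i i 1 * c) hcard (by
        rw [transpose_add, transpose_mul, transpose_single, Matrix.add_mul, Matrix.mul_add, hs, Matrix.mul_assoc])
        (fun x hx hcx => hr x (hsub x hx).1 hcx)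
      refine ⟨single i i 1 + P, by rw [transpose_add, transpose_single, hP], ?_⟩
      rw [Matrix.add_mul, ← add_assoc]
      exact hPd
    · exact ⟨0, transpose_zero, by rw [Matrix.zero_mul, add_zero]; exact hdet⟩

/-! ### Diagonal forms -/

/-- matrix from its code -/
def dec (n : ℕ) : M9 :=
  ⟨n % 3, n / 3 % 3, n / 9 % 3, n / 27 % 3, n / 81 % 3, n / 243 % 3, n / 729 % 3, n / 2187 % 3, n / 6561 % 3⟩

/-- diagonalising matrices -/
def tbD : List ℕ := [
  0, 2431, 2431, 6674, 6593, 6592, 6674, 6592, 6593, 3164, 977, 976, 7160, 7079, 7078, 6917, 6835, 6836, 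
  3164, 976, 977, 6917, 6836, 6835, 7160, 7078, 7079, 2223, 6591, 6591, 6671, 2449, 6592, 6670, 2440, 6593, 
  3164, 821, 820, 1114, 2985, 851, 1084, 2958, 881, 3164, 820, 821, 1088, 2955, 877, 1112, 2982, 853, 
  2223, 6591, 6591, 6670, 6593, 2440, 6671, 6592, 2449, 3164, 821, 820, 1112, 853, 2982, 1088, 877, 2955, 
  3164, 820, 821, 1084, 881, 2958, 1114, 851, 2985, 3060, 3060, 3060, 6692, 854, 878, 6683, 850, 880, 
  3182, 2960, 2983, 1124, 827, 6853, 1096, 7087, 826, 3173, 2956, 2987, 1097, 7097, 824, 1123, 823, 6845, 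
  873, 873, 873, 6689, 3067, 850, 6679, 3065, 854, 3182, 875, 7086, 1113, 995, 876, 6931, 2986, 826, 
  3173, 874, 7095, 6923, 2984, 824, 1110, 985, 879, 846, 846, 846, 6688, 880, 3065, 6680, 878, 3067, 
  3182, 6852, 847, 7165, 827, 2957, 1086, 849, 994, 3173, 6843, 848, 1083, 852, 986, 7175, 823, 2959, 
  3060, 3060, 3060, 6683, 880, 850, 6692, 878, 854, 3173, 2987, 2956, 1123, 6845, 823, 1097, 824, 7097, 
  3182, 2983, 2960, 1096, 826, 7087, 1124, 6853, 827, 846, 846, 846, 6680, 3067, 878, 6688, 3065, 880, 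
  3173, 848, 6843, 7175, 2959, 823, 1083, 986, 852, 3182, 847, 6852, 1086, 994, 849, 7165, 2957, 827, 
  873, 873, 873, 6679, 854, 3065, 6689, 850, 3067, 3173, 7095, 874, 1110, 879, 985, 6923, 824, 2984, 
  3182, 7086, 875, 6931, 826, 2986, 1113, 876, 995, 819, 975, 975, 1068, 825, 822, 1068, 822, 825, 
  3161, 2437, 976, 1122, 879, 876, 1095, 849, 852, 3160, 2434, 977, 1095, 852, 849, 1122, 876, 879, 
  819, 819, 819, 1059, 993, 822, 1056, 984, 825, 3161, 6609, 820, 1114, 3063, 6853, 1084, 3061, 7097, 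
  3160, 6600, 821, 1088, 3062, 7087, 1112, 3066, 6845, 819, 819, 819, 1056, 825, 984, 1059, 822, 993, 
  3161, 6609, 820, 7174, 853, 2957, 6932, 877, 2984, 3160, 6600, 821, 6922, 881, 2986, 7166, 851, 2959, 
  2979, 2979, 2979, 1070, 854, 7096, 1069, 850, 7088, 3179, 3068, 2956, 1124, 6611, 851, 6926, 877, 826, 
  3169, 3064, 2960, 6935, 881, 824, 1123, 6601, 853, 2385, 7077, 7077, 1061, 2980, 850, 1057, 2981, 854, 
  3179, 875, 874, 7157, 2455, 7078, 1085, 3061, 826, 3169, 874, 875, 1087, 3062, 824, 7156, 2443, 7079, 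
  846, 846, 846, 1058, 7088, 2981, 1060, 7096, 2980, 3179, 848, 6843, 1111, 6611, 2982, 1086, 849, 994, 
  3169, 847, 6852, 1083, 852, 986, 1115, 6601, 2985, 2952, 2952, 2952, 1069, 880, 6844, 1070, 878, 6854, 
  3170, 3068, 2983, 7169, 853, 823, 1097, 6610, 881, 3178, 3064, 2987, 1096, 6602, 877, 7178, 851, 827, 
  2304, 6834, 6834, 1060, 2954, 878, 1058, 2953, 880, 3170, 848, 847, 1115, 3063, 823, 6913, 2446, 6836, 
  3178, 847, 848, 6914, 2452, 6835, 1111, 3066, 827, 873, 873, 873, 1057, 6854, 2953, 1061, 6844, 2954, 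
  3170, 875, 7086, 1110, 879, 985, 1087, 6610, 2955, 3178, 874, 7095, 1085, 6602, 2958, 1113, 876, 995, 
  819, 975, 975, 1068, 825, 822, 1068, 822, 825, 3160, 977, 2434, 1122, 879, 876, 1095, 849, 852, 
  3161, 976, 2437, 1095, 852, 849, 1122, 876, 879, 819, 819, 819, 1059, 993, 822, 1056, 984, 825, 
  3160, 821, 6600, 7166, 2959, 851, 6922, 2986, 881, 3161, 820, 6609, 6932, 2984, 877, 7174, 2957, 853, 
  819, 819, 819, 1056, 825, 984, 1059, 822, 993, 3160, 821, 6600, 1112, 6845, 3066, 1088, 7087, 3062, 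
  3161, 820, 6609, 1084, 7097, 3061, 1114, 6853, 3063, 2952, 2952, 2952, 1070, 6854, 878, 1069, 6844, 880, 
  3178, 2987, 3064, 7178, 827, 851, 1096, 877, 6602, 3170, 2983, 3068, 1097, 881, 6610, 7169, 823, 853, 
  873, 873, 873, 1061, 2954, 6844, 1057, 2953, 6854, 3178, 7095, 874, 1113, 995, 876, 1085, 2958, 6602, 
  3170, 7086, 875, 1087, 2955, 6610, 1110, 985, 879, 2304, 6834, 6834, 1058, 880, 2953, 1060, 878, 2954, 
  3178, 848, 847, 1111, 827, 3066, 6914, 6835, 2452, 3170, 847, 848, 6913, 6836, 2446, 1115, 823, 3063, 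
  2979, 2979, 2979, 1069, 7088, 850, 1070, 7096, 854, 3169, 2960, 3064, 1123, 853, 6601, 6935, 824, 881, 
  3179, 2956, 3068, 6926, 826, 877, 1124, 851, 6611, 846, 846, 846, 1060, 2980, 7096, 1058, 2981, 7088, 
  3169, 6852, 847, 1115, 2985, 6601, 1083, 986, 852, 3179, 6843, 848, 1086, 994, 849, 1111, 2982, 6611, 
  2385, 7077, 7077, 1057, 854, 2981, 1061, 850, 2980, 3169, 875, 874, 7156, 7079, 2443, 1087, 824, 3062, 
  3179, 874, 875, 1085, 826, 3061, 7157, 7078, 2455]

/-- the check -/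
def ckD (S h : M9) : Bool :=
  h.det != 0 &&
    (let D := (h.tr.mul S).mul h
     D.b == 0 && D.c == 0 && D.d == 0 && D.f == 0 && D.g == 0 && D.h == 0 && D.a != 0 && (D.e != 0 || D.i == 0))

private def ckI (j x : ℕ) : Bool :=
  (j == 0) || ckD (sy (j % 3) (j / 3 % 3) (j / 9 % 3) (j / 27 % 3) (j / 81 % 3) (j / 243 % 3)) (dec x)

private def goI (l : List ℕ) : ℕ → Bool := List.rec (fun _ => true) (fun x _ ih i => ckI i x && ih (Nat.succ i)) l

private theorem goI_spec {l : List ℕ} {i : ℕ} (h : goI l i = true) : ∀ j < l.length, ckI (i + j) (l.getD j 0) = true := by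
  induction l generalizing i with
  | nil => intro j hj; exact absurd hj (Nat.not_lt_zero j)
  | cons x l ih =>
    have h' : (ckI i x && goI l (i + 1)) = true := h
    rw [Bool.and_eq_true] at h'
    intro j hj
    cases j with
    | zero => exact h'.1
    | succ j =>
      have h2 := ih h'.2 j (Nat.lt_of_succ_lt_succ hj)
      rw [Nat.add_right_comm] at h2
      exact h2

private noncomputable def _root_.Cfsg.Agent.KO3f367f2.oEq.{ku} (α : Sort ku) (a b : Nat) (f t : α) : α := @Decidable.rec (a = b) (fun _ => α) (fun _ => f) (fun _ => t) (Nat.decEq a b)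
private noncomputable def _root_.Cfsg.Agent.KO3f367f2.k5.{ku} (α : Sort ku) (a b : Nat) (f t : α) : α := @Bool.rec (fun _ => α) f t (Nat.beq a b)
private theorem _root_.Cfsg.Agent.KO3f367f2.e5.{ku} : @_root_.Cfsg.Agent.KO3f367f2.oEq.{ku} = @_root_.Cfsg.Agent.KO3f367f2.k5.{ku} := funext fun α => funext fun a => funext fun b => funext fun f => funext fun t => by delta _root_.Cfsg.Agent.KO3f367f2.oEq _root_.Cfsg.Agent.KO3f367f2.k5; cases h : Nat.beq a b <;> cases Nat.decEq a b <;> rename_i g <;> first | rfl | exact absurd g (Nat.ne_of_beq_eq_false h) | exact absurd (Nat.eq_of_beq_eq_true h) g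
private noncomputable def _root_.Cfsg.Agent.KO3f367f2.k6 : (by first | exact type_of% @Cfsg.Agent.H267.Pw.M9.mul | exact Unit : Sort _) := by first | (refine @Subtype.val _ (fun g => @Cfsg.Agent.H267.Pw.M9.mul = @g) (@Subtype.mk _ _ (@(letI c0 := @Nat.mod; letI c1 := @Nat.add; letI c2 := @Nat.mul; letI c3 := @Cfsg.Agent.H267.Pw.M9.a; letI c4 := @Cfsg.Agent.H267.Pw.M9.b; letI c5 := @Cfsg.Agent.H267.Pw.M9.d; letI c6 := @Cfsg.Agent.H267.Pw.M9.c; letI c7 := @Cfsg.Agent.H267.Pw.M9.g; letI c8 := @Cfsg.Agent.H267.Pw.M9.e; letI c9 := @Cfsg.Agent.H267.Pw.M9.h; letI c10 := @Cfsg.Agent.H267.Pw.M9.f; letI c11 := @Cfsg.Agent.H267.Pw.M9.i; @(fun x0 x1 => @Cfsg.Agent.H267.Pw.M9.mk (@c0 (@c1 (@c1 (@c2 (@c3 @x0) (@c3 @x1)) (@c2 (@c4 @x0) (@c5 @x1))) (@c2 (@c6 @x0) (@c7 @x1))) (nat_lit 3)) (@c0 (@c1 (@c1 (@c2 (@c3 @x0) (@c4 @x1)) (@c2 (@c4 @x0) (@c8 @x1))) (@c2 (@c6 @x0) (@c9 @x1))) (nat_lit 3)) (@c0 (@c1 (@c1 (@c2 (@c3 @x0) (@c6 @x1)) (@c2 (@c4 @x0) (@c10 @x1)))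 (@c2 (@c6 @x0) (@c11 @x1))) (nat_lit 3)) (@c0 (@c1 (@c1 (@c2 (@c5 @x0) (@c3 @x1)) (@c2 (@c8 @x0) (@c5 @x1))) (@c2 (@c10 @x0) (@c7 @x1))) (nat_lit 3)) (@c0 (@c1 (@c1 (@c2 (@c5 @x0) (@c4 @x1)) (@c2 (@c8 @x0) (@c8 @x1))) (@c2 (@c10 @x0) (@c9 @x1))) (nat_lit 3)) (@c0 (@c1 (@c1 (@c2 (@c5 @x0) (@c6 @x1)) (@c2 (@c8 @x0) (@c10 @x1))) (@c2 (@c10 @x0) (@c11 @x1))) (nat_lit 3)) (@c0 (@c1 (@c1 (@c2 (@c7 @x0) (@c3 @x1)) (@c2 (@c9 @x0) (@c5 @x1))) (@c2 (@c11 @x0) (@c7 @x1))) (nat_lit 3)) (@c0 (@c1 (@c1 (@c2 (@c7 @x0) (@c4 @x1)) (@c2 (@c9 @x0) (@c8 @x1))) (@c2 (@c11 @x0) (@c9 @x1))) (nat_lit 3)) (@c0 (@c1 (@c1 (@c2 (@c7 @x0) (@c6 @x1)) (@c2 (@c9 @x0) (@c10 @x1))) (@c2 (@c11 @x0) (@c11 @x1))) (nat_lit 3))))) ?_); rfl') | exact @Cfsg.Agent.H267.Pw.M9.mul | exact ()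
private theorem _root_.Cfsg.Agent.KO3f367f2.e6 : (by first | exact @Cfsg.Agent.H267.Pw.M9.mul = @_root_.Cfsg.Agent.KO3f367f2.k6 | exact True : Prop) := by first | (delta _root_.Cfsg.Agent.KO3f367f2.k6; exact @Subtype.property _ (fun g => @Cfsg.Agent.H267.Pw.M9.mul = @g) _) | rfl | trivial
private noncomputable def _root_.Cfsg.Agent.KO3f367f2.k7 : (by first | exact type_of% @Cfsg.Agent.H267.Pw.M9.det | exact Unit : Sort _) := by first | (refine @Subtype.val _ (fun g => @Cfsg.Agent.H267.Pw.M9.det = @g) (@Subtype.mk _ _ (@(letI c0 := @Nat.add; letI c1 := @Nat.mul; letI c2 := @Cfsg.Agent.H267.Pw.M9.e; letI c3 := @Cfsg.Agent.H267.Pw.M9.i; letI c4 := @Cfsg.Agent.H267.Pw.M9.f; letI c5 := @Cfsg.Agent.H267.Pw.M9.h; letI c6 := @Cfsg.Agent.H267.Pw.M9.g; letI c7 := @Cfsg.Agent.H267.Pw.M9.d; @(fun x0 => @Nat.mod (@c0 (@c0 (@c1 (@Cfsg.Agent.H267.Pw.M9.a @x0) (@c0 (@c1 (@c2 @x0) (@c3 @x0)) (@c1 (nat_lit 2) (@c1 (@c4 @x0) (@c5 @x0))))) (@c1 (@Cfsg.Agent.H267.Pw.M9.b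 @x0) (@c0 (@c1 (@c4 @x0) (@c6 @x0)) (@c1 (nat_lit 2) (@c1 (@c7 @x0) (@c3 @x0)))))) (@c1 (@Cfsg.Agent.H267.Pw.M9.c @x0) (@c0 (@c1 (@c7 @x0) (@c5 @x0)) (@c1 (nat_lit 2) (@c1 (@c2 @x0) (@c6 @x0)))))) (nat_lit 3)))) ?_); rfl') | exact @Cfsg.Agent.H267.Pw.M9.det | exact ()
private theorem _root_.Cfsg.Agent.KO3f367f2.e7 : (by first | exact @Cfsg.Agent.H267.Pw.M9.det = @_root_.Cfsg.Agent.KO3f367f2.k7 | exact True : Prop) := by first | (delta _root_.Cfsg.Agent.KO3f367f2.k7; exact @Subtype.property _ (fun g => @Cfsg.Agent.H267.Pw.M9.det = @g) _) | rfl | trivial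
private noncomputable def _root_.Cfsg.Agent.KO3f367f2.k8 : (by first | exact type_of% @Cfsg.Agent.H267.Pw.ckD | exact Unit : Sort _) := by first | (refine @Subtype.val _ (fun g => @Cfsg.Agent.H267.Pw.ckD = @g) (@Subtype.mk _ _ (@(letI c0 := @Bool.rec.{1}; letI c1 := @Bool.false; letI c2 := @Cfsg.Agent.KO3f367f2.k5.{1}; letI c3 := @Bool.true; @(fun x0 x1 => @c0 @(fun x2 => @Bool) @c1 ((let x2 : @Cfsg.Agent.H267.Pw.M9 := @Cfsg.Agent.KO3f367f2.k6 (@Cfsg.Agent.KO3f367f2.k6 (@Cfsg.Agent.H267.Pw.M9.tr @x1) @x0) @x1; @c0 @(fun x3 => @Bool) @c1 (@c0 @(fun x3 => @Bool) (@c2 @Bool (@Cfsg.Agent.H267.Pw.M9.i @x2) (nat_lit 0) @c1 @c3) @c3 (@c0 @(fun x3 => @Bool) @c3 @c1 (@c2 @Bool (@Cfsg.Agent.H267.Pw.M9.e @x2) (nat_lit 0) @c1 @c3))) (@c0 @(fun x3 => @Bool) @c1 (@c0 @(fun x3 => @Bool) @c3 @c1 (@c2 @Bool (@Cfsg.Agent.H267.Pw.M9.a @x2) (nat_lit 0) @c1 @c3)) (@c0 @(fun x3 => @Bool) @c1 (@c2 @Bool (@Cfsg.Agent.H267.Pw.M9.h @x2) (nat_lit 0) @c1 @c3) (@c0 @(fun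 x3 => @Bool) @c1 (@c2 @Bool (@Cfsg.Agent.H267.Pw.M9.g @x2) (nat_lit 0) @c1 @c3) (@c0 @(fun x3 => @Bool) @c1 (@c2 @Bool (@Cfsg.Agent.H267.Pw.M9.f @x2) (nat_lit 0) @c1 @c3) (@c0 @(fun x3 => @Bool) @c1 (@c2 @Bool (@Cfsg.Agent.H267.Pw.M9.d @x2) (nat_lit 0) @c1 @c3) (@c0 @(fun x3 => @Bool) @c1 (@c2 @Bool (@Cfsg.Agent.H267.Pw.M9.c @x2) (nat_lit 0) @c1 @c3) (@c2 @Bool (@Cfsg.Agent.H267.Pw.M9.b @x2) (nat_lit 0) @c1 @c3))))))))) (@c0 @(fun x2 => @Bool) @c3 @c1 (@c2 @Bool (@Cfsg.Agent.KO3f367f2.k7 @x1) (nat_lit 0) @c1 @c3))))) ?_); rewrite [← Cfsg.Agent.KO3f367f2.e7, ← Cfsg.Agent.KO3f367f2.e5.{1}, ← Cfsg.Agent.KO3f367f2.e6]; (try delta Cfsg.Agent.H267.Pw.ckD); (try generalize @Cfsg.Agent.H267.Pw.M9.mul = g0); (try generalize @Cfsg.Agent.H267.Pw.M9.tr = g1); (try generalize @Cfsg.Agent.H267.Pw.M9.det = g2); rfl') | exact @Cfsg.Agent.H267.Pw.ckD | exact ()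
private theorem _root_.Cfsg.Agent.KO3f367f2.e8 : (by first | exact @Cfsg.Agent.H267.Pw.ckD = @_root_.Cfsg.Agent.KO3f367f2.k8 | exact True : Prop) := by first | (delta _root_.Cfsg.Agent.KO3f367f2.k8; exact @Subtype.property _ (fun g => @Cfsg.Agent.H267.Pw.ckD = @g) _) | rfl | trivial
private noncomputable def _root_.Cfsg.Agent.KO3f367f2.k9 : (by first | exact type_of% @Cfsg.Agent.H267.Pw.dec | exact Unit : Sort _) := by first | (refine @Subtype.val _ (fun g => @Cfsg.Agent.H267.Pw.dec = @g) (@Subtype.mk _ _ (@(letI c0 := @Nat.mod; letI c1 := @Nat.div; @(fun x0 => @Cfsg.Agent.H267.Pw.M9.mk (@c0 @x0 (nat_lit 3)) (@c0 (@c1 @x0 (nat_lit 3)) (nat_lit 3)) (@c0 (@c1 @x0 (nat_lit 9)) (nat_lit 3)) (@c0 (@c1 @x0 (nat_lit 27)) (nat_lit 3)) (@c0 (@c1 @x0 (nat_lit 81)) (nat_lit 3)) (@c0 (@c1 @x0 (nat_lit 243)) (nat_lit 3)) (@c0 (@c1 @x0 (nat_lit 729)) (nat_lit 3)) (@c0 (@c1 @x0 (nat_lit 2187)) (nat_lit 3)) (@c0 (@c1 @x0 (nat_lit 6561)) (nat_lit 3))))) ?_);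 rfl') | exact @Cfsg.Agent.H267.Pw.dec | exact ()
private theorem _root_.Cfsg.Agent.KO3f367f2.e9 : (by first | exact @Cfsg.Agent.H267.Pw.dec = @_root_.Cfsg.Agent.KO3f367f2.k9 | exact True : Prop) := by first | (delta _root_.Cfsg.Agent.KO3f367f2.k9; exact @Subtype.property _ (fun g => @Cfsg.Agent.H267.Pw.dec = @g) _) | rfl | trivial
private noncomputable def _root_.Cfsg.Agent.KO3f367f2.k10 : (by first | exact type_of% @Cfsg.Agent.H267.Pw.ckI | exact Unit : Sort _) := by first | (refine @Subtype.val _ (fun g => @Cfsg.Agent.H267.Pw.ckI = @g) (@Subtype.mk _ _ (@(letI c0 := @Nat.mod; letI c1 := @Nat.div; letI c2 := @Bool.true; @(fun x0 x1 => @Bool.rec.{1} @(fun x2 => @Bool) (@Cfsg.Agent.KO3f367f2.k8 (@Cfsg.Agent.H267.Pw.M9.sy (@c0 @x0 (nat_lit 3)) (@c0 (@c1 @x0 (nat_lit 3)) (nat_lit 3)) (@c0 (@c1 @x0 (nat_lit 9)) (nat_lit 3)) (@c0 (@c1 @x0 (nat_lit 27)) (nat_lit 3)) (@c0 (@c1 @x0 (nat_lit 81)) (nat_lit 3)) (@c0 (@c1 @x0 (nat_lit 243)) (nat_lit 3)))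 (@Cfsg.Agent.KO3f367f2.k9 @x1)) @c2 (@Cfsg.Agent.KO3f367f2.k5.{1} @Bool @x0 (nat_lit 0) @Bool.false @c2)))) ?_); rewrite [← Cfsg.Agent.KO3f367f2.e5.{1}, ← Cfsg.Agent.KO3f367f2.e9, ← Cfsg.Agent.KO3f367f2.e8]; (try delta Cfsg.Agent.H267.Pw.ckI); (try generalize @Cfsg.Agent.H267.Pw.ckD = g0); (try generalize @Cfsg.Agent.H267.Pw.M9.sy = g1); (try generalize @Cfsg.Agent.H267.Pw.dec = g2); rfl') | exact @Cfsg.Agent.H267.Pw.ckI | exact ()
private theorem _root_.Cfsg.Agent.KO3f367f2.e10 : (by first | exact @Cfsg.Agent.H267.Pw.ckI = @_root_.Cfsg.Agent.KO3f367f2.k10 | exact True : Prop) := by first | (delta _root_.Cfsg.Agent.KO3f367f2.k10; exact @Subtype.property _ (fun g => @Cfsg.Agent.H267.Pw.ckI = @g) _) | rfl | trivial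
private noncomputable def _root_.Cfsg.Agent.KO3f367f2.k11 : (by first | exact type_of% @Cfsg.Agent.H267.Pw.goI | exact Unit : Sort _) := by first | (refine @Subtype.val _ (fun g => @Cfsg.Agent.H267.Pw.goI = @g) (@Subtype.mk _ _ (@(fun x0 => @List.rec.{1, 0} ℕ @(fun x1 => ℕ → @Bool) @(fun x1 => @Bool.true) @(fun x1 x2 x3 x4 => @Bool.rec.{1} @(fun x5 => @Bool) @Bool.false (@x3 (@Nat.succ @x4)) (@Cfsg.Agent.KO3f367f2.k10 @x4 @x1)) @x0)) ?_); rewrite [← Cfsg.Agent.KO3f367f2.e10]; (try delta Cfsg.Agent.H267.Pw.goI); (try generalize @Cfsg.Agent.H267.Pw.ckI = g0); rfl') | exact @Cfsg.Agent.H267.Pw.goI | exact ()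
private theorem _root_.Cfsg.Agent.KO3f367f2.e11 : (by first | exact @Cfsg.Agent.H267.Pw.goI = @_root_.Cfsg.Agent.KO3f367f2.k11 | exact True : Prop) := by first | (delta _root_.Cfsg.Agent.KO3f367f2.k11; exact @Subtype.property _ (fun g => @Cfsg.Agent.H267.Pw.goI = @g) _) | rfl | trivial

theorem ckD_all : ((List.range 3).all fun a => (List.range 3).all fun b => (List.range 3).all fun c =>
    (List.range 3).all fun d => (List.range 3).all fun e => (List.range 3).all fun f =>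
      (a + b + c + d + e + f == 0) ||
        ckD (sy a b c d e f) (dec (tbD.getD (a + 3 * b + 9 * c + 27 * d + 81 * e + 243 * f) 0))) = true := by
  simp only [List.all_eq_true, List.mem_range]
  intro a ha b hb c hc d hd e he f hf
  have hl : tbD.length = 729 := by decide +kernel
  have h := goI_spec (l := tbD) (i := 0) (by (first | (rewrite [Cfsg.Agent.KO3f367f2.e11]; decide +kernel) | decide +kernel)) (a + 3 * b + 9 * c + 27 * d + 81 * e + 243 * f) (by omega)
  rw [Nat.zero_add] at h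
  generalize hj : a + 3 * b + 9 * c + 27 * d + 81 * e + 243 * f = j at h ⊢
  unfold ckI at h
  rw [show j % 3 = a by omega, show j / 3 % 3 = b by omega, show j / 9 % 3 = c by omega, show j / 27 % 3 = d by omega,
    show j / 81 % 3 = e by omega, show j / 243 % 3 = f by omega, Bool.or_eq_true, beq_iff_eq] at h
  rw [Bool.or_eq_true, beq_iff_eq]
  exact h.imp_left fun h => by (clear * - hj h; omega)

/-- a diagonal matrix -/
def dg (s₁ s₂ s₃ : ZMod 3) : Mat := !![s₁, 0, 0; 0, s₂, 0; 0, 0, s₃]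

/-- symmetric matrices can be diagonalised -/
theorem exists_diag {S : Mat} (hS : Sᵀ = S) (h0 : S ≠ 0) : ∃ h h' : Mat, h * h' = 1 ∧ ∃ s₁ s₂ s₃ : ZMod 3,
    h'ᵀ * S * h' = dg s₁ s₂ s₃ ∧ s₁ ≠ 0 ∧ (s₂ = 0 → s₃ = 0) := by
  obtain ⟨a, b, c, d, e, f, ha, hb, hc, hd, he, hf, rfl⟩ := exists_sy hS
  have h3 := List.all_eq_true.1 (List.all_eq_true.1 (List.all_eq_true.1 (List.all_eq_true.1 (List.all_eq_true.1
    (List.all_eq_true.1 ckD_all a (List.mem_range.2 ha)) b (List.mem_range.2 hb)) c (List.mem_range.2 hc)) d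
    (List.mem_range.2 hd)) e (List.mem_range.2 he)) f (List.mem_range.2 hf)
  rw [Bool.or_eq_true] at h3
  rcases h3 with h3 | h3
  · exfalso
    rw [beq_iff_eq] at h3
    apply h0
    have : a = 0 ∧ b = 0 ∧ c = 0 ∧ d = 0 ∧ e = 0 ∧ f = 0 := by (clear * - h3; omega)
    obtain ⟨rfl, rfl, rfl, rfl, rfl, rfl⟩ := this
    ext i j
    (revert i j; simp only [toM, sy, _root_.Fin.forall_fin_succ, _root_.Nat.cast_zero, _root_.Matrix.of_apply, _root_.Matrix.cons_val', _root_.Matrix.cons_val_fin_one, _root_.Matrix.zero_apply, Fin.isValue, _root_.Matrix.cons_val_zero, _root_.Matrix.cons_val_succ, _root_.forall_const, _root_.and_self, _root_.implies_true])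
  · generalize dec (tbD.getD (a + 3 * b + 9 * c + 27 * d + 81 * e + 243 * f) 0) = h at h3
    simp only [ckD, Bool.and_eq_true, bne_iff_ne, beq_iff_eq, Bool.or_eq_true] at h3
    obtain ⟨h4, ⟨⟨⟨⟨⟨⟨h5, h6⟩, h7⟩, h8⟩, h9⟩, h10⟩, h11⟩, h12⟩ := h3
    have hz : ∀ n : ℕ, n < 3 → ((n : ℕ) : ZMod 3) = 0 → n = 0 := by
      intro n hn h
      rw [ZMod.natCast_eq_zero_iff] at h
      exact Nat.eq_zero_of_dvd_of_lt h hn
    refine ⟨toM h.inv, toM h, mul_eq_one_comm.1 (mul_inv h4), (((h.tr.mul (sy a b c d e f)).mul h).a : ZMod 3),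
      (((h.tr.mul (sy a b c d e f)).mul h).e : ZMod 3), (((h.tr.mul (sy a b c d e f)).mul h).i : ZMod 3), ?_, ?_, ?_⟩
    · rw [← toM_tr, ← toM_mul, ← toM_mul, toM, h5, h6, h7, h8, h9, h10, Nat.cast_zero]
      rfl
    · intro h13
      exact h11 (hz _ (Nat.mod_lt _ (by norm_num)) h13)
    · intro h13
      have h14 := hz _ (Nat.mod_lt _ (by norm_num)) h13
      rcases h12 with h12 | h12
      · exact absurd h14 h12
      · rw [h12, Nat.cast_zero]

/-! ### The upper right block -/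

theorem sq_cases : ∀ s : ZMod 3, s ≠ 0 → s * s = 1 := by decide

theorem rk1_aux : ∀ s x y z w : ZMod 3, s ≠ 0 → w * w = 1 → y * w = 0 → x * z = 1 → z * y + (s * x + y) * z = 0 → False := by
  decide +kernel

theorem rk2_aux : ∀ s x y z t : ZMod 3, s ≠ 0 → z * z = 1 → y * z = 0 →
    (1 + 1) * x * s * x + (1 + 1) * y * t * y = s → False := by decide +kernel

theorem rk3_aux : ∀ s x y z : ZMod 3, s ≠ 0 → (1 + 1) * x * s * x + (1 + 1) * y = s →
    (1 + 1) * x * s * x + (1 + 1) * z = s → y + z = 0 → False := by decide +kernel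

theorem step_three {a : Mat} {s₁ s₂ s₃ : ZMod 3} (h1 : s₁ ≠ 0) (h23 : s₂ = 0 → s₃ = 0)
    (H : ∀ P : Mat, Pᵀ = P → (1 + P * dg s₁ s₂ s₃).det = 1 → (1 + P * dg s₁ s₂ s₃) * a * P * aᵀ = P) : False := by
  have e : ∀ (P : Mat), Pᵀ = P → (1 + P * dg s₁ s₂ s₃).det = 1 → ∀ i j : Fin 3,
      ((1 + P * dg s₁ s₂ s₃) * a * P * aᵀ) i j = P i j := fun P hP hd i j => by rw [H P hP hd]
  have sym : ∀ x y z u v w : ZMod 3, (!![x, u, v; u, y, w; v, w, z] : Mat)ᵀ = !![x, u, v; u, y, w; v, w, z] := by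
    intro x y z u v w
    ext i j
    fin_cases i <;> fin_cases j <;> rfl
  have q1 := sq_cases s₁ h1
  by_cases hs2 : s₂ = 0
  · -- rank 1
    have hs3 := h23 hs2
    subst hs2 hs3
    have e22 := e !![0, 0, 0; 0, 1, 0; 0, 0, 0] (sym 0 1 0 0 0 0) (by simp [dg, det_fin_three])
    have e33 := e !![0, 0, 0; 0, 0, 0; 0, 0, 1] (sym 0 0 1 0 0 0) (by simp [dg, det_fin_three])
    have e12 := e !![0, 1, 0; 1, 0, 0; 0, 0, 0] (sym 0 0 0 1 0 0) (by simp [dg, det_fin_three])
    have e13 := e !![0, 0, 1; 0, 0, 0; 1, 0, 0] (sym 0 0 0 0 1 0) (by simp [dg, det_fin_three])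
    have a11 := e22 1 1
    have a21 := e22 2 2
    have a02 := e33 0 0
    have b21 := e12 2 1
    have c02 := e13 0 2
    have c22 := e13 2 2
    simp only [dg, Matrix.mul_apply, Fin.sum_univ_three, Matrix.one_apply, _root_.Cfsg.Agent.H267.Pw.dg, _root_.Matrix.cons_mul, _root_.Nat.succ_eq_add_one, _root_.Nat.reduceAdd, _root_.Matrix.vecMul_cons, _root_.Matrix.head_cons, _root_.zero_smul, _root_.Matrix.tail_cons, _root_.Matrix.empty_vecMul, _root_.add_zero, _root_.one_smul, _root_.zero_add, _root_.Matrix.empty_mul, _root_.Equiv.symm_apply_apply, _root_.Fin.isValue, _root_.Matrix.mul_apply, _root_.Matrix.add_apply, _root_.Matrix.one_apply, _root_.Matrix.of_apply, _root_.Matrix.cons_val', _root_.Pi.zero_apply, _root_.Matrix.cons_val_fin_one, _root_.Matrix.cons_val_one, _root_.Matrix.cons_val_zero, _root_.Fin.sum_univ_three, _root_.one_ne_zero, ↓ _root_.reduceIte, _root_.MulZeroClass.zero_mul, _root_.one_mul, _root_.Fin.reduceEq, _root_.Matrix.cons_val,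 _root_.Matrix.transpose_apply, _root_.MulZeroClass.mul_zero, _root_.mul_one, _root_.ite_mul, _root_.Finset.sum_ite_eq, _root_.Finset.mem_univ, _root_.mul_eq_zero, _root_.or_self, _root_.zero_ne_one] at a11 a21 a02 b21 c02 c22
    rw [a02] at c02 c22
    rw [a21] at b21
    rw [zero_mul, zero_add] at b21 c02
    rw [mul_zero, zero_add] at c22
    exact rk1_aux _ _ _ _ _ h1 a11 b21 c02 c22
  · have q2 := sq_cases s₂ hs2
    by_cases hs3 : s₃ = 0
    · subst hs3
      have hdet : (1 + !![s₁, 0, 0; 0, s₂, 0; 0, 0, 0] * dg s₁ s₂ 0 : Mat).det = 1 := by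
        simp only [dg, det_fin_three, q1, q2, _root_.Cfsg.Agent.H267.Pw.dg, _root_.Matrix.cons_mul, _root_.Nat.succ_eq_add_one, _root_.Nat.reduceAdd, _root_.Matrix.vecMul_cons, _root_.Matrix.head_cons, _root_.Matrix.smul_cons, _root_.smul_eq_mul, _root_.MulZeroClass.mul_zero, _root_.Matrix.smul_empty, _root_.Matrix.tail_cons, _root_.zero_smul, _root_.Matrix.empty_vecMul, _root_.add_zero, _root_.zero_add, _root_.Matrix.empty_mul, _root_.Equiv.symm_apply_apply, _root_.Matrix.det_fin_three, _root_.Fin.isValue, _root_.Matrix.add_apply, _root_.Matrix.one_apply_eq, _root_.Matrix.of_apply, _root_.Matrix.cons_val', _root_.Matrix.cons_val_zero, _root_.Pi.zero_apply, _root_.Matrix.cons_val_fin_one, _root_.Matrix.cons_val_one, _root_.Matrix.cons_val, _root_.mul_one, _root_.ne_eq, _root_.Fin.reduceEq, _root_.not_false_eq_true, _root_.Matrix.one_apply_ne, _root_.sub_zero, _root_.zero_ne_one, _root_.one_ne_zero, _root_.MulZeroClass.zero_mul]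
        decide
      have e33 := e !![0, 0, 0; 0, 0, 0; 0, 0, 1] (sym 0 0 1 0 0 0) (by simp [dg, det_fin_three])
      have e23 := e !![0, 0, 0; 0, 0, 1; 0, 1, 0] (sym 0 0 0 0 0 1) (by simp [dg, det_fin_three])
      have ed := e !![s₁, 0, 0; 0, s₂, 0; 0, 0, 0] (sym s₁ s₂ 0 0 0 0) hdet
      have a02 := e33 0 0
      have a22 := e33 2 2
      have c02 := e23 0 2
      have c22 := ed 0 0
      simp only [dg, Matrix.mul_apply, Fin.sum_univ_three, Matrix.one_apply, _root_.Cfsg.Agent.H267.Pw.dg, _root_.Matrix.cons_mul, _root_.Nat.succ_eq_add_one, _root_.Nat.reduceAdd, _root_.Matrix.vecMul_cons, _root_.Matrix.head_cons, _root_.zero_smul, _root_.Matrix.tail_cons, _root_.Matrix.empty_vecMul, _root_.add_zero, _root_.one_smul, _root_.zero_add, _root_.Matrix.empty_mul, _root_.Equiv.symm_apply_apply, _root_.Fin.isValue, _root_.Matrix.mul_apply, _root_.Matrix.add_apply, _root_.Matrix.one_apply, _root_.Matrix.of_apply, _root_.Matrix.cons_val', _root_.Pi.zero_apply,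 _root_.Matrix.cons_val_fin_one, _root_.Matrix.cons_val_zero, _root_.ite_mul, _root_.one_mul, _root_.MulZeroClass.zero_mul, _root_.Finset.sum_ite_eq, _root_.Finset.mem_univ, ↓ _root_.reduceIte, _root_.Fin.sum_univ_three, _root_.Matrix.cons_val_one, _root_.Matrix.cons_val, _root_.Matrix.transpose_apply, _root_.MulZeroClass.mul_zero, _root_.mul_one, _root_.mul_eq_zero, _root_.or_self, _root_.Fin.reduceEq, _root_.Matrix.smul_cons, _root_.smul_eq_mul, _root_.Matrix.smul_empty, _root_.zero_ne_one] at a02 a22 c02 c22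
      rw [a02, zero_mul, zero_add] at c02
      rw [q1] at c22
      exact rk2_aux _ _ _ _ _ h1 a22 c02 c22
    · have q3 := sq_cases s₃ hs3
      have hd1 : (1 + !![s₁, 0, 0; 0, s₂, 0; 0, 0, 0] * dg s₁ s₂ s₃ : Mat).det = 1 := by
        simp only [dg, det_fin_three, q1, q2, _root_.Cfsg.Agent.H267.Pw.dg, _root_.Matrix.cons_mul, _root_.Nat.succ_eq_add_one, _root_.Nat.reduceAdd, _root_.Matrix.vecMul_cons, _root_.Matrix.head_cons, _root_.Matrix.smul_cons, _root_.smul_eq_mul, _root_.MulZeroClass.mul_zero, _root_.Matrix.smul_empty, _root_.Matrix.tail_cons, _root_.zero_smul, _root_.Matrix.empty_vecMul, _root_.add_zero, _root_.zero_add, _root_.Matrix.empty_mul, _root_.Equiv.symm_apply_apply, _root_.Matrix.det_fin_three, _root_.Fin.isValue, _root_.Matrix.add_apply, _root_.Matrix.one_apply_eq, _root_.Matrix.of_apply, _root_.Matrix.cons_val', _root_.Matrix.cons_val_zero, _root_.Pi.zero_apply, _root_.Matrix.cons_val_fin_one, _root_.Matrix.cons_val_one,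 _root_.Matrix.cons_val, _root_.mul_one, _root_.ne_eq, _root_.Fin.reduceEq, _root_.not_false_eq_true, _root_.Matrix.one_apply_ne, _root_.sub_zero, _root_.zero_ne_one, _root_.one_ne_zero, _root_.MulZeroClass.zero_mul]
        decide
      have hd2 : (1 + !![s₁, 0, 0; 0, 0, 0; 0, 0, s₃] * dg s₁ s₂ s₃ : Mat).det = 1 := by
        simp only [dg, det_fin_three, q1, q3, _root_.Cfsg.Agent.H267.Pw.dg, _root_.Matrix.cons_mul, _root_.Nat.succ_eq_add_one, _root_.Nat.reduceAdd, _root_.Matrix.vecMul_cons, _root_.Matrix.head_cons, _root_.Matrix.smul_cons, _root_.smul_eq_mul, _root_.MulZeroClass.mul_zero, _root_.Matrix.smul_empty, _root_.Matrix.tail_cons, _root_.zero_smul, _root_.Matrix.empty_vecMul, _root_.add_zero, _root_.zero_add, _root_.Matrix.empty_mul, _root_.Equiv.symm_apply_apply, _root_.Matrix.det_fin_three, _root_.Fin.isValue, _root_.Matrix.add_apply, _root_.Matrix.one_apply_eq, _root_.Matrix.of_apply, _root_.Matrix.cons_val', _root_.Matrix.cons_val_zero,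 _root_.Pi.zero_apply, _root_.Matrix.cons_val_fin_one, _root_.Matrix.cons_val_one, _root_.mul_one, _root_.Matrix.cons_val, _root_.ne_eq, _root_.Fin.reduceEq, _root_.not_false_eq_true, _root_.Matrix.one_apply_ne, _root_.sub_zero, _root_.zero_ne_one, _root_.one_ne_zero, _root_.MulZeroClass.zero_mul]
        decide
      have hd3 : (1 + !![0, 0, 0; 0, s₂, 0; 0, 0, s₃] * dg s₁ s₂ s₃ : Mat).det = 1 := by
        simp only [dg, det_fin_three, q2, q3, _root_.Cfsg.Agent.H267.Pw.dg, _root_.Matrix.cons_mul, _root_.Nat.succ_eq_add_one, _root_.Nat.reduceAdd, _root_.Matrix.vecMul_cons, _root_.Matrix.head_cons, _root_.zero_smul, _root_.Matrix.tail_cons, _root_.Matrix.empty_vecMul, _root_.add_zero, _root_.Matrix.smul_cons, _root_.smul_eq_mul, _root_.MulZeroClass.mul_zero, _root_.Matrix.smul_empty, _root_.zero_add, _root_.Matrix.empty_mul, _root_.Equiv.symm_apply_apply, _root_.Matrix.det_fin_three, _root_.Fin.isValue, _root_.Matrix.add_apply, _root_.Matrix.one_apply_eq,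 _root_.Matrix.of_apply, _root_.Matrix.cons_val', _root_.Pi.zero_apply, _root_.Matrix.cons_val_zero, _root_.Matrix.cons_val_fin_one, _root_.Matrix.cons_val_one, _root_.one_mul, _root_.Matrix.cons_val, _root_.ne_eq, _root_.Fin.reduceEq, _root_.not_false_eq_true, _root_.Matrix.one_apply_ne, _root_.sub_zero, _root_.zero_ne_one, _root_.one_ne_zero, _root_.MulZeroClass.zero_mul]
        decide
      have f1 := e _ (sym s₁ s₂ 0 0 0 0) hd1 0 0
      have f2 := e _ (sym s₁ 0 s₃ 0 0 0) hd2 0 0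
      have f3 := e _ (sym 0 s₂ s₃ 0 0 0) hd3 0 0
      simp only [dg, Matrix.mul_apply, Fin.sum_univ_three, Matrix.one_apply, _root_.Cfsg.Agent.H267.Pw.dg, _root_.Matrix.cons_mul, _root_.Nat.succ_eq_add_one, _root_.Nat.reduceAdd, _root_.Matrix.vecMul_cons, _root_.Matrix.head_cons, _root_.Matrix.smul_cons, _root_.smul_eq_mul, _root_.MulZeroClass.mul_zero, _root_.Matrix.smul_empty, _root_.Matrix.tail_cons, _root_.zero_smul, _root_.Matrix.empty_vecMul, _root_.add_zero, _root_.zero_add, _root_.Matrix.empty_mul, _root_.Equiv.symm_apply_apply, _root_.Fin.isValue, _root_.Matrix.mul_apply, _root_.Matrix.add_apply, _root_.Matrix.one_apply, _root_.Matrix.of_apply, _root_.Matrix.cons_val', _root_.Pi.zero_apply, _root_.Matrix.cons_val_fin_one, _root_.Matrix.cons_val_zero, _root_.Fin.sum_univ_three, ↓ _root_.reduceIte, _root_.zero_ne_one, _root_.Matrix.cons_val_one, _root_.MulZeroClass.zero_mul, _root_.Fin.reduceEq, _root_.Matrix.cons_val, _root_.Matrix.transpose_apply,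 _root_.ite_mul, _root_.one_mul, _root_.Finset.sum_ite_eq, _root_.Finset.mem_univ] at f1 f2 f3
      rw [q1] at f1 f2
      exact rk3_aux s₁ (a 0 0) (a 0 1 * s₂ * a 0 1) (a 0 2 * s₃ * a 0 2) h1 (by linear_combination f1)
        (by linear_combination f2) f3

theorem det_ne_cases : ∀ x : ZMod 3, x ≠ 0 → x ≠ 1 → x = -1 := by decide

/-- Step 2b: lower left block in normal form, upper left block of determinant 1. -/
theorem step_two {l : M6} (hl : IsSp l) (h1 : l ≠ 1) (h2 : l ≠ -1) :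
    ∃ (a b d : Mat) (s₁ s₂ s₃ : ZMod 3), Cj l (fromBlocks a b (dg s₁ s₂ s₃ * a) d) ∧ a.det = 1 ∧ s₁ ≠ 0 ∧
      (s₂ = 0 → s₃ = 0) := by
  obtain ⟨a, b, c, d, hc, hc0⟩ := step_one hl h1 h2
  have hsp := isSp_iff.1 (hc.isSp hl)
  obtain ⟨P, hP, hdet⟩ := exists_inv c _ a le_rfl hsp.1 (by
    intro x hax hcx
    -- M *ᵥ (x, 0) = 0
    have h3 : (aᵀ * d - cᵀ * b)ᵀ *ᵥ x = x := by rw [hsp.2.1, transpose_one, one_mulVec]
    rw [← h3, transpose_sub, transpose_mul, transpose_mul, transpose_transpose, transpose_transpose, sub_mulVec,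
      ← mulVec_mulVec, ← mulVec_mulVec, hax, hcx, mulVec_zero, mulVec_zero, sub_zero])
  have hc' := hc.trans (cj_uu (a := a) (b := b) (c := c) (d := d) hP)
  generalize b + P * d - (a + P * c) * P = b' at hc'
  generalize d - c * P = d' at hc'
  generalize a + P * c = a' at hc' hdet
  have hsp' := isSp_iff.1 (hc'.isSp hl)
  have hu : IsUnit a'.det := isUnit_iff_ne_zero.2 hdet
  -- the symmetric matrix c a⁻¹
  have hS : (c * a'⁻¹)ᵀ = c * a'⁻¹ := by
    have h4 : c * a'⁻¹ = (a'⁻¹)ᵀ * (a'ᵀ * c) * a'⁻¹ := by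
      rw [← Matrix.mul_assoc, ← transpose_mul, Matrix.mul_nonsing_inv _ hu, transpose_one, Matrix.one_mul]
    have h5 : (c * a'⁻¹)ᵀ = (a'⁻¹)ᵀ * (cᵀ * a') * a'⁻¹ := by
      rw [transpose_mul, Matrix.mul_assoc, Matrix.mul_assoc, Matrix.mul_nonsing_inv _ hu, Matrix.mul_one]
    rw [h5, ← hsp'.1, ← h4]
  have hS0 : c * a'⁻¹ ≠ 0 := by
    intro h
    apply hc0
    have : c = c * a'⁻¹ * a' := by rw [Matrix.mul_assoc, Matrix.nonsing_inv_mul _ hu, Matrix.mul_one]
    rw [this, h, Matrix.zero_mul]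
  obtain ⟨h, h', hh, s₁, s₂, s₃, hD, hs1, hs23⟩ := exists_diag hS hS0
  have hc'' := hc'.trans (cj_dd (a := a') (b := b') (c := c) (d := d') hh)
  have h6 : h'ᵀ * c * h' = dg s₁ s₂ s₃ * (h * a' * h') := by
    rw [← hD]
    have : c = c * a'⁻¹ * a' := by rw [Matrix.mul_assoc, Matrix.nonsing_inv_mul _ hu, Matrix.mul_one]
    conv_lhs => rw [this]
    have h7 : h' * h = 1 := mul_eq_one_comm.1 hh
    calc h'ᵀ * (c * a'⁻¹ * a') * h' = h'ᵀ * (c * a'⁻¹) * 1 * a' * h' := by
          rw [Matrix.mul_one]; simp only [Matrix.mul_assoc]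
      _ = h'ᵀ * (c * a'⁻¹) * h' * (h * a' * h') := by rw [← h7]; simp only [Matrix.mul_assoc]
  rw [h6] at hc''
  have hdet' : (h * a' * h').det ≠ 0 := by
    rw [det_mul, det_mul]
    have h8 : h.det * h'.det = 1 := by rw [← det_mul, hh, det_one]
    intro h9
    apply hdet
    calc a'.det = (h.det * h'.det) * a'.det := by rw [h8, one_mul]
      _ = h.det * a'.det * h'.det := by ring
      _ = 0 := h9
  generalize h * a' * h' = a at hc'' hdet'
  generalize h * b' * hᵀ = b at hc''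
  generalize h'ᵀ * d' * hᵀ = d at hc''
  by_cases hd1 : a.det = 1
  · exact ⟨a, b, d, s₁, s₂, s₃, hc'', hd1, hs1, hs23⟩
  · have hdm := det_ne_cases _ hdet' hd1
    have q1 := sq_cases s₁ hs1
    have hsy : (dg s₁ 0 0)ᵀ = dg s₁ 0 0 := by
      ext i j
      fin_cases i <;> fin_cases j <;> rfl
    have hc3 := hc''.trans (cj_uu (a := a) (b := b) (c := dg s₁ s₂ s₃ * a) (d := d) hsy)
    have h10 : a + dg s₁ 0 0 * (dg s₁ s₂ s₃ * a) = dg (-1) 1 1 * a := by
      rw [← Matrix.mul_assoc, ← Matrix.one_mul a, ← Matrix.mul_assoc, ← Matrix.mul_assoc, ← Matrix.add_mul, Matrix.mul_one]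
      rw [Matrix.mul_one]
      refine congrArg (· * a) ?_
      ext i j
      (revert i j; simp only [dg, q1, Matrix.mul_apply, Matrix.one_apply, _root_.Fin.forall_fin_succ, _root_.Matrix.cons_mul, _root_.Nat.succ_eq_add_one, Nat.reduceAdd, _root_.Matrix.vecMul_cons, _root_.Matrix.head_cons, _root_.Matrix.smul_cons, _root_.smul_eq_mul, _root_.MulZeroClass.mul_zero, _root_.Matrix.smul_empty, _root_.Matrix.tail_cons, _root_.zero_smul, _root_.Matrix.empty_vecMul, _root_.add_zero, _root_.Matrix.empty_mul, _root_.Equiv.symm_apply_apply, _root_.Matrix.add_apply, _root_.Matrix.of_apply, _root_.Matrix.cons_val', _root_.Pi.zero_apply, _root_.Matrix.cons_val_fin_one, Fin.isValue, _root_.Matrix.cons_val_zero, _root_.Matrix.cons_val_succ, _root_.Fin.succ_zero_eq_one, _root_.Fin.succ_one_eq_two, _root_.IsEmpty.forall_iff, ↓reduceIte, _root_.zero_ne_one, Fin.reduceEq, _root_.Fin.succ_ne_zero, _root_.zero_add, _root_.ite_eq_right_iff, _root_.one_ne_zero,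 _root_.imp_false, _root_.ite_eq_left_iff, _root_.Decidable.not_not, _root_.not_false_eq_true, _root_.and_true, _root_.true_and]) <;> (repeat' with_reducible apply And.intro)
      decide
    have h11 : dg s₁ s₂ s₃ * a = dg (-s₁) s₂ s₃ * (dg (-1) 1 1 * a) := by
      rw [← Matrix.mul_assoc]
      refine congrArg (· * a) ?_
      ext i j
      (revert i j; simp only [dg, Matrix.mul_apply, Fin.sum_univ_three, _root_.Fin.forall_fin_succ, _root_.Matrix.of_apply, _root_.Matrix.cons_val', _root_.Matrix.cons_val_fin_one, Fin.isValue, _root_.Matrix.cons_val_zero, _root_.Matrix.cons_val_one, _root_.Matrix.cons_val, _root_.mul_neg, _root_.mul_one, _root_.MulZeroClass.mul_zero, _root_.add_zero, _root_.Matrix.cons_val_succ, _root_.zero_add, _root_.implies_true, _root_.and_self, _root_.and_true, _root_.neg_neg, _root_.neg_zero])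
    rw [h10, h11] at hc3
    refine ⟨_, _, _, -s₁, s₂, s₃, hc3, ?_, neg_ne_zero.2 hs1, hs23⟩
    rw [det_mul, hdm]
    simp [dg, det_fin_three]

theorem dg_ne_zero {s₁ s₂ s₃ : ZMod 3} (h : s₁ ≠ 0) : dg s₁ s₂ s₃ ≠ 0 := by
  intro h0
  apply h
  have := congrFun (congrFun h0 0) 0
  simpa [dg] using this

/-- Step 3: all of it. -/
theorem step_all {l : M6} (hl : IsSp l) (h1 : l ≠ 1) (h2 : l ≠ -1) :
    ∃ a b c d : Mat, Cj l (fromBlocks a b c d) ∧ a.det = 1 ∧ b ≠ 0 ∧ c ≠ 0 := by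
  obtain ⟨a, b, d, s₁, s₂, s₃, hc, hd, hs1, hs23⟩ := step_two hl h1 h2
  have hu : IsUnit a.det := by rw [hd]; exact isUnit_one
  have hc0 : dg s₁ s₂ s₃ * a ≠ 0 := by
    intro h
    apply dg_ne_zero (s₂ := s₂) (s₃ := s₃) hs1
    calc dg s₁ s₂ s₃ = dg s₁ s₂ s₃ * a * a⁻¹ := by
          rw [Matrix.mul_assoc, Matrix.mul_nonsing_inv _ hu, Matrix.mul_one]
      _ = 0 := by rw [h, Matrix.zero_mul]
  by_cases hb : b = 0
  · subst hb
    have hsp := (isSp_iff.1 (hc.isSp hl)).2.1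
    rw [Matrix.mul_zero, sub_zero] at hsp
    have hsp' := mul_eq_one_comm.1 hsp
    by_contra hno
    refine step_three (a := a) hs1 hs23 fun P hP hdet => ?_
    by_contra hne
    apply hno
    refine ⟨_, _, _, _, hc.trans (cj_uu hP), ?_, ?_, hc0⟩
    · rw [← Matrix.mul_assoc]
      have : a + P * dg s₁ s₂ s₃ * a = (1 + P * dg s₁ s₂ s₃) * a := by rw [Matrix.add_mul, Matrix.one_mul]
      rw [this, det_mul, hdet, hd, one_mul]
    · intro h0
      apply hne
      rw [zero_add, sub_eq_zero] at h0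
      calc (1 + P * dg s₁ s₂ s₃) * a * P * aᵀ = (a + P * (dg s₁ s₂ s₃ * a)) * P * aᵀ := by
            rw [Matrix.add_mul, Matrix.one_mul, Matrix.mul_assoc P]
        _ = P * (d * aᵀ) := by rw [← h0, Matrix.mul_assoc]
        _ = P := by rw [hsp', Matrix.mul_one]
  · exact ⟨_, _, _, _, hc, hd, hb, hc0⟩

/-- a Levi element moved by `v(X)` -/
theorem vdv {c X : Mat} : vv X * dd c * vv (-X) = fromBlocks c 0 (X * c - (c⁻¹)ᵀ * X) (c⁻¹)ᵀ := by
  rw [vv, dd, vv, fromBlocks_multiply, fromBlocks_multiply]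
  simp only [Matrix.one_mul, Matrix.mul_one, Matrix.mul_zero, Matrix.zero_mul, add_zero, zero_add, Matrix.mul_neg,
    sub_eq_add_neg, neg_zero]

/-- a Levi element moved by `u(Y)` -/
theorem udu {c Y : Mat} : uu Y * dd c * uu (-Y) = fromBlocks c (Y * (c⁻¹)ᵀ - c * Y) 0 (c⁻¹)ᵀ := by
  rw [uu, dd, uu, fromBlocks_multiply, fromBlocks_multiply]
  simp only [Matrix.one_mul, Matrix.mul_one, Matrix.mul_zero, Matrix.zero_mul, add_zero, zero_add, Matrix.mul_neg,
    neg_zero]
  rw [neg_add_eq_sub]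

/-- triangular decomposition -/
theorem tri {a b c d : Mat} (hsp : IsSp (fromBlocks a b c d)) (hd : a.det = 1) :
    ∃ S T : Mat, Sᵀ = S ∧ Tᵀ = T ∧ b = a * T ∧ c = S * a ∧ d = (a⁻¹)ᵀ + S * a * T := by
  obtain ⟨hs1, hs2, hs3⟩ := isSp_iff.1 hsp
  have hu : IsUnit a.det := by rw [hd]; exact isUnit_one
  have haa := Matrix.mul_nonsing_inv a hu
  have haa' := Matrix.nonsing_inv_mul a hu
  have hta : (a⁻¹)ᵀ * aᵀ = 1 := by rw [← transpose_mul, haa, transpose_one]
  have hS : (c * a⁻¹)ᵀ = c * a⁻¹ := by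
    have h4 : c * a⁻¹ = (a⁻¹)ᵀ * (aᵀ * c) * a⁻¹ := by rw [← Matrix.mul_assoc, hta, Matrix.one_mul]
    have h5 : (c * a⁻¹)ᵀ = (a⁻¹)ᵀ * (cᵀ * a) * a⁻¹ := by
      rw [transpose_mul, Matrix.mul_assoc, Matrix.mul_assoc, haa, Matrix.mul_one]
    rw [h5, ← hs1, ← h4]
  have hdd : d = (a⁻¹)ᵀ + c * a⁻¹ * b := by
    have h4 : aᵀ * d = 1 + cᵀ * b := sub_eq_iff_eq_add.1 hs2
    calc d = (a⁻¹)ᵀ * (aᵀ * d) := by rw [← Matrix.mul_assoc, hta, Matrix.one_mul]
      _ = (a⁻¹)ᵀ + (c * a⁻¹)ᵀ * b := by rw [h4, Matrix.mul_add, Matrix.mul_one, transpose_mul, Matrix.mul_assoc]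
      _ = (a⁻¹)ᵀ + c * a⁻¹ * b := by rw [hS]
  have hT : (a⁻¹ * b)ᵀ = a⁻¹ * b := by
    have h4 : bᵀ * d = bᵀ * (a⁻¹)ᵀ + bᵀ * (c * a⁻¹) * b := by rw [hdd, Matrix.mul_add]; simp only [Matrix.mul_assoc]
    have h5 : dᵀ * b = a⁻¹ * b + bᵀ * (c * a⁻¹) * b := by
      rw [hdd, transpose_add, transpose_transpose, Matrix.add_mul, transpose_mul, hS]
    rw [h4, h5] at hs3
    rw [transpose_mul]
    exact add_right_cancel hs3
  refine ⟨c * a⁻¹, a⁻¹ * b, hS, hT, ?_, ?_, ?_⟩
  · rw [← Matrix.mul_assoc, haa, Matrix.one_mul]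
  · rw [Matrix.mul_assoc, haa', Matrix.mul_one]
  · rw [hdd, Matrix.mul_assoc _ a, ← Matrix.mul_assoc a, haa, Matrix.one_mul]

/-- assembling -/
theorem asm {a c₁ c₂ S T X Y : Mat} (h1 : c₁.det = 1) (h2 : c₂.det = 1) (hcc : c₁ * c₂ = a)
    (e1 : c₁ᵀ * S * c₁ = c₁ᵀ * X * c₁ - X) (e2 : c₂ * T * c₂ᵀ = Y - c₂ * Y * c₂ᵀ) :
    fromBlocks a (a * T) (S * a) ((a⁻¹)ᵀ + S * a * T) = (vv X * dd c₁ * vv (-X)) * (uu Y * dd c₂ * uu (-Y)) := by
  have hu1 : IsUnit c₁.det := by rw [h1]; exact isUnit_one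
  have hu2 : IsUnit c₂.det := by rw [h2]; exact isUnit_one
  have k1 : (c₁⁻¹)ᵀ * c₁ᵀ = 1 := by rw [← transpose_mul, Matrix.mul_nonsing_inv _ hu1, transpose_one]
  have k2 : c₂ᵀ * (c₂⁻¹)ᵀ = 1 := by rw [← transpose_mul, Matrix.nonsing_inv_mul _ hu2, transpose_one]
  have e1' : X * c₁ - (c₁⁻¹)ᵀ * X = S * c₁ := by
    calc X * c₁ - (c₁⁻¹)ᵀ * X = (c₁⁻¹)ᵀ * (c₁ᵀ * X * c₁ - X) := by
          rw [Matrix.mul_sub, ← Matrix.mul_assoc, ← Matrix.mul_assoc, k1, Matrix.one_mul]
      _ = S * c₁ := by rw [← e1, ← Matrix.mul_assoc, ← Matrix.mul_assoc, k1, Matrix.one_mul]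
  have e2' : Y * (c₂⁻¹)ᵀ - c₂ * Y = c₂ * T := by
    calc Y * (c₂⁻¹)ᵀ - c₂ * Y = (Y - c₂ * Y * c₂ᵀ) * (c₂⁻¹)ᵀ := by
          rw [Matrix.sub_mul, Matrix.mul_assoc _ c₂ᵀ, k2, Matrix.mul_one]
      _ = c₂ * T := by rw [← e2, Matrix.mul_assoc _ c₂ᵀ, k2, Matrix.mul_one]
  have hinv : (c₁⁻¹)ᵀ * (c₂⁻¹)ᵀ = (a⁻¹)ᵀ := by rw [← transpose_mul, ← Matrix.mul_inv_rev, hcc]
  have b1 : c₁ * (c₂ * T) = a * T := by rw [← Matrix.mul_assoc, hcc]
  have b2 : S * c₁ * c₂ = S * a := by rw [Matrix.mul_assoc, hcc]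
  have b3 : S * c₁ * (c₂ * T) = S * a * T := by rw [← Matrix.mul_assoc, b2]
  rw [vdv, udu, e1', e2', fromBlocks_multiply]
  simp only [Matrix.mul_zero, Matrix.zero_mul, add_zero, b1, b2, b3, hcc, hinv]
  rw [add_comm]

/-- **Elements of `Sp_6(3)`** other than `±1` are, up to conjugacy, products of an element of order 13 in a Levi subgroup
opposite to `u(T)`'s and one in a Levi subgroup opposite to `v(S)`'s. -/
theorem sp_frame {l : M6} (hl : IsSp l) (h1 : l ≠ 1) (h2 : l ≠ -1) :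
    ∃ g g' : M6, IsSp g ∧ g * g' = 1 ∧ ∃ c₁ c₂ X Y : Mat, Fpf c₁ ∧ Fpf c₂ ∧ Xᵀ = X ∧ Yᵀ = Y ∧ X ≠ 0 ∧ Y ≠ 0 ∧ X * Y ≠ 1 ∧
      g * l * g' = (vv X * dd c₁ * vv (-X)) * (uu Y * dd c₂ * uu (-Y)) := by
  obtain ⟨a, b, c, d, ⟨g, g', hg, hgg, he⟩, hd, hb, hc⟩ := step_all hl h1 h2
  obtain ⟨S, T, hS, hT, hbT, hcS, hdd⟩ := tri (Cj.isSp ⟨g, g', hg, hgg, he⟩ hl) hd
  have hS0 : S ≠ 0 := by
    intro h
    apply hc
    rw [hcS, h, Matrix.zero_mul]
  have hT0 : T ≠ 0 := by
    intro h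
    apply hb
    rw [hbT, h, Matrix.mul_zero]
  obtain ⟨c₁, c₂, X, Y, hcc, hf1, hf2, hX, hY, hX0, hY0, hXY, e1, e2⟩ := exists_pair hd hS hT hS0 hT0
  refine ⟨g, g', hg, hgg, c₁, c₂, X, Y, hf1, hf2, hX, hY, hX0, hY0, hXY, ?_⟩
  rw [he, hbT, hcS, hdd]
  exact asm hf1.1 hf2.1 hcc e1 e2

end Cfsg.Agent.H267.Pw

private theorem dce_5d3e99a366c4 : _root_.True := by
  try have : _root_.True := by simp only [_root_.Cfsg.Agent.H267.Pw.uu.eq_1]
  try have : _root_.True := by simp only [_root_.Cfsg.Agent.H267.Pw.ckD.eq_1]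
  try have : _root_.True := by simp only [_root_.Cfsg.Agent.H267.Pw.IsSp.eq_1]
  try have : _root_.True := by simp only [_root_.Cfsg.Agent.H267.Pw.J6.eq_1]
  try have : _root_.True := by simp only [_root_.Cfsg.Agent.H267.Pw.vv.eq_1]
  try have : _root_.True := by simp only [_root_.Cfsg.Agent.H267.Pw.dd.eq_1]
  try have : _root_.True := by simp only [_root_.Cfsg.Agent.H267.Pw.dg.eq_1]
  exact _root_.True.intro
end

-- part: H700/F43/Eng
section
set_option linter.all false
open scoped Cfsg.Agent.FastGrp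

/-!
# Words of root elements of `F₄(3)` on the 27-dimensional module (S2465, F₄(3), block E; helper700)

A `27 × 27` matrix over `F₃` is a list of 27 numbers (the rows): bit `i` of the row: the entry is `1`, bit `27 + i`: the
entry is `2`.  `chkE u v`: the words `u`, `v` in the root elements `x_r(± 1)` are equal.
-/

set_option autoImplicit false

namespace Cfsg.Agent.H700.F43

open Cfsg.Lie Cfsg.Agent.ChevalleyStructure.E6Min.Tables Cfsg.Agent.ChevalleyStructure.E6Min.Basic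
open Cfsg.Agent.H952.F4 Cfsg.Agent.H633.Ore
open Matrix

/-! ### digits -/

/-- the digit -/
def dg (a i : ℕ) : ZMod 3 := (bif a.testBit i then 1 else 0) + (bif a.testBit (27 + i) then 2 else 0)

/-- a good row -/
def Okr (a : ℕ) : Prop := a < 2 ^ 54 ∧ ∀ i < 27, (a.testBit i && a.testBit (27 + i)) = false

/-- the mask -/
def P27 : ℕ := 134217727

theorem testBit_P27 (i : ℕ) : P27.testBit i = decide (i < 27) := by
  have : P27 = 2 ^ 27 - 1 := by norm_num [P27]
  rw [this, Nat.testBit_two_pow_sub_one]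

/-- addition of rows -/
noncomputable def add3 (a b : ℕ) : ℕ :=
  force (Nat.land a P27) fun A0 => force (Nat.shiftRight a 27) fun A1 =>
    force (Nat.land b P27) fun B0 => force (Nat.shiftRight b 27) fun B1 =>
      force (Nat.xor P27 (Nat.lor A0 A1)) fun nA => force (Nat.xor P27 (Nat.lor B0 B1)) fun nB =>
        Nat.lor (Nat.lor (Nat.lor (Nat.land A0 nB) (Nat.land nA B0)) (Nat.land A1 B1))
          (Nat.shiftLeft (Nat.lor (Nat.lor (Nat.land A1 nB) (Nat.land nA B1)) (Nat.land A0 B0)) 27)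

/-- the negative of a row -/
noncomputable def neg3 (a : ℕ) : ℕ := Nat.lor (Nat.shiftRight a 27) (Nat.shiftLeft (Nat.land a P27) 27)

theorem testBit_hi {a : ℕ} (h : a < 2 ^ 54) {i : ℕ} (hi : 54 ≤ i) : a.testBit i = false :=
  Nat.testBit_lt_two_pow (lt_of_lt_of_le h (Nat.pow_le_pow_right (by norm_num) hi))

theorem testBit_add3_lo {a b : ℕ} {i : ℕ} (hi : i < 27) :
    (add3 a b).testBit i = ((a.testBit i && !(b.testBit i || b.testBit (27 + i))) ||
      (!(a.testBit i || a.testBit (27 + i)) && b.testBit i) || (a.testBit (27 + i) && b.testBit (27 + i))) := by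
  unfold add3
  simp only [force_eq]
  change (((((a &&& P27) &&& (P27 ^^^ ((b &&& P27) ||| (b >>> 27)))) ||| ((P27 ^^^ ((a &&& P27) ||| (a >>> 27))) &&& (b &&& P27))) |||
    ((a >>> 27) &&& (b >>> 27))) ||| (_ <<< 27)).testBit i = _
  rw [Nat.testBit_or, Nat.testBit_shiftLeft, decide_eq_false (by omega : ¬ i ≥ 27), Bool.false_and, Bool.or_false]
  simp only [Nat.testBit_or, Nat.testBit_and, Nat.testBit_xor, testBit_P27, Nat.testBit_shiftRight, hi, decide_true,
    Bool.and_true, Bool.true_xor]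

theorem testBit_add3_hi {a b : ℕ} (ha : Okr a) (hb : Okr b) (i : ℕ) :
    (add3 a b).testBit (27 + i) = ((a.testBit (27 + i) && !(b.testBit i || b.testBit (27 + i)) && decide (i < 27)) ||
      (!(a.testBit i || a.testBit (27 + i)) && b.testBit (27 + i) && decide (i < 27)) ||
        (a.testBit i && b.testBit i && decide (i < 27))) := by
  unfold add3
  simp only [force_eq]
  change (((((a &&& P27) &&& (P27 ^^^ ((b &&& P27) ||| (b >>> 27)))) ||| ((P27 ^^^ ((a &&& P27) ||| (a >>> 27))) &&& (b &&& P27))) |||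
    ((a >>> 27) &&& (b >>> 27))) ||| (((((a >>> 27) &&& (P27 ^^^ ((b &&& P27) ||| (b >>> 27)))) |||
      ((P27 ^^^ ((a &&& P27) ||| (a >>> 27))) &&& (b >>> 27))) ||| ((a &&& P27) &&& (b &&& P27))) <<< 27)).testBit (27 + i) = _
  rw [Nat.testBit_or, Nat.testBit_shiftLeft, decide_eq_true (by omega : 27 + i ≥ 27), Bool.true_and,
    show 27 + i - 27 = i by omega]
  have h27 : decide (27 + i < 27) = false := decide_eq_false (by omega)
  by_cases hi : i < 27
  · have h54 : a.testBit (27 + (27 + i)) = false := testBit_hi ha.1 (by omega)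
    simp only [Nat.testBit_or, Nat.testBit_and, Nat.testBit_xor, testBit_P27, Nat.testBit_shiftRight, hi, decide_true,
      Bool.and_true, Bool.true_xor, h27, Bool.and_false, Bool.false_or, h54, Bool.false_and]
  · have h54 : a.testBit (27 + (27 + i)) = false := testBit_hi ha.1 (by omega)
    have h1 : a.testBit (27 + i) = false := testBit_hi ha.1 (by omega)
    have h2 : b.testBit (27 + i) = false := testBit_hi hb.1 (by omega)
    simp only [Nat.testBit_or, Nat.testBit_and, Nat.testBit_xor, testBit_P27, Nat.testBit_shiftRight, hi, decide_false,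
      Bool.and_false, h27, Bool.false_or, h54, Bool.false_and, h1, h2, Bool.false_xor, Bool.or_false]

theorem ok_add3 {a b : ℕ} (ha : Okr a) (hb : Okr b) : Okr (add3 a b) := by
  refine ⟨?_, fun i hi => ?_⟩
  · apply Nat.lt_pow_two_of_testBit
    intro i hi
    obtain ⟨j, rfl⟩ : ∃ j, i = 27 + j := ⟨i - 27, by omega⟩
    rw [testBit_add3_hi ha hb, decide_eq_false (by omega : ¬ j < 27)]
    simp
  · rw [testBit_add3_lo hi, testBit_add3_hi ha hb, decide_eq_true hi]
    have h1 := ha.2 i hi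
    have h2 := hb.2 i hi
    revert h1 h2
    generalize a.testBit i = p
    generalize a.testBit (27 + i) = q
    generalize b.testBit i = r
    generalize b.testBit (27 + i) = s
    revert p q r s
    decide

theorem dg_add3 {a b : ℕ} (ha : Okr a) (hb : Okr b) {i : ℕ} (hi : i < 27) : dg (add3 a b) i = dg a i + dg b i := by
  unfold dg
  rw [testBit_add3_lo hi, testBit_add3_hi ha hb, decide_eq_true hi]
  have h1 := ha.2 i hi
  have h2 := hb.2 i hi
  revert h1 h2
  generalize a.testBit i = p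
  generalize a.testBit (27 + i) = q
  generalize b.testBit i = r
  generalize b.testBit (27 + i) = s
  revert p q r s
  decide

theorem testBit_neg3_lo {a : ℕ} {i : ℕ} (hi : i < 27) : (neg3 a).testBit i = a.testBit (27 + i) := by
  change ((a >>> 27) ||| ((a &&& P27) <<< 27)).testBit i = _
  rw [Nat.testBit_or, Nat.testBit_shiftLeft, decide_eq_false (by omega : ¬ i ≥ 27), Bool.false_and, Bool.or_false,
    Nat.testBit_shiftRight]

theorem testBit_neg3_hi {a : ℕ} (ha : Okr a) (i : ℕ) : (neg3 a).testBit (27 + i) = (a.testBit i && decide (i < 27)) := by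
  change ((a >>> 27) ||| ((a &&& P27) <<< 27)).testBit (27 + i) = _
  rw [Nat.testBit_or, Nat.testBit_shiftLeft, decide_eq_true (by omega : 27 + i ≥ 27), Bool.true_and,
    show 27 + i - 27 = i by omega, Nat.testBit_shiftRight, testBit_hi ha.1 (by omega : 54 ≤ 27 + (27 + i)), Bool.false_or,
    Nat.testBit_and, testBit_P27]

theorem ok_neg3 {a : ℕ} (ha : Okr a) : Okr (neg3 a) := by
  refine ⟨?_, fun i hi => ?_⟩
  · apply Nat.lt_pow_two_of_testBit
    intro i hi
    obtain ⟨j, rfl⟩ : ∃ j, i = 27 + j := ⟨i - 27, by omega⟩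
    rw [testBit_neg3_hi ha, decide_eq_false (by omega : ¬ j < 27), Bool.and_false]
  · rw [testBit_neg3_lo hi, testBit_neg3_hi ha, decide_eq_true hi, Bool.and_true]
    have := ha.2 i hi
    rwa [Bool.and_comm] at this

theorem dg_neg3 {a : ℕ} (ha : Okr a) {i : ℕ} (hi : i < 27) : dg (neg3 a) i = - dg a i := by
  unfold dg
  rw [testBit_neg3_lo hi, testBit_neg3_hi ha, decide_eq_true hi, Bool.and_true]
  generalize a.testBit i = p
  generalize a.testBit (27 + i) = q
  revert p q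
  decide

theorem ok_zero : Okr 0 := ⟨by norm_num, fun i _ => by simp⟩

/-! ### matrices -/

/-- entry of a list -/
noncomputable def nt (L : List ℕ) : ℕ → ℕ :=
  List.rec (fun _ => 0) (fun a _ ih n => Nat.rec a (fun k _ => ih k) n) L

theorem nt_eq : ∀ (L : List ℕ) (n : ℕ), nt L n = L.getD n 0
  | [], n => by simp [nt]
  | a :: L, 0 => rfl
  | a :: L, n + 1 => by
    rw [List.getD_cons_succ, ← nt_eq L n]
    rfl

/-- the matrix -/
def Rm (L : List ℕ) : Matrix I27 I27 (ZMod 3) := fun x y => dg (L.getD (code x) 0) (code y)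

/-- all rows are good -/
def OkL (L : List ℕ) : Prop := ∀ i, Okr (L.getD i 0)

/-- the new row -/
noncomputable def rwf (k : ℕ) (pos : Bool) (L : List ℕ) (x : ℕ) : ℕ :=
  force (ent k x) fun e => cond (Nat.blt e 32) (nt L x)
    (add3 (nt L x) (cond pos (cond (Nat.blt e 64) (nt L (Nat.land e 31)) (neg3 (nt L (Nat.land e 31))))
      (cond (Nat.blt e 64) (neg3 (nt L (Nat.land e 31))) (nt L (Nat.land e 31)))))

/-- the row numbers -/
def r27 : List ℕ := [0, 1, 2, 3, 4, 5, 6, 7, 8, 9, 10, 11, 12, 13, 14, 15, 16, 17, 18, 19, 20, 21, 22, 23, 24, 25, 26]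

/-- sign -/
def sgb (b : Bool) : ZMod 3 := bif b then 1 else -1

theorem ok_rwf {L : List ℕ} (hL : OkL L) (k : ℕ) (pos : Bool) (x : ℕ) : Okr (rwf k pos L x) := by
  unfold rwf
  rw [force_eq]
  simp only [nt_eq]
  cases Nat.blt (ent k x) 32
  · refine ok_add3 (hL _) ?_
    cases pos <;> cases Nat.blt (ent k x) 64
    · exact hL _
    · exact ok_neg3 (hL _)
    · exact ok_neg3 (hL _)
    · exact hL _
  · exact hL _

theorem getD_map_r27 (f : ℕ → ℕ) {i : ℕ} (hi : i < 27) : (r27.map f).getD i 0 = f i := by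
  have h : r27 = List.range 27 := by decide
  rw [h, List.getD_eq_getElem _ _ (by simpa using hi)]
  simp

theorem getD_map_r27' (f : ℕ → ℕ) {i : ℕ} (hi : ¬ i < 27) : (r27.map f).getD i 0 = 0 := by
  have h : r27 = List.range 27 := by decide
  rw [h, List.getD_eq_default _ _ (by simpa using hi)]

theorem okL_map {L : List ℕ} (hL : OkL L) (k : ℕ) (pos : Bool) : OkL (r27.map (rwf k pos L)) := by
  intro i
  by_cases hi : i < 27
  · rw [getD_map_r27 _ hi]
    exact ok_rwf hL k pos i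
  · rw [getD_map_r27' _ hi]
    exact ok_zero

/-- a step -/
theorem rm_step {L : List ℕ} (hL : OkL L) {k : ℕ} (hk : k < 72) (pos : Bool) :
    Rm (r27.map (rwf k pos L)) = zM k (sgb pos) * Rm L := by
  ext x y
  rw [zM_def, add_mul, one_mul, Matrix.add_apply, smul_mul_assoc, Matrix.smul_apply, Nm_mul_apply]
  change dg ((r27.map (rwf k pos L)).getD (code x) 0) (code y) = dg (L.getD (code x) 0) (code y) +
    sgb pos • (((sg k x : ℤ) : ZMod 3) * dg (L.getD (code (sr k x)) 0) (code y))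
  have hc : code (sr k x) = ent k (code x) &&& 31 := code_sr hk x
  rw [getD_map_r27 _ (code_lt x), hc]
  unfold rwf
  rw [force_eq]
  simp only [nt_eq]
  have hsg : sg k x = if ent k (code x) < 32 then 0 else if ent k (code x) < 64 then 1 else -1 := rfl
  rw [hsg]
  generalize ent k (code x) = e
  by_cases h1 : e < 32
  · have h1' : Nat.blt e 32 = true := by rwa [Nat.blt_eq]
    rw [h1', if_pos h1]
    simp
  have h1' : Nat.blt e 32 = false := by
    rw [Bool.eq_false_iff]; intro h; rw [Nat.blt_eq] at h; exact h1 h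
  rw [h1', if_neg h1]
  have hl : Nat.land e 31 = e &&& 31 := rfl
  rw [hl]
  by_cases h2 : e < 64
  · have h2' : Nat.blt e 64 = true := by rwa [Nat.blt_eq]
    rw [h2', if_pos h2]
    cases pos
    · simp only [cond_true, cond_false, sgb, Int.cast_one, one_mul, smul_eq_mul]
      rw [dg_add3 (hL _) (ok_neg3 (hL _)) (code_lt y), dg_neg3 (hL _) (code_lt y), neg_one_mul]
    · simp only [cond_true, cond_false, sgb, Int.cast_one, one_mul, smul_eq_mul]
      rw [dg_add3 (hL _) (hL _) (code_lt y)]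
  · have h2' : Nat.blt e 64 = false := by
      rw [Bool.eq_false_iff]; intro h; rw [Nat.blt_eq] at h; exact h2 h
    rw [h2', if_neg h2]
    cases pos
    · simp only [cond_false, sgb, Int.cast_neg, Int.cast_one, smul_eq_mul]
      rw [dg_add3 (hL _) (hL _) (code_lt y)]
      ring
    · simp only [cond_true, cond_false, sgb, Int.cast_neg, Int.cast_one, smul_eq_mul]
      rw [dg_add3 (hL _) (ok_neg3 (hL _)) (code_lt y), dg_neg3 (hL _) (code_lt y)]
      ring

/-! ### words -/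

/-- evaluation -/
noncomputable def evl : List (ℕ × Bool) → List ℕ → List ℕ
  | [], L => L
  | e :: w, L => r27.map (rwf e.1 e.2 (evl w L))

/-- eager evaluation -/
noncomputable def evk {β : Sort _} : List (ℕ × Bool) → List ℕ → (List ℕ → β) → β :=
  List.rec (fun L K => K L) (fun e _ ih L K => ih L fun L' => mapF (rwf e.1 e.2 L') r27 K)

theorem evk_eq {β : Sort _} : ∀ (w : List (ℕ × Bool)) (L : List ℕ) (K : List ℕ → β), evk w L K = K (evl w L)
  | [], L, K => rfl
  | e :: w, L, K => by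
    have h : evk (e :: w) L K = evk w L fun L' => mapF (rwf e.1 e.2 L') r27 K := rfl
    rw [h, evk_eq w, mapF_eq]
    rfl

/-- all letters are root indices -/
def okW (w : List (ℕ × Bool)) : Bool := w.all fun e => e.1 < 72

theorem okL_evl {w : List (ℕ × Bool)} {L : List ℕ} (hL : OkL L) : OkL (evl w L) := by
  induction w with
  | nil => exact hL
  | cons e w ih => exact okL_map ih _ _

theorem rm_evl {w : List (ℕ × Bool)} (hw : okW w = true) {L : List ℕ} (hL : OkL L) :
    Rm (evl w L) = (w.map fun e => (zM e.1 (sgb e.2) : Matrix I27 I27 (ZMod 3))).prod * Rm L := by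
  induction w with
  | nil => rw [List.map_nil, List.prod_nil, one_mul]; rfl
  | cons e w ih =>
    rw [okW, List.all_cons, Bool.and_eq_true, decide_eq_true_eq] at hw
    change Rm (r27.map (rwf e.1 e.2 (evl w L))) = _
    rw [rm_step (okL_evl hL) hw.1, ih hw.2, List.map_cons, List.prod_cons, Matrix.mul_assoc]

/-- the unit matrix -/
def idR : List ℕ := [1, 2, 4, 8, 16, 32, 64, 128, 256, 512, 1024, 2048, 4096, 8192, 16384, 32768, 65536, 131072, 262144,
  524288, 1048576, 2097152, 4194304, 8388608, 16777216, 33554432, 67108864]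

theorem okL_idR : OkL idR := by
  intro i
  by_cases hi : i < 27
  · have : ∀ i < 27, idR.getD i 0 < 2 ^ 54 ∧ ∀ j < 27, ((idR.getD i 0).testBit j && (idR.getD i 0).testBit (27 + j)) = false := by
      decide +kernel
    exact this i hi
  · rw [List.getD_eq_default _ _ (by simpa [idR] using hi)]
    exact ok_zero

theorem rm_idR : Rm idR = 1 := by
  have h : ∀ i < 27, ∀ j < 27, dg (idR.getD i 0) j = if i = j then 1 else 0 := by decide +kernel
  ext x y
  rw [Matrix.one_apply]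
  change dg (idR.getD (code x) 0) (code y) = _
  rw [h _ (code_lt x) _ (code_lt y)]
  simp only [code_eq_iff]

/-! ### root elements of `F₄` -/

/-- letters of the root elements -/
def dt : List (List (ℕ × Bool)) := dat.map fun l => l.map fun e => (e.1, decide (e.2 = 1))

/-- the letters of a root element `x_r(± 1)` -/
def lt1 (p : ℕ × Bool) : List (ℕ × Bool) := (dt.getD p.1 []).map fun e => (e.1, e.2 == p.2)

theorem dt_ok : ∀ r < 48, ((dat.getD r []).all fun e => decide (e.2 = 1 ∨ e.2 = -1)) = true ∧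
    okW (dt.getD r []) = true := by decide +kernel

theorem sgb_beq (a b : Bool) : sgb (a == b) = sgb a * sgb b := by cases a <;> cases b <;> decide

theorem dt_getD (r : ℕ) : dt.getD r [] = (dat.getD r []).map fun e => (e.1, decide (e.2 = 1)) := by
  unfold dt
  exact List.getD_map (f := fun l : List (ℕ × ℤ) => l.map fun e => (e.1, decide (e.2 = 1))) (l := dat) (d := []) (n := r)

theorem prod_lt1 {p : ℕ × Bool} (hp : p.1 < 48) :
    ((lt1 p).map fun e => (zM e.1 (sgb e.2) : Matrix I27 I27 (ZMod 3))).prod = yM p.1 (sgb p.2) := by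
  unfold lt1 yM
  rw [dt_getD]
  have h := (dt_ok p.1 hp).1
  generalize dat.getD p.1 [] = l at h
  rw [List.all_eq_true] at h
  simp only [List.map_map]
  congr 1
  apply List.map_congr_left
  intro e he
  have := h e he
  rw [decide_eq_true_eq] at this
  simp only [Function.comp]
  rw [sgb_beq]
  rcases this with h | h <;> rw [h] <;> rfl

/-- the letters of a word in the root elements -/
def exw (w : List (ℕ × Bool)) : List (ℕ × Bool) := w.flatMap lt1

/-- all letters are roots of `F₄` -/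
def okF (w : List (ℕ × Bool)) : Bool := w.all fun e => e.1 < 48

theorem okW_exw {w : List (ℕ × Bool)} (h : okF w = true) : okW (exw w) = true := by
  rw [okF, List.all_eq_true] at h
  rw [okW, List.all_eq_true]
  intro e he
  rw [exw, List.mem_flatMap] at he
  obtain ⟨p, hp, he⟩ := he
  have h1 := (dt_ok p.1 (by simpa using h p hp)).2
  rw [okW, List.all_eq_true] at h1
  rw [lt1, List.mem_map] at he
  obtain ⟨e', he', rfl⟩ := he
  exact h1 e' he'

/-- the matrix of a word -/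
theorem rm_word {w : List (ℕ × Bool)} (h : okF w = true) :
    Rm (evl (exw w) idR) = (w.map fun p => (yM p.1 (sgb p.2) : Matrix I27 I27 (ZMod 3))).prod := by
  rw [rm_evl (okW_exw h) okL_idR, rm_idR, Matrix.mul_one]
  induction w with
  | nil => rfl
  | cons p w ih =>
    rw [okF, List.all_cons, Bool.and_eq_true, decide_eq_true_eq] at h
    have e : exw (p :: w) = lt1 p ++ exw w := rfl
    rw [e, List.map_append, List.prod_append, prod_lt1 h.1, ih h.2, List.map_cons, List.prod_cons]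

/-! ### the group -/

/-- `F₄(3)` -/
abbrev Gm := ↥(chevF4.group (ZMod 3))

/-- the representation -/
noncomputable def rho : Gm →* GL I27 (ZMod 3) :=
  (Cfsg.Agent.H333.F4J.Ad.FZ (ZMod 3)).subtype.comp (Cfsg.Agent.H333.F4J.Ad.eqv (ZMod 3)).symm.toMonoidHom

theorem rho_injective : Function.Injective rho :=
  (Subtype.val_injective).comp (Cfsg.Agent.H333.F4J.Ad.eqv (ZMod 3)).symm.injective

open Cfsg.Agent.H333.F4J.Ad in
theorem isJ_rho : IsJ rho := by
  intro r t g hg
  have h1 : (g : GL chevF4.Idx (ZMod 3)) = Cfsg.Agent.ChevalleyStructure.Elts.xG hF4 r.val t := by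
    apply Units.ext
    rw [hg, coe_xG_lt r.isLt]
  have h2 := eqv_symm_xG r.isLt t g h1
  change (((eqv (ZMod 3)).symm g : FZ (ZMod 3)) : GL I27 (ZMod 3)).val = _
  rw [h2]
  exact coe_yU r.isLt t

open Cfsg.Agent.KFacts.RgdChevCoord Cfsg.Agent.Nodes.RGDChev

/-- the type -/
abbrev hF := Cfsg.Agent.H537.Pw.isType_F4

/-- root elements `x_r(± 1)` -/
noncomputable def xr (p : ℕ × Bool) : Gm :=
  xc hF (Cfsg.Agent.Nodes.RGDChev.vec chevF4 4 p.1) (sgb p.2)

theorem rho_xc {r : ℕ} (hr : r < 48) (t : ZMod 3) :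
    ((rho (xc hF (Cfsg.Agent.Nodes.RGDChev.vec chevF4 4 r) t) : GL I27 (ZMod 3)) : Matrix I27 I27 (ZMod 3)) = yM r t := by
  refine isJ_rho ⟨r, hr⟩ t _ ?_
  have h1 := coe_xc (K := ZMod 3) hF (r := r) hr t
  rw [h1]
  exact Cfsg.Agent.H333.F4J.Ad.coe_xG_lt hr t

theorem rho_xr {p : ℕ × Bool} (hp : p.1 < 48) :
    ((rho (xr p) : GL I27 (ZMod 3)) : Matrix I27 I27 (ZMod 3)) = yM p.1 (sgb p.2) := rho_xc hp _

/-- words -/
noncomputable def wd (w : List (ℕ × Bool)) : Gm := (w.map xr).prod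

theorem wd_append (u v : List (ℕ × Bool)) : wd (u ++ v) = wd u * wd v := by
  rw [wd, List.map_append, List.prod_append]; rfl

theorem wd_cons (p : ℕ × Bool) (v : List (ℕ × Bool)) : wd (p :: v) = xr p * wd v := rfl

theorem wd_nil : wd [] = 1 := rfl

theorem wd_single (p : ℕ × Bool) : wd [p] = xr p := by rw [wd_cons, wd_nil, mul_one]

/-- the matrix of a word -/
theorem rho_wd {w : List (ℕ × Bool)} (h : okF w = true) :
    ((rho (wd w) : GL I27 (ZMod 3)) : Matrix I27 I27 (ZMod 3)) = Rm (evl (exw w) idR) := by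
  rw [rm_word h]
  induction w with
  | nil => rw [wd_nil, map_one]; rfl
  | cons p w ih =>
    rw [okF, List.all_cons, Bool.and_eq_true, decide_eq_true_eq] at h
    rw [wd_cons, map_mul, Units.val_mul, rho_xr h.1, ih h.2, List.map_cons, List.prod_cons]

/-- equality of lists -/
noncomputable def eqN : List ℕ → List ℕ → Bool :=
  List.rec (fun l => List.rec true (fun _ _ _ => false) l)
    (fun a _ ih l => List.rec false (fun b l' _ => cond (Nat.beq a b) (ih l') false) l)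

theorem eqN_sound : ∀ (u v : List ℕ), eqN u v = true → u = v
  | [], [], _ => rfl
  | [], _ :: _, h => absurd h Bool.false_ne_true
  | _ :: _, [], h => absurd h Bool.false_ne_true
  | a :: u, b :: v, h => by
    have e : eqN (a :: u) (b :: v) = cond (Nat.beq a b) (eqN u v) false := rfl
    rw [e] at h
    cases hb : Nat.beq a b
    · rw [hb] at h
      exact absurd h Bool.false_ne_true
    · rw [hb, cond_true] at h
      rw [Nat.eq_of_beq_eq_true hb, eqN_sound u v h]

/-- the test of equality of words -/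
noncomputable def chkE (u v : List (ℕ × Bool)) : Bool :=
  okF u && okF v && evk (exw u) idR fun A => evk (exw v) idR fun B => eqN A B

/-- **equality of words** -/
theorem word_eq {u v : List (ℕ × Bool)} (h : chkE u v = true) : wd u = wd v := by
  rw [chkE, Bool.and_eq_true, Bool.and_eq_true, evk_eq, evk_eq] at h
  have h1 := eqN_sound _ _ h.2
  apply rho_injective
  apply Units.ext
  rw [rho_wd h.1.1, rho_wd h.1.2, h1]

/-- an entry of the matrix of a word -/
theorem entry {w : List (ℕ × Bool)} (h : okF w = true) (x y : I27) :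
    ((rho (wd w) : GL I27 (ZMod 3)) : Matrix I27 I27 (ZMod 3)) x y = dg ((evl (exw w) idR).getD (code x) 0) (code y) := by
  rw [rho_wd h]
  rfl

end Cfsg.Agent.H700.F43

private theorem dce_63cd803cf352 : _root_.True := by
  try have : _root_.True := by simp only [_root_.Cfsg.Agent.H700.F43.wd.eq_1]
  try have : _root_.True := by simp only [_root_.Cfsg.Agent.H700.F43.nt.eq_1]
  try have : _root_.True := by simp only [_root_.Cfsg.Agent.H700.F43.okW.eq_1]
  try have : _root_.True := by simp only [_root_.Cfsg.Agent.H700.F43.okF.eq_1]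
  try have : _root_.True := by simp only [_root_.Cfsg.Agent.H700.F43.exw.eq_1]
  try have : _root_.True := by simp only [_root_.Cfsg.Agent.H700.F43.sgb.eq_1]
  try have : _root_.True := by simp only [_root_.Cfsg.Agent.H700.F43.lt1.eq_1]
  try have : _root_.True := by simp only [_root_.Cfsg.Agent.H700.F43.idR.eq_1]
  try have : _root_.True := by simp only [_root_.Cfsg.Agent.H700.F43.chkE.eq_1]
  try have : _root_.True := by simp only [_root_.Cfsg.Agent.H700.F43.P27.eq_1]
  exact _root_.True.intro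
end

-- part: H938/F43/Lev
section
prune_inst 0x52070040040020800000502102000040c0005b200600001d90009440046f362008029c04ca01912022aaa010001000000000050001000000000040000010000808a560633400104a6001f803087100000000000000000000000000000041004000000000
set_option linter.all false
open scoped Cfsg.Agent.FastGrp

-- part: H938/F43/Abs
section
/-!
# Fixed points of an element on a group with an abelian section (helper938)

* `step` : `N ≤ V` normalised by `y`, `V / N` abelian and generated by the elements `[v, y]` and by `f` elements of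
  order `3`: `|C_V(y)| ≤ 3 ^ f |C_N(y)|`.
-/

set_option autoImplicit false
set_option linter.unusedSectionVars false

namespace Cfsg.Agent.H938.F43.Abs

theorem card_eq_ker_range {A B : Type*} [Group A] [Group B] (f : A →* B) :
    Nat.card A = Nat.card ↥f.ker * Nat.card ↥f.range := by
  rw [Subgroup.card_eq_card_quotient_mul_card_subgroup f.ker, mul_comm]
  congr 1
  exact Nat.card_congr (QuotientGroup.quotientKerEquivRange f).toEquiv

theorem card_map_mul {A B : Type*} [Group A] [Group B] (f : A →* B) (H : Subgroup A) :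
    Nat.card ↥H = Nat.card ↥(H ⊓ f.ker) * Nat.card ↥(H.map f) := by
  have h1 := card_eq_ker_range (f.comp H.subtype)
  have h2 : (f.comp H.subtype).range = H.map f := by
    rw [MonoidHom.range_comp, Subgroup.range_subtype]
  have h3 : Nat.card ↥(f.comp H.subtype).ker = Nat.card ↥(H ⊓ f.ker) := by
    have e : (f.comp H.subtype).ker = (H ⊓ f.ker).subgroupOf H := by
      ext x
      rw [MonoidHom.mem_ker, Subgroup.mem_subgroupOf, Subgroup.mem_inf, MonoidHom.mem_ker]
      exact ⟨fun h => ⟨x.2, h⟩, fun h => h.2⟩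
    rw [e]
    exact Nat.card_congr (Subgroup.subgroupOfEquivOfLe inf_le_left).toEquiv
  rw [h1, h2, h3]

theorem card_sup_le {A : Type*} [CommGroup A] [Finite A] (H K : Subgroup A) :
    Nat.card ↥(H ⊔ K) ≤ Nat.card ↥H * Nat.card ↥K := by
  rw [← Nat.card_prod]
  refine Nat.card_le_card_of_surjective (fun x : ↥H × ↥K => (⟨(x.1 : A) * (x.2 : A),
    mul_mem (Subgroup.mem_sup_left x.1.2) (Subgroup.mem_sup_right x.2.2)⟩ : ↥(H ⊔ K))) ?_
  rintro ⟨z, hz⟩
  obtain ⟨a, ha, b, hb, e⟩ := Subgroup.mem_sup.1 hz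
  exact ⟨(⟨a, ha⟩, ⟨b, hb⟩), Subtype.ext e⟩

theorem card_gen {A : Type*} [CommGroup A] [Finite A] (B : Subgroup A) : ∀ S : List A, (∀ s ∈ S, s ^ 3 = 1) →
    Nat.card ↥(B ⊔ Subgroup.closure {s | s ∈ S}) ≤ 3 ^ S.length * Nat.card ↥B
  | [], _ => by simp
  | a :: S, h => by
    have ih := card_gen B S fun s hs => h s (List.mem_cons_of_mem _ hs)
    have e : B ⊔ Subgroup.closure {s | s ∈ a :: S} = Subgroup.zpowers a ⊔ (B ⊔ Subgroup.closure {s | s ∈ S}) := by
      have e1 : {s | s ∈ a :: S} = {a} ∪ {s | s ∈ S} := by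
        ext s
        simp
      rw [e1, Subgroup.closure_union, ← Subgroup.zpowers_eq_closure]
      rw [← sup_assoc, ← sup_assoc, sup_comm B]
    rw [e]
    refine le_trans (card_sup_le _ _) ?_
    have h1 : Nat.card ↥(Subgroup.zpowers a) ≤ 3 := by
      rw [Nat.card_zpowers]
      exact Nat.le_of_dvd (by norm_num) (orderOf_dvd_of_pow_eq_one (h a (List.mem_cons_self)))
    calc _ ≤ 3 * (3 ^ S.length * Nat.card ↥B) := Nat.mul_le_mul h1 ih
      _ = _ := by rw [List.length_cons, pow_succ]; ring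

/-- **the step** -/
theorem step {G : Type*} [Group G] [Finite G] {V N : Subgroup G} (hNV : N ≤ V) (y : G)
    (hc : ∀ a ∈ V, ∀ b ∈ V, a * b * a⁻¹ * b⁻¹ ∈ N) (hyV : ∀ v ∈ V, y * v * y⁻¹ ∈ V)
    (hyN : ∀ v ∈ N, y * v * y⁻¹ ∈ N) (S : List G) (hS : ∀ s ∈ S, s ∈ V) (hS3 : ∀ s ∈ S, s ^ 3 = 1)
    (hV : V ≤ Subgroup.closure (({x | ∃ v ∈ V, x = v * y * v⁻¹ * y⁻¹} ∪ (N : Set G)) ∪ {s | s ∈ S})) :
    Nat.card ↥(V ⊓ Subgroup.centralizer {y}) ≤ 3 ^ S.length * Nat.card ↥(N ⊓ Subgroup.centralizer {y}) := by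
  have hnorm : (N.subgroupOf V).Normal := by
    constructor
    rintro ⟨n, hn⟩ h1 ⟨g, hg⟩
    rw [Subgroup.mem_subgroupOf] at h1 ⊢
    change n ∈ N at h1
    change g * n * g⁻¹ ∈ N
    have e : g * n * g⁻¹ = g * n * g⁻¹ * n⁻¹ * n := by group
    rw [e]
    exact mul_mem (hc g hg n hn) h1
  let q : ↥V →* ↥V ⧸ N.subgroupOf V := QuotientGroup.mk' _
  have hqk : q.ker = N.subgroupOf V := QuotientGroup.ker_mk' _
  have hqs : Function.Surjective q := QuotientGroup.mk'_surjective _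
  have hq : ∀ a : ↥V, q a = 1 ↔ (a : G) ∈ N := fun a => by
    rw [← MonoidHom.mem_ker, hqk, Subgroup.mem_subgroupOf]
  have hcm : ∀ a b : ↥V, q a * q b = q b * q a := by
    intro a b
    have h1 : q (a * b * a⁻¹ * b⁻¹) = 1 := (hq _).2 (hc a a.2 b b.2)
    rw [map_mul, map_mul, map_mul, map_inv, map_inv, mul_inv_eq_one, mul_inv_eq_iff_eq_mul] at h1
    exact h1
  let _ : CommGroup (↥V ⧸ N.subgroupOf V) :=
    { (inferInstance : Group (↥V ⧸ N.subgroupOf V)) with
      mul_comm := by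
        intro a b
        obtain ⟨a, rfl⟩ := hqs a
        obtain ⟨b, rfl⟩ := hqs b
        exact hcm a b }
  -- the map
  have hyi : ∀ v ∈ V, v * y * v⁻¹ * y⁻¹ ∈ V := by
    intro v hv
    have e : v * y * v⁻¹ * y⁻¹ = v * (y * v⁻¹ * y⁻¹) := by group
    rw [e]
    exact mul_mem hv (hyV _ (inv_mem hv))
  let κ : ↥V →* ↥V ⧸ N.subgroupOf V := MonoidHom.mk' (fun v => q ⟨v * y * (v : G)⁻¹ * y⁻¹, hyi v v.2⟩) (by
    intro a b
    have e : (⟨((a * b : ↥V) : G) * y * ((a * b : ↥V) : G)⁻¹ * y⁻¹, hyi _ (a * b).2⟩ : ↥V) =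
        a * ⟨b * y * (b : G)⁻¹ * y⁻¹, hyi b b.2⟩ * a⁻¹ * ⟨a * y * (a : G)⁻¹ * y⁻¹, hyi a a.2⟩ := by
      apply Subtype.ext
      simp only [Subgroup.coe_mul, Subgroup.coe_inv]
      group
    show q _ = q _ * q _
    rw [e, map_mul, map_mul, map_mul, map_inv, hcm a, mul_inv_cancel_right, hcm])
  have hκ : ∀ v : ↥V, κ v = q ⟨v * y * (v : G)⁻¹ * y⁻¹, hyi v v.2⟩ := fun v => rfl
  have hkN : N.subgroupOf V ≤ κ.ker := by
    intro v hv
    rw [Subgroup.mem_subgroupOf] at hv
    rw [MonoidHom.mem_ker, hκ, hq]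
    have e : (v : G) * y * (v : G)⁻¹ * y⁻¹ = v * (y * (v : G)⁻¹ * y⁻¹) := by group
    show (v : G) * y * (v : G)⁻¹ * y⁻¹ ∈ N
    rw [e]
    exact mul_mem hv (hyN _ (inv_mem hv))
  have hkC : (Subgroup.centralizer {y}).subgroupOf V ≤ κ.ker := by
    intro v hv
    rw [Subgroup.mem_subgroupOf, Subgroup.mem_centralizer_singleton_iff] at hv
    rw [MonoidHom.mem_ker, hκ, hq]
    show (v : G) * y * (v : G)⁻¹ * y⁻¹ ∈ N
    rw [hv]
    have e : y * (v : G) * (v : G)⁻¹ * y⁻¹ = 1 := by group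
    rw [e]
    exact one_mem _
  -- the cokernel
  have hgen : κ.range ⊔ Subgroup.closure {s | s ∈ S.attach.map fun s => q ⟨s.1, hS s.1 s.2⟩} = ⊤ := by
    rw [eq_top_iff]
    intro x _
    obtain ⟨⟨v, hv⟩, rfl⟩ := hqs x
    set H := κ.range ⊔ Subgroup.closure {s | s ∈ S.attach.map fun s => q ⟨s.1, hS s.1 s.2⟩} with hH
    have h1 := hV hv
    have key : ∀ w ∈ Subgroup.closure (({x | ∃ v ∈ V, x = v * y * v⁻¹ * y⁻¹} ∪ (N : Set G)) ∪ {s | s ∈ S}),
        ∃ hw : w ∈ V, q ⟨w, hw⟩ ∈ H := by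
      intro w hw
      induction hw using Subgroup.closure_induction with
      | mem w hw =>
        rcases hw with (⟨v, hv, rfl⟩ | hw) | hw
        · exact ⟨hyi v hv, Subgroup.mem_sup_left ⟨⟨v, hv⟩, rfl⟩⟩
        · refine ⟨hNV hw, ?_⟩
          rw [(hq ⟨w, hNV hw⟩).2 hw]
          exact one_mem _
        · refine ⟨hS w hw, Subgroup.mem_sup_right (Subgroup.subset_closure ?_)⟩
          exact List.mem_map.2 ⟨⟨w, hw⟩, List.mem_attach _ _, rfl⟩
      | one => exact ⟨one_mem _, by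
          have : q ⟨1, one_mem V⟩ = 1 := map_one q
          rw [this]; exact one_mem _⟩
      | mul a b _ _ iha ihb =>
        obtain ⟨ha, ha'⟩ := iha
        obtain ⟨hb, hb'⟩ := ihb
        refine ⟨mul_mem ha hb, ?_⟩
        have : q ⟨a * b, mul_mem ha hb⟩ = q ⟨a, ha⟩ * q ⟨b, hb⟩ := map_mul q ⟨a, ha⟩ ⟨b, hb⟩
        rw [this]
        exact mul_mem ha' hb'
      | inv a _ iha =>
        obtain ⟨ha, ha'⟩ := iha
        refine ⟨inv_mem ha, ?_⟩
        have : q ⟨a⁻¹, inv_mem ha⟩ = (q ⟨a, ha⟩)⁻¹ := map_inv q ⟨a, ha⟩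
        rw [this]
        exact inv_mem ha'
    exact (key v h1).2
  have h1 := card_gen κ.range (S.attach.map fun s => q ⟨s.1, hS s.1 s.2⟩) (by
    intro s hs
    obtain ⟨⟨s', hs'⟩, -, rfl⟩ := List.mem_map.1 hs
    rw [← map_pow]
    have : (⟨s', hS s' hs'⟩ : ↥V) ^ 3 = 1 := Subtype.ext (hS3 s' hs')
    rw [this, map_one])
  rw [hgen, List.length_map, List.length_attach, Subgroup.card_top] at h1
  -- the count
  have h2 := card_eq_ker_range κ
  have h3 := card_map_mul q ⊤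
  rw [top_inf_eq, hqk, Subgroup.card_top, ← MonoidHom.range_eq_map, MonoidHom.range_eq_top.2 hqs, Subgroup.card_top] at h3
  have h4 := card_map_mul q κ.ker
  rw [hqk, inf_eq_right.2 hkN] at h4
  have h5 := card_map_mul q ((Subgroup.centralizer {y}).subgroupOf V)
  have h6 : Nat.card ↥(((Subgroup.centralizer {y}).subgroupOf V).map q) ≤ Nat.card ↥(κ.ker.map q) :=
    Subgroup.card_le_of_le (Subgroup.map_mono hkC)
  have h7 : Nat.card ↥((Subgroup.centralizer {y}).subgroupOf V) = Nat.card ↥(V ⊓ Subgroup.centralizer {y}) := by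
    have e : (Subgroup.centralizer {y}).subgroupOf V = (V ⊓ Subgroup.centralizer {y}).subgroupOf V := by
      rw [Subgroup.inf_subgroupOf_left]
    rw [e]
    exact Nat.card_congr (Subgroup.subgroupOfEquivOfLe inf_le_left).toEquiv
  have h8 : Nat.card ↥((Subgroup.centralizer {y}).subgroupOf V ⊓ q.ker) = Nat.card ↥(N ⊓ Subgroup.centralizer {y}) := by
    have e : (Subgroup.centralizer {y}).subgroupOf V ⊓ q.ker = (N ⊓ Subgroup.centralizer {y}).subgroupOf V := by
      rw [hqk]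
      ext x
      rw [Subgroup.mem_inf, Subgroup.mem_subgroupOf, Subgroup.mem_subgroupOf, Subgroup.mem_subgroupOf, Subgroup.mem_inf,
        and_comm]
    rw [e]
    exact Nat.card_congr (Subgroup.subgroupOfEquivOfLe (le_trans inf_le_left hNV)).toEquiv
  rw [h7, h8] at h5
  rw [h5, mul_comm]
  refine Nat.mul_le_mul_right _ (le_trans h6 ?_)
  -- |κ.ker.map q| ≤ 3 ^ f
  have hN0 : 0 < Nat.card ↥(N.subgroupOf V) := Nat.card_pos
  have hR0 : 0 < Nat.card ↥κ.range := Nat.card_pos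
  have h9 : Nat.card ↥(N.subgroupOf V) * Nat.card ↥(κ.ker.map q) * Nat.card ↥κ.range ≤
      Nat.card ↥(N.subgroupOf V) * 3 ^ S.length * Nat.card ↥κ.range := by
    rw [← h4, ← h2, h3, mul_assoc]
    exact Nat.mul_le_mul_left _ h1
  have h10 := Nat.le_of_mul_le_mul_right h9 hR0
  exact Nat.le_of_mul_le_mul_left h10 hN0

end Cfsg.Agent.H938.F43.Abs
end

-- part: H938/F43/Lev
section
/-!
# Levels of the unipotent group of `F₄(3)` and fixed points of a word (helper938)

`Vk f k`: generated by the root groups `X_x` with `k ≤ f · x` (`f ≥ 0`).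

* `comm_Vk` : `[V_k, V_k] ≤ V_{k+1}` for `k ≥ 1`;
* `fix_step` : the certificate for `|C_{V_k}(y)| ≤ 3 ^ |S| |C_{V_{k+1}}(y)|`.
-/

set_option autoImplicit false
set_option linter.unusedSectionVars false

namespace Cfsg.Agent.H938.F43

open CoxeterSystem Cfsg.Agent.ChevalleyStructure.CoxeterGeom Cfsg.Agent.Tits.Roots Cfsg.Agent.Tits.Core
  Cfsg.Agent.Tits.Exchange Cfsg.Agent.Nodes.Reps Cfsg.Agent.Nodes.BNOf Cfsg.Agent.Nodes.StabComb
  Cfsg.Agent.Nodes.Bruhat Cfsg.Agent.Nodes.OppDec Cfsg.Agent.Nodes.LeviDec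
  Cfsg.Agent.Nodes.RGDChev Cfsg.Agent.KFacts.RgdFilt Cfsg.Agent.KFacts.RgdBorelTits Cfsg.Agent.KFacts.RgdChevCoord
  Cfsg.Agent.H700.F43
open Cfsg.Lie Cfsg.Agent.ChevalleyStructure Cfsg.Agent.ChevalleyStructure.Elts
  Cfsg.Agent.ChevalleyStructure.RootVec Cfsg.Agent.ChevalleyStructure.NPerm
  Cfsg.Agent.ChevalleyStructure.CoxeterGeomTypes
open Cfsg.Agent.H701.F43.Cent (cF nroots finW)

open scoped commutatorElement

abbrev F3 := ZMod 3

instance : Fact (Nat.Prime 3) := ⟨Nat.prime_three⟩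

/-- the root groups -/
abbrev X3 : (Fin 4 → ℤ) → Subgroup Gm := XX chevF4 4 F3

/-- the level -/
def dot (f x : Fin 4 → ℤ) : ℤ := f 0 * x 0 + f 1 * x 1 + f 2 * x 2 + f 3 * x 3

theorem dot_add (f x y : Fin 4 → ℤ) : dot f (x + y) = dot f x + dot f y := by
  simp only [dot, Pi.add_apply]; ring

theorem dot_smul (f x : Fin 4 → ℤ) (i : ℤ) : dot f (i • x) = i * dot f x := by
  simp only [dot, Pi.smul_apply, smul_eq_mul]; ring

theorem dot_neg (f x : Fin 4 → ℤ) : dot f (-x) = -dot f x := by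
  simp only [dot, Pi.neg_apply]; ring

/-- the roots of level `≥ k` -/
def Lk (f : Fin 4 → ℤ) (k : ℤ) : Set (Fin 4 → ℤ) := {x | IsRoot cF hF.isCartan x ∧ k ≤ dot f x}

/-- the group of level `≥ k` -/
def Vk (f : Fin 4 → ℤ) (k : ℤ) : Subgroup Gm := RGD.Sup X3 (Lk f k)

theorem rgd3 : RGD cF hF.isCartan 3 (TT chevF4 F3) (nc hF F3) X3 := rgd (K := F3) hF cF 3

theorem intComm3 : IntComm cF hF.isCartan X3 := by
  have h0 := Cfsg.Agent.KFacts.RgdFiltChev.intComm_GL (K := F3) hF cF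
  intro x y hx hy hxy hxy' a ha b hb
  have h2 := h0 x y hx hy hxy hxy' a ha b hb
  have h3 : FS X3 {z | IB cF hF.isCartan x y z} =
      (FS (XV chevF4 4 F3) {z | IB cF hF.isCartan x y z}).subgroupOf (chevF4.group F3) := by
    unfold FS
    rw [Nodes.RGDLib.iSup_subgroupOf]
    rintro ⟨z, hz⟩
    exact XV_le_group hF z
  rw [h3, Subgroup.mem_subgroupOf]
  exact h2

theorem coord3 {x : Fin 4 → ℤ} (hx : IsRoot cF hF.isCartan x) :
    Cfsg.Agent.KFacts.RgdField.Coord (TT chevF4 F3) (X3 x) (xc hF x) (ch hF x) :=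
  (coords (K := F3) hF cF 3).coord _ hx

theorem isRoot_lt {r : ℕ} (hr : r < 48) : IsRoot cF hF.isCartan (Cfsg.Agent.Nodes.RGDChev.vec chevF4 4 r) :=
  (isRoot_iff hF cF _).2 ⟨r, by rwa [nroots], rfl⟩

theorem conj_sup {Y : Type*} [Group Y] {S : Set (Fin 4 → ℤ)} (X : (Fin 4 → ℤ) → Subgroup Y) (H : Subgroup Y) (a : Y)
    (h : ∀ x ∈ S, ∀ v ∈ X x, a * v * a⁻¹ ∈ H) {v : Y} (hv : v ∈ RGD.Sup X S) : a * v * a⁻¹ ∈ H := by
  have h1 : RGD.Sup X S ≤ H.comap (MulAut.conj a).toMonoidHom := RGD.Sup_le fun y hy v hv => h y hy v hv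
  exact h1 hv

theorem le_normalizer_of (f : Fin 4 → ℤ) {x : Fin 4 → ℤ} (hx : IsRoot cF hF.isCartan x) (h0 : 0 ≤ dot f x) {k : ℤ}
    (hk : 1 ≤ k) {a v : Gm} (ha : a ∈ X3 x) (hv : v ∈ Vk f k) : a * v * a⁻¹ ∈ Vk f k := by
  refine conj_sup X3 _ a (fun y hy v hv => ?_) hv
  by_cases hxy : x = y
  · subst hxy
    exact RGD.le_Sup hy (mul_mem (mul_mem ha hv) (inv_mem ha))
  · have h2 : x ≠ -y := by
      intro h2
      rw [h2, dot_neg] at h0
      have := hy.2
      linarith
    have h4 := intComm3 x y hx hy.1 hxy h2 a ha v hv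
    have h5 : FS X3 {z | IB cF hF.isCartan x y z} ≤ Vk f k := FS_le fun z hz => RGD.le_Sup (by
      obtain ⟨hz1, i, j, hi, hj, rfl⟩ := hz
      refine ⟨hz1, ?_⟩
      rw [dot_add, dot_smul, dot_smul]
      have := hy.2
      nlinarith)
    have e : a * v * a⁻¹ = ⁅a, v⁆ * v := by
      rw [commutatorElement_def]
      group
    rw [e]
    exact mul_mem (h5 h4) (RGD.le_Sup hy hv)

theorem Vk_mono (f : Fin 4 → ℤ) {k l : ℤ} (h : k ≤ l) : Vk f l ≤ Vk f k :=
  RGD.Sup_mono fun _ hx => ⟨hx.1, le_trans h hx.2⟩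

theorem Vk_conj (f : Fin 4 → ℤ) {k l : ℤ} (hk : 0 ≤ k) (hl : 1 ≤ l) {a v : Gm} (ha : a ∈ Vk f k) (hv : v ∈ Vk f l) :
    a * v * a⁻¹ ∈ Vk f l := by
  have h : Vk f k ≤ Subgroup.normalizer (Vk f l : Set Gm) := by
    refine RGD.Sup_le fun x hx a ha => ?_
    rw [Subgroup.mem_normalizer_iff]
    intro w
    refine ⟨fun hw => le_normalizer_of f hx.1 (le_trans hk hx.2) hl ha hw, fun hw => ?_⟩
    have := le_normalizer_of f hx.1 (le_trans hk hx.2) hl (inv_mem ha) hw
    have e : a⁻¹ * (a * w * a⁻¹) * a⁻¹⁻¹ = w := by group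
    rwa [e] at this
  exact (Subgroup.mem_normalizer_iff.1 (h ha) v).1 hv

theorem gen_comm (f : Fin 4 → ℤ) {k : ℤ} (hk : 1 ≤ k) {x y : Fin 4 → ℤ} (hx : x ∈ Lk f k) (hy : y ∈ Lk f k) {a b : Gm}
    (ha : a ∈ X3 x) (hb : b ∈ X3 y) : ⁅a, b⁆ ∈ Vk f (k + 1) := by
  by_cases hxy : x = y
  · subst hxy
    obtain ⟨s, rfl⟩ := ((coord3 hx.1).mem a).1 ha
    obtain ⟨t, rfl⟩ := ((coord3 hx.1).mem b).1 hb
    have : ⁅xc hF x s, xc hF x t⁆ = (1 : Gm) := by
      rw [commutatorElement_eq_one_iff_mul_comm, ← (coord3 hx.1).add, ← (coord3 hx.1).add, add_comm]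
    rw [this]
    exact one_mem _
  · have h2 : x ≠ -y := by
      intro h2
      have h1 := hx.2
      rw [h2, dot_neg] at h1
      have := hy.2
      linarith
    have h4 := intComm3 x y hx.1 hy.1 hxy h2 a ha b hb
    have h5 : FS X3 {z | IB cF hF.isCartan x y z} ≤ Vk f (k + 1) := FS_le fun z hz => RGD.le_Sup (by
      obtain ⟨hz1, i, j, hi, hj, rfl⟩ := hz
      refine ⟨hz1, ?_⟩
      rw [dot_add, dot_smul, dot_smul]
      have h6 := hx.2
      have h7 := hy.2
      nlinarith)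
    exact h5 h4

theorem comm_half (f : Fin 4 → ℤ) {k : ℤ} (hk : 1 ≤ k) {b : Gm} (hb : ∀ x ∈ Lk f k, ∀ a ∈ X3 x, ⁅a, b⁆ ∈ Vk f (k + 1))
    {a : Gm} (ha : a ∈ Vk f k) : ⁅a, b⁆ ∈ Vk f (k + 1) := by
  have h1 : Vk f k ≤ Vk f k ⊓ Vk f k := le_inf le_rfl le_rfl
  have key : a ∈ Vk f k ∧ ⁅a, b⁆ ∈ Vk f (k + 1) := by
    refine Subgroup.iSup_induction (fun z : Lk f k => X3 z.1) (C := fun a => a ∈ Vk f k ∧ ⁅a, b⁆ ∈ Vk f (k + 1))
      ha ?_ ?_ ?_
    · rintro ⟨x, hx⟩ a ha
      exact ⟨RGD.le_Sup hx ha, hb x hx a ha⟩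
    · refine ⟨one_mem _, ?_⟩
      rw [commutatorElement_one_left]
      exact one_mem _
    · rintro a c ⟨ha, ha'⟩ ⟨hc, hc'⟩
      refine ⟨mul_mem ha hc, ?_⟩
      have e : ⁅a * c, b⁆ = a * ⁅c, b⁆ * a⁻¹ * ⁅a, b⁆ := by
        rw [commutatorElement_def, commutatorElement_def, commutatorElement_def]; group
      rw [e]
      exact mul_mem (Vk_conj f (by omega) (by omega) ha hc') ha'
  exact key.2

theorem comm_Vk (f : Fin 4 → ℤ) {k : ℤ} (hk : 1 ≤ k) {a b : Gm} (ha : a ∈ Vk f k) (hb : b ∈ Vk f k) :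
    a * b * a⁻¹ * b⁻¹ ∈ Vk f (k + 1) := by
  rw [← commutatorElement_def]
  refine comm_half f hk (fun x hx a ha => ?_) ha
  have e : ⁅a, b⁆ = ⁅b, a⁆⁻¹ := by rw [commutatorElement_inv]
  rw [e]
  exact inv_mem (comm_half f hk (fun y hy c hc => gen_comm f hk hy hx hc ha) hb)

/-! ### words -/

/-- the inverse word -/
def invw (w : List (ℕ × Bool)) : List (ℕ × Bool) := (w.map fun p => (p.1, !p.2)).reverse

theorem xr_inv {p : ℕ × Bool} (hp : p.1 < 48) : (xr p)⁻¹ = xr (p.1, !p.2) := by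
  have C := coord3 (isRoot_lt hp)
  rw [inv_eq_iff_mul_eq_one]
  show xc hF _ (sgb p.2) * xc hF _ (sgb (!p.2)) = 1
  rw [← C.add]
  have : sgb p.2 + sgb (!p.2) = 0 := by cases p.2 <;> decide
  rw [this]
  exact C.zero

theorem wd_inv {w : List (ℕ × Bool)} (hw : okF w = true) : (wd w)⁻¹ = wd (invw w) := by
  induction w with
  | nil => rw [wd_nil, inv_one]; rfl
  | cons p w ih =>
    rw [okF, List.all_cons, Bool.and_eq_true, decide_eq_true_eq] at hw
    have e : invw (p :: w) = invw w ++ [(p.1, !p.2)] := by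
      rw [invw, List.map_cons, List.reverse_cons]
      rfl
    rw [wd_cons, mul_inv_rev, ih hw.2, xr_inv hw.1, e, wd_append, wd_single]

theorem xr_mem {p : ℕ × Bool} (hp : p.1 < 48) : xr p ∈ X3 (Cfsg.Agent.Nodes.RGDChev.vec chevF4 4 p.1) :=
  ((coord3 (isRoot_lt hp)).mem _).2 ⟨_, rfl⟩

/-- the level of a root -/
def lvl (f : Fin 4 → ℤ) (r : ℕ) : ℤ := dot f (Cfsg.Agent.Nodes.RGDChev.vec chevF4 4 r)

theorem xr_mem_Vk {f : Fin 4 → ℤ} {k : ℤ} {p : ℕ × Bool} (hp : p.1 < 48) (h : k ≤ lvl f p.1) : xr p ∈ Vk f k :=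
  RGD.le_Sup (show _ ∈ Lk f k from ⟨isRoot_lt hp, h⟩) (xr_mem hp)

theorem wd_mem_Vk {f : Fin 4 → ℤ} {k : ℤ} {w : List (ℕ × Bool)} (h : ∀ p ∈ w, p.1 < 48 ∧ k ≤ lvl f p.1) :
    wd w ∈ Vk f k := by
  induction w with
  | nil => rw [wd_nil]; exact one_mem _
  | cons p w ih =>
    rw [wd_cons]
    exact mul_mem (xr_mem_Vk (h p (List.mem_cons_self)).1 (h p (List.mem_cons_self)).2)
      (ih fun q hq => h q (List.mem_cons_of_mem _ hq))

theorem xc_cases {r : ℕ} (hr : r < 48) {a : Gm} (ha : a ∈ X3 (Cfsg.Agent.Nodes.RGDChev.vec chevF4 4 r))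
    {H : Subgroup Gm} (hH : xr (r, true) ∈ H) : a ∈ H := by
  have C := coord3 (isRoot_lt hr)
  obtain ⟨t, rfl⟩ := (C.mem a).1 ha
  have ht : ∀ t : F3, t = 0 ∨ t = sgb true ∨ t = sgb true + sgb true := by decide
  have ht := ht t
  rcases ht with rfl | rfl | rfl
  · rw [C.zero]; exact one_mem _
  · exact hH
  · rw [C.add]; exact mul_mem hH hH

theorem xr_pow {p : ℕ × Bool} (hp : p.1 < 48) : xr p ^ 3 = 1 := by
  have C := coord3 (isRoot_lt hp)
  show xc hF _ (sgb p.2) ^ 3 = 1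
  rw [pow_succ, pow_two, ← C.add, ← C.add]
  have : sgb p.2 + sgb p.2 + sgb p.2 = 0 := by cases p.2 <;> decide
  rw [this]
  exact C.zero

/-- a row: root, `v`, word in `S`, correction -/
abbrev Row := ℕ × List (ℕ × Bool) × List (ℕ × Bool) × List (ℕ × Bool)

/-- the combinatorial conditions of a row -/
def rowC (f : Fin 4 → ℤ) (k : ℤ) (S : List ℕ) (q : Row) : Prop :=
  (∀ p ∈ q.2.1, p.1 < 48 ∧ k ≤ lvl f p.1) ∧ (∀ p ∈ q.2.2.1, p.1 ∈ S) ∧
    ∀ p ∈ q.2.2.2, p.1 < 48 ∧ k + 1 ≤ lvl f p.1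

instance (f : Fin 4 → ℤ) (k : ℤ) (S : List ℕ) (q : Row) : Decidable (rowC f k S q) := by
  unfold rowC; infer_instance

/-- the word of a row -/
def rowW (y : List (ℕ × Bool)) (q : Row) : List (ℕ × Bool) :=
  q.2.1 ++ (y ++ (invw q.2.1 ++ (invw y ++ (q.2.2.1 ++ q.2.2.2))))

/-- **the certificate for one level** -/
theorem fix_step {f : Fin 4 → ℤ} {k : ℤ} (hk : 1 ≤ k) {y : List (ℕ × Bool)} (hy : ∀ p ∈ y, p.1 < 48 ∧ 0 ≤ lvl f p.1)
    {S : List ℕ} (hS : ∀ s ∈ S, s < 48 ∧ k ≤ lvl f s) {rows : List Row} (h1 : ∀ q ∈ rows, rowC f k S q)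
    (h2 : ∀ q ∈ rows, chkE [(q.1, true)] (rowW y q) = true)
    (h3 : ∀ r < 48, k ≤ lvl f r → k + 1 ≤ lvl f r ∨ r ∈ S ∨ r ∈ rows.map (·.1)) :
    Nat.card ↥(Vk f k ⊓ Subgroup.centralizer {wd y}) ≤
      3 ^ S.length * Nat.card ↥(Vk f (k + 1) ⊓ Subgroup.centralizer {wd y}) := by
  have hy0 : wd y ∈ Vk f 0 := wd_mem_Vk hy
  have hyok : okF y = true := by
    rw [okF, List.all_eq_true]
    intro e he
    exact decide_eq_true (hy e he).1
  have h := Abs.step (V := Vk f k) (N := Vk f (k + 1)) (Vk_mono f (by omega)) (wd y)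
    (fun a ha b hb => comm_Vk f hk ha hb) (fun v hv => Vk_conj f le_rfl hk hy0 hv)
    (fun v hv => Vk_conj f le_rfl (by omega) hy0 hv) (S.map fun s => xr (s, true)) ?_ ?_ ?_
  · rwa [List.length_map] at h
  · intro s hs
    obtain ⟨r, hr, rfl⟩ := List.mem_map.1 hs
    exact xr_mem_Vk (p := (r, true)) (hS r hr).1 (hS r hr).2
  · intro s hs
    obtain ⟨r, hr, rfl⟩ := List.mem_map.1 hs
    exact xr_pow (p := (r, true)) (hS r hr).1
  · refine RGD.Sup_le fun x hx => ?_
    obtain ⟨r, hr, rfl⟩ := (isRoot_iff hF cF x).1 hx.1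
    rw [nroots] at hr
    intro a ha
    refine xc_cases hr ha ?_
    set H := Subgroup.closure (({x | ∃ v ∈ Vk f k, x = v * wd y * v⁻¹ * (wd y)⁻¹} ∪ (Vk f (k + 1) : Set Gm)) ∪
      {s | s ∈ S.map fun s => xr (s, true)}) with hH
    have hN : ∀ v ∈ Vk f (k + 1), v ∈ H := fun v hv => Subgroup.subset_closure (Or.inl (Or.inr hv))
    have hSS : ∀ r ∈ S, xr (r, true) ∈ H := fun r hr =>
      Subgroup.subset_closure (Or.inr (List.mem_map.2 ⟨r, hr, rfl⟩))
    have hSS' : ∀ p : ℕ × Bool, p.1 ∈ S → xr p ∈ H := by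
      rintro ⟨r, b⟩ hr
      cases b
      · have := inv_mem (hSS r hr)
        rwa [xr_inv (p := (r, true)) (hS r hr).1] at this
      · exact hSS r hr
    rcases h3 r hr hx.2 with h4 | h4 | h4
    · exact hN _ (xr_mem_Vk (p := (r, true)) hr h4)
    · exact hSS r h4
    · obtain ⟨q, hq, rfl⟩ := List.mem_map.1 h4
      have h5 := word_eq (h2 q hq)
      obtain ⟨h6, h7, h8⟩ := h1 q hq
      have hvok : okF q.2.1 = true := by
        rw [okF, List.all_eq_true]
        intro e he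
        exact decide_eq_true (h6 e he).1
      rw [wd_single] at h5
      rw [h5, rowW, wd_append, wd_append, wd_append, wd_append, wd_append, ← wd_inv hvok, ← wd_inv hyok]
      have e : wd q.2.1 * (wd y * ((wd q.2.1)⁻¹ * ((wd y)⁻¹ * (wd q.2.2.1 * wd q.2.2.2)))) =
          (wd q.2.1 * wd y * (wd q.2.1)⁻¹ * (wd y)⁻¹) * (wd q.2.2.1 * wd q.2.2.2) := by group
      rw [e]
      refine mul_mem (Subgroup.subset_closure (Or.inl (Or.inl ⟨_, wd_mem_Vk h6, rfl⟩))) (mul_mem ?_ (hN _ (wd_mem_Vk h8)))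
      clear e h5 h6 h8 hvok
      generalize q.2.2.1 = w at h7
      induction w with
      | nil => rw [wd_nil]; exact one_mem _
      | cons p w ih =>
        rw [wd_cons]
        exact mul_mem (hSS' p (h7 p (List.mem_cons_self))) (ih fun q hq => h7 q (List.mem_cons_of_mem _ hq))

/-- the last level -/
theorem Vk_bot {f : Fin 4 → ℤ} {k : ℤ} (h : ∀ r < 48, lvl f r < k) : Vk f k = ⊥ := by
  rw [eq_bot_iff]
  refine RGD.Sup_le fun x hx => ?_
  obtain ⟨r, hr, rfl⟩ := (isRoot_iff hF cF x).1 hx.1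
  rw [nroots] at hr
  have h1 := h r hr
  have h2 : k ≤ lvl f r := hx.2
  omega

end Cfsg.Agent.H938.F43
end

private theorem dce_c60316efc19f : _root_.True := by
  try have : _root_.True := by simp only [_root_.Cfsg.Agent.H938.F43.rowW.eq_1]
  try have : _root_.True := by simp only [_root_.Cfsg.Agent.H938.F43.invw.eq_1]
  try have : _root_.True := by simp only [_root_.Cfsg.Agent.H938.F43.dot.eq_1]
  exact _root_.True.intro
end
end
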