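import Cfsg.Agent.H194.Ore.RowThree_m3
import Cfsg.Agent.H194.Ore.RowEF
import Cfsg.Agent.H162.GaussSL
import Cfsg.Agent.ClassicalGeometry.PSL2Basic
import Cfsg.Agent.H85.Ore.Phi_mg_m3
import Cfsg.Agent.FastGrp
import Cfsg.Agent.Prune
set_option linter.all false

section
prune_inst 0x7ffdf9fcbdbcf3ffdfff7e7faed4dffc79f7ffffbfdff9437fe061ff8fdf1b8249c56b8d0de250ff1ef7e09410f87b43fbffffffea6bfc7ffffd5ff41ffbffcfedf6b50851948c340f380fff03f0778e7f3fffffffffffffffffffffffffffbeffffffffffff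

-- part: H194/Pw/Own
section
prune_inst 0x2060142000800200001805003200384080000002006b8800c8000200064009400901072090b00010002222400000004000000010401000000a00000000010000000a100610000008460008000004000000000000000000000000000000000000000000000
set_option linter.all false
open scoped Cfsg.Agent.FastGrp

/-!
# `E₆(q)`, `F₄(q)`, `q ≥ 4`: products of two elements of order prime to the characteristic (S2465)

* `exists_spec` : the eigenvalues of a matrix with irreducible characteristic polynomial are, in a finite extension,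
  `z ^ (q ^ a)`, `a < n`, all different, with product `1`;
* `irr_pow` : `X ^ (1 + q + … + q^(n-1)) = 1` for `X` in `SL_n(K)` with irreducible characteristic polynomial;
* `pairs_tab` : every element of `D.group K` is `a b` with `a ^ (q³ - 1) = b ^ (q³ - 1) = 1`;
* `own_E6`, `own_F4`.
-/

set_option autoImplicit false
set_option linter.unusedSectionVars false

namespace Cfsg.Agent.H194.Pw

universe u

section Spectrum

open Polynomial Matrix

/-- the spectrum -/
structure Spec {K : Type u} {K' : Type u} [Field K] [Field K'] (i : K →+* K') (n : ℕ) (f : K[X]) (z : K') : Prop where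
  inj : Function.Injective fun a : Fin n => z ^ (Nat.card K ^ (a : ℕ))
  split : f.map i = ∏ a : Fin n, (X - C (z ^ (Nat.card K ^ (a : ℕ))))
  fix : z ^ (Nat.card K ^ n) = z
  norm : z ^ (∑ a ∈ Finset.range n, Nat.card K ^ a) = 1

theorem exists_spec {K : Type u} [Field K] [Finite K] {n : ℕ} {x : Matrix.SpecialLinearGroup (Fin n) K}
    (h : Irreducible (x : Matrix (Fin n) (Fin n) K).charpoly) :
    ∃ (K' : Type u) (_ : Field K') (_ : Finite K') (i : K →+* K') (z : K'),
      Spec i n (x : Matrix (Fin n) (Fin n) K).charpoly z := by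
  classical
  have := Fintype.ofFinite K
  obtain ⟨f, hf⟩ : ∃ f, f = (x : Matrix (Fin n) (Fin n) K).charpoly := ⟨_, rfl⟩
  rw [← hf] at h ⊢
  have hm : f.Monic := hf ▸ Matrix.charpoly_monic _
  have hd : f.natDegree = n := by rw [hf, Matrix.charpoly_natDegree_eq_dim, Fintype.card_fin]
  have : Fact (Irreducible f) := ⟨h⟩
  have hfin : Module.Finite K (AdjoinRoot f) := (AdjoinRoot.powerBasis' hm).finite
  have hfi : Finite (AdjoinRoot f) := Module.finite_of_finite K
  have hfr : Module.finrank K (AdjoinRoot f) = n := by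
    rw [(AdjoinRoot.powerBasis' hm).finrank, AdjoinRoot.powerBasis'_dim, hd]
  have hmin : minpoly K (AdjoinRoot.root f) = f := by
    rw [AdjoinRoot.minpoly_root h.ne_zero, hm.leadingCoeff, inv_one, C_1, mul_one]
  have hdm : (minpoly K (AdjoinRoot.root f)).natDegree = n := by rw [hmin, hd]
  obtain ⟨z, hz⟩ : ∃ z, z = AdjoinRoot.root f := ⟨_, rfl⟩
  rw [← hz] at hmin hdm
  have hcard : Fintype.card K = Nat.card K := (Nat.card_eq_fintype_card).symm
  have hinj : Function.Injective fun a : Fin n => z ^ (Nat.card K ^ (a : ℕ)) := by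
    have := Cfsg.Agent.H934.MF.pow_inj hdm
    rwa [hcard] at this
  have hroot : ∀ a : ℕ, (f.map (algebraMap K (AdjoinRoot f))).IsRoot (z ^ (Nat.card K ^ a)) := by
    intro a
    rw [IsRoot.def, eval_map_algebraMap, ← hcard]
    refine Cfsg.Agent.H934.MF.root_pow ?_ a
    have h2 := minpoly.aeval K z
    rwa [hmin] at h2
  have hsplit : f.map (algebraMap K (AdjoinRoot f)) = ∏ a : Fin n, (X - C (z ^ (Nat.card K ^ (a : ℕ)))) := by
    have h1 : (∏ a : Fin n, (X - C (z ^ (Nat.card K ^ (a : ℕ))))) ∣ f.map (algebraMap K (AdjoinRoot f)) := by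
      refine Finset.prod_dvd_of_coprime ?_ fun a _ => dvd_iff_isRoot.2 (hroot a)
      intro a _ b _ hab
      exact isCoprime_X_sub_C_of_isUnit_sub (sub_ne_zero.2 (fun h => hab (hinj h))).isUnit
    have h2 : (∏ a : Fin n, (X - C (z ^ (Nat.card K ^ (a : ℕ))))).Monic :=
      monic_prod_of_monic _ _ fun a _ => monic_X_sub_C _
    have h3 : (∏ a : Fin n, (X - C (z ^ (Nat.card K ^ (a : ℕ))))).natDegree = n := by
      rw [natDegree_prod_of_monic _ _ fun a _ => monic_X_sub_C _, Finset.sum_congr rfl fun a _ => natDegree_X_sub_C _]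
      simp
    refine (eq_of_monic_of_dvd_of_natDegree_le h2 (hm.map _) h1 ?_)
    rw [h3, natDegree_map, hd]
  refine ⟨AdjoinRoot f, inferInstance, hfi, algebraMap K (AdjoinRoot f), z, hinj, hsplit, ?_, ?_⟩
  · have h1 : Nat.card (AdjoinRoot f) = Nat.card K ^ n := by
      rw [Module.natCard_eq_pow_finrank (K := K), hfr]
    have := Fintype.ofFinite (AdjoinRoot f)
    have h2 := FiniteField.pow_card z
    rwa [← Nat.card_eq_fintype_card, h1] at h2
  · have h1 : ((x : Matrix (Fin n) (Fin n) K).map (algebraMap K (AdjoinRoot f))).det = 1 := by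
      have h2 : ((x : Matrix (Fin n) (Fin n) K).map (algebraMap K (AdjoinRoot f))).det =
          algebraMap K (AdjoinRoot f) (x : Matrix (Fin n) (Fin n) K).det :=
        (RingHom.map_det _ _).symm
      rw [h2, Matrix.SpecialLinearGroup.det_coe, map_one]
    rw [Matrix.det_eq_sign_charpoly_coeff, Matrix.charpoly_map, ← hf, hsplit, coeff_zero_eq_eval_zero, eval_prod] at h1
    simp only [eval_sub, eval_X, eval_C, zero_sub] at h1
    have h2 : ∀ a : Fin n, -(z ^ (Nat.card K ^ (a : ℕ))) = (-1) * z ^ (Nat.card K ^ (a : ℕ)) := fun a => neg_eq_neg_one_mul _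
    rw [Finset.prod_congr rfl fun a _ => h2 a, Finset.prod_mul_distrib, Finset.prod_const, Finset.card_univ,
      Fintype.card_fin, ← mul_assoc, ← mul_pow, neg_one_mul, neg_neg, one_pow, one_mul] at h1
    rw [Finset.prod_pow_eq_pow_sum] at h1
    rwa [Fin.sum_univ_eq_sum_range (fun a => Nat.card K ^ a) n] at h1

section

variable {K : Type u} {K' : Type u} [Field K] [Field K'] {i : K →+* K'} {n : ℕ} {f : K[X]} {z : K'}

theorem Spec.ne_zero (h : Spec i n f z) (hn : 0 < n) (hK : 0 < Nat.card K) : z ≠ 0 := by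
  intro h0
  have h1 := h.norm
  rw [h0, zero_pow] at h1
  · exact zero_ne_one h1
  · have : 0 < ∑ a ∈ Finset.range n, Nat.card K ^ a :=
      Finset.sum_pos (fun a _ => pow_pos hK a) ⟨0, by simpa using hn⟩
    omega

end

/-- **The order of a matrix with irreducible characteristic polynomial.** -/
theorem irr_pow {K : Type u} [Field K] [Finite K] {n : ℕ} {x : Matrix.SpecialLinearGroup (Fin n) K}
    (h : Irreducible (x : Matrix (Fin n) (Fin n) K).charpoly) : x ^ (∑ a ∈ Finset.range n, Nat.card K ^ a) = 1 := by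
  obtain ⟨K', _, _, i, z, S⟩ := exists_spec h
  refine Cfsg.Agent.H85.Pw.pow_eq_one S.inj S.split fun a => ?_
  rw [← pow_mul, mul_comm, pow_mul, S.norm, one_pow]

end Spectrum

open CoxeterSystem Cfsg.Agent.ChevalleyStructure.CoxeterGeom Cfsg.Agent.Tits.Roots Cfsg.Agent.Tits.Core
  Cfsg.Agent.Nodes.Reps Cfsg.Agent.Nodes.BNOf Cfsg.Agent.Nodes.RGDLib Cfsg.Agent.Nodes.Bruhat
  Cfsg.Agent.Nodes.OppDec Cfsg.Agent.Nodes.LeviDec Cfsg.Agent.Nodes.KindChev Cfsg.Agent.Nodes.ChevCls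
  Cfsg.Agent.OddHalf.NI.ModelChev Cfsg.Agent.Nodes.StabComb
  Cfsg.Agent.H162.GaussDec Cfsg.Agent.H162.GaussLevi Cfsg.Agent.H162.GaussSL Cfsg.Agent.H162.GaussReg
  Cfsg.Agent.H162.GaussPQ
  Cfsg.Agent.H928.Ore.Frame Cfsg.Agent.H928.Ore.Fix
open Cfsg.Lie Cfsg.Agent.ChevalleyStructure Cfsg.Agent.ChevalleyStructure.Elts
  Cfsg.Agent.ChevalleyStructure.RootVec Cfsg.Agent.ChevalleyStructure.NPerm
  Cfsg.Agent.ChevalleyStructure.CoxeterGeomTypes Cfsg.Agent.Nodes.RGDChev Cfsg.Agent.KFacts.RgdChevCoord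
open Cfsg.Agent.TitsThree.KExcRT Cfsg.Agent.H335.Sr Cfsg.Agent.H129.TorusChar Cfsg.Agent.H777.Ore
open Cfsg.Agent.H162.GaussExc (sg sg_mem ch_sg act_sg wd fr fr_lt wd_act fr_vec wd_norm eq_of_ch prod_zpow coord)
open Cfsg.Agent.H85.Ore Cfsg.Agent.H78.Pw Cfsg.Agent.H85.Pw
open Cfsg.Agent.H194.Ore


section

variable {D : ChevalleyDatum} {l : ℕ} {M : CoxeterMatrix (Fin l)} (hp : IsType D l M) {K : Type u} [Field K]

/-- the order of the element of the torus -/
theorem sg_pow [Finite K] (m : Fin l → ℤ) (t : Kˣ) : sg hp m t ^ (Nat.card K - 1) = 1 := by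
  have h1 : Nat.card Kˣ = Nat.card K - 1 := Nat.card_units K
  unfold sg
  rw [← map_pow]
  convert map_one (th hp)
  funext k
  rw [Pi.pow_apply, ← h1, pow_card_eq_one']
  rfl

end

theorem geom_dvd (q n : ℕ) (hq : 1 ≤ q) : (q - 1) * ∑ a ∈ Finset.range n, q ^ a = q ^ n - 1 := by
  induction n with
  | zero => simp
  | succ m ih =>
    rw [Finset.sum_range_succ, mul_add, ih, pow_succ]
    have h1 : 1 ≤ q ^ m := Nat.one_le_pow _ _ hq
    obtain ⟨k, rfl⟩ : ∃ k, q = k + 1 := ⟨q - 1, by omega⟩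
    rw [Nat.add_sub_cancel]
    have h2 : 1 ≤ (k + 1) ^ m := h1
    have h3 : (k + 1) ^ m * (k + 1) = k * (k + 1) ^ m + (k + 1) ^ m := by ring
    omega

/-- a unit with `t ≠ 1`, `t² ≠ 1` -/
theorem exists_t {K : Type u} [Field K] [Finite K] (hK : 4 ≤ Nat.card K) : ∃ t : Kˣ, t ≠ 1 ∧ t * t ≠ 1 := by
  by_contra hcon
  push Not at hcon
  have h1 : ∀ x : K, x = 0 ∨ x = 1 ∨ x = -1 := by
    intro x
    by_cases hx : x = 0
    · exact .inl hx
    · right
      by_cases h1 : x = 1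
      · exact .inl h1
      · right
        have h2 := hcon (Units.mk0 x hx) (fun h => h1 (by
          have := congrArg Units.val h
          simpa using this))
        have h3 : x * x = 1 := by
          have := congrArg Units.val h2
          simpa using this
        rcases mul_self_eq_one_iff.1 h3 with h4 | h4
        · exact absurd h4 h1
        · exact h4
  classical
  have := Fintype.ofFinite K
  have h2 : (Finset.univ : Finset K) ⊆ {0, 1, -1} := by
    intro x _
    simp only [Finset.mem_insert, Finset.mem_singleton]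
    exact h1 x
  have h3 := Finset.card_le_card h2
  rw [Finset.card_univ, ← Nat.card_eq_fintype_card] at h3
  have h4 : ({0, 1, -1} : Finset K).card ≤ 3 := Finset.card_le_three
  omega

/-- **Products of two elements of order dividing `q³ - 1`.** -/
theorem pairs_tab {D : ChevalleyDatum} {l : ℕ} {M : CoxeterMatrix (Fin l)} (hp : IsType D l M) {K : Type u} [Field K]
    [Finite K] (hK : 4 ≤ Nat.card K) {J : List (Fin l)} {m : Fin l → ℤ} {γ : Fin l → Fin l} {ω ω₁ : List (Fin l)}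
    {r : Fin 3 → Fin 3 → ℕ} {ε : ℤ} (hε : ε * ε = 1) {i j : Fin l} (T : Tab D l J m γ ω ω₁ r ε i j)
    (hS : IsSimpleGroup ↥(D.group K) ∧ ¬ IsMulCommutative ↥(D.group K))
    (hM : ∀ J : Finset (Fin l), J = ∅ ∨ J = Finset.univ ∨ ∃ a ∈ J, ∃ b, b ∉ J ∧ M a b ≠ 2) (hm3 : M3 K)
    (g : ↥(D.group K)) :
    ∃ a b : ↥(D.group K), g = a * b ∧ a ^ (Nat.card K ^ 3 - 1) = 1 ∧ b ^ (Nat.card K ^ 3 - 1) = 1 := by
  obtain ⟨p, hpc⟩ := CharP.exists K
  have : Fact p.Prime := ⟨(CharP.char_is_prime_or_zero K p).resolve_right (CharP.char_ne_zero_of_finite K p)⟩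
  have := finite_W hp M.toCoxeterSystem
  have hl : 0 < l := i.pos
  by_cases hg : g = 1
  · exact ⟨1, 1, by rw [hg]; simp, one_pow _, one_pow _⟩
  obtain ⟨φ, hφ⟩ := Cfsg.Agent.H162.GaussExcMain.exists_hom_D hp (K := K) hε T.ra T.rb T.rc T.rn
  obtain ⟨t, h1, h2⟩ := exists_t hK
  have hti : (sg hp m t)⁻¹ = sg hp m t⁻¹ := by
    refine inv_eq_of_mul_eq_one_right ?_
    unfold sg
    rw [← map_mul]
    convert map_one (th hp)
    funext k
    rw [Pi.mul_apply, inv_zpow, mul_inv_cancel]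
    rfl
  have hord : ∀ (s : Kˣ) (A : Matrix.SpecialLinearGroup (Fin 3) K),
      Irreducible (A : Matrix (Fin 3) (Fin 3) K).charpoly → (sg hp m s * φ A) ^ (Nat.card K ^ 3 - 1) = 1 := by
    intro s A hA
    have h3 : Commute (sg hp m s) (φ A) := T.comm hp s hφ A
    have h5 := irr_pow hA
    rw [h3.mul_pow, ← map_pow, ← geom_dvd _ 3 Nat.card_pos, pow_mul, sg_pow, one_pow, one_mul, mul_comm, pow_mul, h5,
      one_pow, map_one]
  obtain ⟨c₁, c₂, x, y, ⟨h3, h4⟩, h5⟩ := pair (rgd (K := K) hp M.toCoxeterSystem p) (G1_eq_top hp _)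
    (coord hp) (Cfsg.Agent.Nodes.ChevChart.irr_of hM) (J := {k | k ∈ J})
    (Pr := fun c₁ c₂ : ↥(D.group K) => c₁ ^ (Nat.card K ^ 3 - 1) = 1 ∧ c₂ ^ (Nat.card K ^ 3 - 1) = 1)
    (fun v hv u hu => by
      obtain ⟨L, hL, rfl⟩ := T.lo hp hφ hε hv
      obtain ⟨U, hU, rfl⟩ := T.up hp hφ hε hu
      obtain ⟨X, Y, hXY, hX, hY, -⟩ := hm3 L hL U hU
      have hsT : sg hp m t ∈ LJ M.toCoxeterSystem hp.isCartan (TT D K) (XX D l K) {k | k ∈ J} :=
        T_le_LJ (sg_mem hp m t)
      refine ⟨sg hp m t * φ X, (sg hp m t)⁻¹ * φ Y, ?_, ⟨mul_mem hsT (T.range hp hφ X),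
        mul_mem (inv_mem hsT) (T.range hp hφ Y), (T.nf hp t hφ hε h1 h2 hX).2, ?_⟩, hord t X hX, ?_⟩
      · rw [T.comm hp t hφ X]
        calc φ L * φ U = φ (X * Y) := by rw [← map_mul, hXY]
          _ = φ X * φ Y := map_mul _ _ _
          _ = _ := by group
      · rw [hti]
        exact (T.nf hp t⁻¹ hφ hε (by rwa [ne_eq, inv_eq_one]) (by
          rw [← mul_inv, ne_eq, inv_eq_one]
          exact h2) hY).1
      · rw [hti]
        exact hord t⁻¹ Y hY) (Cfsg.Agent.H224.Ore.Row.not_mem_core hl hS.1 p hp hg)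
  exact ⟨_, _, h5, by rw [conj_pow, h3, mul_one, mul_inv_cancel], by rw [conj_pow, h4, mul_one, mul_inv_cancel]⟩

theorem pairs_E6 {K : Type u} [Field K] [Finite K] (hK : 4 ≤ Nat.card K) (g : ↥(chevE6.group K)) :
    ∃ a b : ↥(chevE6.group K), g = a * b ∧ a ^ (Nat.card K ^ 3 - 1) = 1 ∧ b ^ (Nat.card K ^ 3 - 1) = 1 :=
  pairs_tab Cfsg.Agent.Nodes.KindE.isType6 hK (by norm_num) tab6 (Cfsg.Agent.S1054.result chevE6 (by simp))
    Cfsg.Agent.Nodes.ChevChart.irr6 (m3_of_four hK) g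

theorem pairs_F4 {K : Type u} [Field K] [Finite K] (hK : 4 ≤ Nat.card K) (g : ↥(chevF4.group K)) :
    ∃ a b : ↥(chevF4.group K), g = a * b ∧ a ^ (Nat.card K ^ 3 - 1) = 1 ∧ b ^ (Nat.card K ^ 3 - 1) = 1 :=
  pairs_tab Cfsg.Agent.Nodes.KindF.isType hK (by norm_num) tabL (Cfsg.Agent.S1054.result chevF4 (by simp))
    Cfsg.Agent.Nodes.ChevChart.irrF (m3_of_four hK) g

/-- **own characteristic** -/
theorem own_E6 {K : Type u} [Field K] [Finite K] (hK : 4 ≤ Nat.card K) (p : ℕ) [Fact p.Prime] [CharP K p] :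
    All p ↥(chevE6.group K) :=
  all_of_pairs (coprime_card K (by norm_num)) (pairs_E6 hK)

/-- **own characteristic** -/
theorem own_F4 {K : Type u} [Field K] [Finite K] (hK : 4 ≤ Nat.card K) (p : ℕ) [Fact p.Prime] [CharP K p] :
    All p ↥(chevF4.group K) :=
  all_of_pairs (coprime_card K (by norm_num)) (pairs_F4 hK)

end Cfsg.Agent.H194.Pw
end

-- part: H267/Ore/PTwo
section
prune_inst 0x2000342430c0000000000002820018208000000000088800000000000401c0208942282092900000802080004801004000000100400000000a000400000001001080020021000008400000000080000000000000000000000000000000000000000000000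
set_option linter.all false
open scoped Cfsg.Agent.FastGrp

/-!
# Products of two elements of prime order in `SL_2(q)` (helper267; S2465, lemma `P_2`)

`p_two_prime` : `ℓ ≥ 5` a prime divisor of `q² - 1`: every `L U` is a product of two elements of order `ℓ`;
`p_two` : for `q ≥ 4` divisible by `2` or `3` there is such a prime.
-/

set_option autoImplicit false

namespace Cfsg.Agent.H267.Ore.PTwo

open Matrix Polynomial
open Cfsg.Agent.H162.GaussSL (LT UT mem_LT mem_UT gc gc_mul gc_inv gc_pow coe_gc)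

variable {K : Type*} [Field K]

/-! ### Companion matrices -/

/-- the companion matrix of `X² - t X + 1` -/
def cm (t : K) : _root_.Matrix.SpecialLinearGroup (Fin 2) K := ⟨!![0, -1; 1, t], by simp [det_fin_two]⟩

theorem exists_gc_of {A : _root_.Matrix.SpecialLinearGroup (Fin 2) K} {p q r s : K} (hd : p * s - q * r ≠ 0)
    (h : A.1 * !![p, q; r, s] = !![p, q; r, s] * !![0, -1; 1, A.1 0 0 + A.1 1 1]) :
    ∃ P : GL (Fin 2) K, A = gc P (cm (A.1 0 0 + A.1 1 1)) := by
  have hdet : (!![p, q; r, s] : Matrix (Fin 2) (Fin 2) K).det ≠ 0 := by rwa [det_fin_two_of]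
  refine ⟨GeneralLinearGroup.mkOfDetNeZero _ hdet, Cfsg.Agent.H162.GaussSL.coe_inj ?_⟩
  rw [coe_gc, eq_mul_inv_iff_mul_eq]
  exact Units.ext h

/-- a nonscalar element of `SL_2` is conjugate to the companion matrix -/
theorem exists_gc {A : _root_.Matrix.SpecialLinearGroup (Fin 2) K} (hA : ¬ (A.1 0 1 = 0 ∧ A.1 1 0 = 0 ∧ A.1 0 0 = A.1 1 1)) :
    ∃ P : GL (Fin 2) K, A = gc P (cm (A.1 0 0 + A.1 1 1)) := by
  have hdet : A.1 0 0 * A.1 1 1 - A.1 0 1 * A.1 1 0 = 1 := by rw [← det_fin_two]; exact A.2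
  by_cases hc : A.1 1 0 = 0
  · by_cases hb : A.1 0 1 = 0
    · have had : A.1 0 0 ≠ A.1 1 1 := fun h => hA ⟨hb, hc, h⟩
      refine exists_gc_of (p := 1) (q := A.1 0 0) (r := 1) (s := A.1 1 1) ?_ ?_
      · rw [one_mul, mul_one]
        exact sub_ne_zero.2 had.symm
      · rw [hb] at hdet
        ext i j
        (revert i j; simp only [Matrix.mul_apply, Fin.sum_univ_two, hb, hc, _root_.Fin.forall_fin_succ, Fin.isValue, _root_.Matrix.of_apply, _root_.Matrix.cons_val', _root_.Matrix.cons_val_fin_one, _root_.Matrix.cons_val_zero, _root_.Matrix.cons_val_one, _root_.mul_one, _root_.MulZeroClass.mul_zero, _root_.zero_add, _root_.Matrix.cons_val_succ, _root_.mul_neg, _root_.forall_const, _root_.add_zero, _root_.MulZeroClass.zero_mul, _root_.true_and, _root_.Fin.succ_zero_eq_one, _root_.IsEmpty.forall_iff, _root_.and_true]) <;> (repeat' with_reducible apply And.intro) <;>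
          linear_combination -hdet
    · refine exists_gc_of (p := 0) (q := A.1 0 1) (r := 1) (s := A.1 1 1) ?_ ?_
      · rw [zero_mul, mul_one, zero_sub]
        exact neg_ne_zero.2 hb
      · ext i j
        (revert i j; simp only [Matrix.mul_apply, Fin.sum_univ_two, _root_.Fin.forall_fin_succ, Fin.isValue, _root_.Matrix.of_apply, _root_.Matrix.cons_val', _root_.Matrix.cons_val_fin_one, _root_.Matrix.cons_val_zero, _root_.Matrix.cons_val_one, _root_.MulZeroClass.mul_zero, _root_.mul_one, _root_.zero_add, _root_.Matrix.cons_val_succ, _root_.mul_neg, _root_.forall_const, _root_.neg_zero, _root_.Fin.succ_zero_eq_one, _root_.IsEmpty.forall_iff, _root_.and_true, _root_.true_and]) <;> (repeat' with_reducible apply And.intro)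
        · ring
        · linear_combination -hdet
  · refine exists_gc_of (p := 1) (q := A.1 0 0) (r := 0) (s := A.1 1 0) ?_ ?_
    · rw [one_mul, mul_zero, sub_zero]
      exact hc
    · ext i j
      (revert i j; simp only [Matrix.mul_apply, Fin.sum_univ_two, _root_.Fin.forall_fin_succ, Fin.isValue, _root_.Matrix.of_apply, _root_.Matrix.cons_val', _root_.Matrix.cons_val_fin_one, _root_.Matrix.cons_val_zero, _root_.Matrix.cons_val_one, _root_.mul_one, _root_.MulZeroClass.mul_zero, _root_.add_zero, _root_.zero_add, _root_.Matrix.cons_val_succ, _root_.mul_neg, _root_.forall_const, _root_.neg_zero, _root_.Fin.succ_zero_eq_one, _root_.IsEmpty.forall_iff, _root_.and_true, _root_.true_and]) <;> (repeat' with_reducible apply And.intro)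
      · linear_combination -hdet
      · ring

/-- Cayley-Hamilton -/
theorem ch (A : _root_.Matrix.SpecialLinearGroup (Fin 2) K) : A.1 * A.1 = (A.1 0 0 + A.1 1 1) • A.1 - 1 := by
  have hdet : A.1 0 0 * A.1 1 1 - A.1 0 1 * A.1 1 0 = 1 := by rw [← det_fin_two]; exact A.2
  ext i j
  (revert i j; simp only [Matrix.mul_apply, Fin.sum_univ_two, _root_.Fin.forall_fin_succ, Fin.isValue, _root_.Matrix.sub_apply, _root_.Matrix.smul_apply, _root_.smul_eq_mul, _root_.Fin.succ_zero_eq_one, _root_.IsEmpty.forall_iff, _root_.Matrix.one_apply_eq, Nat.reduceAdd, _root_.ne_eq, _root_.zero_ne_one, _root_.not_false_eq_true, _root_.Matrix.one_apply_ne, _root_.sub_zero, _root_.Fin.succ_ne_zero, _root_.and_true, _root_.true_and]) <;> (repeat' with_reducible apply And.intro)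
  · linear_combination -hdet
  · ring
  · ring
  · linear_combination -hdet

/-! ### Elements of prime order -/

/-- the trace -/
def tc (A : _root_.Matrix.SpecialLinearGroup (Fin 2) K) : K := A.1 0 0 + A.1 1 1

theorem tc_sq (A : _root_.Matrix.SpecialLinearGroup (Fin 2) K) : tc (A * A) = tc A ^ 2 - 2 := by
  have h := ch A
  have e0 := congrFun (congrFun h 0) 0
  have e1 := congrFun (congrFun h 1) 1
  change (A.1 * A.1) 0 0 + (A.1 * A.1) 1 1 = (A.1 0 0 + A.1 1 1) ^ 2 - 2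
  rw [e0, e1]
  simp
  ring

theorem ne_two {A : _root_.Matrix.SpecialLinearGroup (Fin 2) K} {n : ℕ} (hn : (n : K) ≠ 0) (h : A ^ n = 1) (h1 : A ≠ 1) :
    tc A ≠ 2 := by
  intro ht
  have hc := ch A
  change A.1 * A.1 = tc A • A.1 - 1 at hc
  rw [ht] at hc
  have key : ∀ k : ℕ, (A.1) ^ k = 1 + (k : K) • (A.1 - 1) := by
    intro k
    induction k with
    | zero => simp only [_root_.pow_zero, _root_.Nat.cast_zero, _root_.zero_smul, _root_.add_zero]
    | succ k ih =>
      rw [pow_succ, ih, add_mul, one_mul, smul_mul_assoc, sub_mul, one_mul, hc]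
      push_cast
      rw [add_smul, one_smul]
      ext i j
      simp only [_root_.Matrix.add_apply, _root_.Matrix.smul_apply, _root_.Matrix.sub_apply, _root_.smul_eq_mul]
      ring
  have h2 := key n
  have h3 : (A.1) ^ n = 1 := by rw [← Matrix.SpecialLinearGroup.coe_pow, h, Matrix.SpecialLinearGroup.coe_one]
  rw [h3] at h2
  have h4 : (n : K) • (A.1 - 1) = 0 := by
    have := h2.symm
    rwa [add_eq_left] at this
  have h5 : A.1 - 1 = 0 := (smul_eq_zero.1 h4).resolve_left hn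
  exact h1 (Subtype.ext (sub_eq_zero.1 h5))

theorem cube_of_tc {A : _root_.Matrix.SpecialLinearGroup (Fin 2) K} (h : tc A = -1) : A ^ 3 = 1 := by
  have hc := ch A
  change A.1 * A.1 = tc A • A.1 - 1 at hc
  rw [h] at hc
  have h1 : (A.1) ^ 3 = 1 := by
    rw [pow_succ, pow_two, hc, sub_mul, smul_mul_assoc, hc, one_mul]
    ext i j
    simp
  exact Subtype.ext ((Matrix.SpecialLinearGroup.coe_pow A 3).trans h1)

theorem six_of_tc {A : _root_.Matrix.SpecialLinearGroup (Fin 2) K} (h : tc A = 1) : A ^ 6 = 1 := by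
  have hc := ch A
  change A.1 * A.1 = tc A • A.1 - 1 at hc
  rw [h, one_smul] at hc
  have h1 : (A.1) ^ 3 = -1 := by
    rw [pow_succ, pow_two, hc, sub_mul, hc, one_mul]
    abel
  have h2 : (A.1) ^ 6 = 1 := by
    rw [show 6 = 3 * 2 by norm_num, pow_mul, h1]
    simp only [_root_.even_two, _root_.Even.neg_pow, _root_.one_pow]
  exact Subtype.ext ((Matrix.SpecialLinearGroup.coe_pow A 6).trans h2)

section prime

variable {ℓ : ℕ} (hℓ : ℓ.Prime) (h5 : 5 ≤ ℓ) (h0 : (ℓ : K) ≠ 0)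

include hℓ h5 h0

/-- the traces of the elements of order `ℓ` -/
theorem tc_facts {A : _root_.Matrix.SpecialLinearGroup (Fin 2) K} (hA : orderOf A = ℓ) :
    tc A ≠ 2 ∧ tc A ≠ -2 ∧ tc A ≠ tc (A * A) ∧ tc A ≠ -tc (A * A) := by
  have hA1 : A ≠ 1 := by
    rintro rfl
    rw [orderOf_one] at hA
    omega
  have hAl : A ^ ℓ = 1 := by rw [← hA, pow_orderOf_eq_one]
  have hB : A * A ≠ 1 := by
    intro h
    have h1 : orderOf A ∣ 2 := orderOf_dvd_of_pow_eq_one (by rw [pow_two, h])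
    rw [hA] at h1
    have := Nat.le_of_dvd (by norm_num) h1
    omega
  have hBl : (A * A) ^ ℓ = 1 := by rw [← pow_two, ← pow_mul, mul_comm, pow_mul, hAl, one_pow]
  have g1 := ne_two h0 hAl hA1
  have g2 := ne_two h0 hBl hB
  rw [tc_sq] at g2
  have d3 : ¬ ℓ ∣ 6 := by
    intro h
    have := Nat.le_of_dvd (by norm_num) h
    interval_cases ℓ
    · norm_num at h
    · exact absurd hℓ (by norm_num)
  have g3 : tc A ≠ -1 := by
    intro h
    have h1 := orderOf_dvd_of_pow_eq_one (cube_of_tc h)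
    rw [hA] at h1
    exact d3 (h1.trans (by norm_num))
  have g4 : tc A ≠ 1 := by
    intro h
    have h1 := orderOf_dvd_of_pow_eq_one (six_of_tc h)
    rw [hA] at h1
    exact d3 h1
  have g5 : tc A ≠ -2 := fun h => g2 (by rw [h]; ring)
  refine ⟨g1, g5, fun h => ?_, fun h => ?_⟩
  · rw [tc_sq] at h
    have h1 : (tc A - 2) * (tc A + 1) = 0 := by linear_combination -h
    rcases mul_eq_zero.1 h1 with h2 | h2
    · exact g1 (sub_eq_zero.1 h2)
    · exact g3 (eq_neg_of_add_eq_zero_left h2)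
  · rw [tc_sq] at h
    have h1 : (tc A + 2) * (tc A - 1) = 0 := by linear_combination h
    rcases mul_eq_zero.1 h1 with h2 | h2
    · exact g5 (eq_neg_of_add_eq_zero_left h2)
    · exact g4 (sub_eq_zero.1 h2)

/-- elements with the same trace have the same order -/
theorem order_of_tc {A B : _root_.Matrix.SpecialLinearGroup (Fin 2) K} (hA : orderOf A = ℓ) (hB : tc B = tc A) : orderOf B = ℓ := by
  obtain ⟨g1, g2, -, -⟩ := tc_facts hℓ h5 h0 hA
  have key : ∀ B : _root_.Matrix.SpecialLinearGroup (Fin 2) K, tc B = tc A → ∃ P : GL (Fin 2) K, B = gc P (cm (tc A)) := by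
    intro B hB
    rw [← hB]
    refine exists_gc ?_
    rintro ⟨h1, h2, h3⟩
    have hdet : B.1 0 0 * B.1 1 1 - B.1 0 1 * B.1 1 0 = 1 := by rw [← det_fin_two]; exact B.2
    rw [h1, h2, h3, mul_zero, sub_zero] at hdet
    have h4 : (B.1 1 1 - 1) * (B.1 1 1 + 1) = 0 := by linear_combination hdet
    rw [← hB] at g1 g2
    have hB' : tc B = B.1 1 1 + B.1 1 1 := by
      change B.1 0 0 + B.1 1 1 = _
      rw [h3]
    rcases mul_eq_zero.1 h4 with h5 | h5
    · exact g1 (by rw [hB', sub_eq_zero.1 h5]; ring)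
    · exact g2 (by rw [hB', eq_neg_of_add_eq_zero_left h5]; ring)
  obtain ⟨P, hP⟩ := key A rfl
  obtain ⟨Q, hQ⟩ := key B hB
  have h1 : B ^ ℓ = 1 := by
    have h2 : gc P (cm (tc A) ^ ℓ) = 1 := by rw [gc_pow, ← hP, ← hA, pow_orderOf_eq_one]
    have h3 : cm (tc A) ^ ℓ = 1 := by
      apply Cfsg.Agent.H162.GaussSL.coe_inj
      have h4 := congrArg (fun g : _root_.Matrix.SpecialLinearGroup (Fin 2) K => (g : GL (Fin 2) K)) h2
      simp only [coe_gc, map_one] at h4
      rw [map_one]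
      have h5 : ((cm (tc A) ^ ℓ : _root_.Matrix.SpecialLinearGroup (Fin 2) K) : GL (Fin 2) K) = P⁻¹ * (P * ((cm (tc A) ^ ℓ :
        _root_.Matrix.SpecialLinearGroup (Fin 2) K) : GL (Fin 2) K) * P⁻¹) * P := by group
      rw [h5, h4]
      group
    rw [hQ, ← gc_pow, h3]
    apply Cfsg.Agent.H162.GaussSL.coe_inj
    rw [coe_gc, map_one]
    group
  have h2 : B ≠ 1 := by
    rintro rfl
    apply g1
    rw [← hB]
    change (1 : K) + 1 = 2
    norm_num
  exact orderOf_eq_prime h1 h2 (hp := ⟨hℓ⟩)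

end prime

/-! ### The conic -/

theorem exists_conic [Finite K] {α β γ : K} (h1 : α ≠ β) (h2 : α ≠ -β) :
    ∃ a b : K, a * (α - a) - b * (β + b - a * γ) = 1 := by
  by_cases hγ : γ = 2
  · have h3 : α - β ≠ 0 := sub_ne_zero.2 h1
    refine ⟨(α - β)⁻¹, (α - β)⁻¹, ?_⟩
    rw [hγ]
    field_simp
    ring
  by_cases hγ' : γ = -2
  · have h3 : α + β ≠ 0 := fun h => h2 (eq_neg_of_add_eq_zero_left h)
    refine ⟨(α + β)⁻¹, -(α + β)⁻¹, ?_⟩
    rw [hγ']
    field_simp
    ring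
  cases nonempty_fintype K
  by_cases hc : ringChar K = 2
  · have hch : CharP K 2 := by rw [← hc]; exact ringChar.charP K
    have h20 : (2 : K) = 0 := by
      have := CharP.cast_eq_zero K 2
      exact_mod_cast this
    have hγ0 : γ ≠ 0 := by rwa [h20] at hγ
    obtain ⟨b, hb⟩ := FiniteField.isSquare_of_char_two hc (β / γ * (α - β / γ) - 1)
    refine ⟨β / γ, b, ?_⟩
    have h3 : β / γ * γ = β := div_mul_cancel₀ β hγ0
    rw [h3]
    linear_combination hb
  · have h20 : (2 : K) ≠ 0 := Ring.two_ne_zero hc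
    have hodd : Fintype.card K % 2 = 1 := FiniteField.odd_card_of_char_ne_two hc
    obtain ⟨δ, rfl⟩ : ∃ δ, γ = 2 * δ := ⟨γ / 2, (mul_div_cancel₀ γ h20).symm⟩
    have hlc : 1 - δ ^ 2 ≠ 0 := by
      intro h
      have h3 : (δ - 1) * (δ + 1) = 0 := by linear_combination -h
      rcases mul_eq_zero.1 h3 with h4 | h4
      · exact hγ (by rw [sub_eq_zero.1 h4, mul_one])
      · exact hγ' (by rw [eq_neg_of_add_eq_zero_left h4]; ring)
    obtain ⟨s, b, hsb⟩ := FiniteField.exists_root_sum_quadratic (R := K)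
      (f := C 1 * X ^ 2 + C (-α) * X + C 0) (g := C (1 - δ ^ 2) * X ^ 2 + C (β - α * δ) * X + C 1)
      (degree_quadratic one_ne_zero) (degree_quadratic hlc) hodd
    refine ⟨s + δ * b, b, ?_⟩
    simp only [eval_add, eval_mul, eval_C, eval_pow, eval_X] at hsb
    linear_combination -hsb

/-- **Factorisation with given traces.** -/
theorem exists_factor [Finite K] {α β : K} (h1 : α ≠ β) (h2 : α ≠ -β) {A : _root_.Matrix.SpecialLinearGroup (Fin 2) K}
    (hA : ¬ (A.1 0 1 = 0 ∧ A.1 1 0 = 0 ∧ A.1 0 0 = A.1 1 1)) :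
    ∃ x y : _root_.Matrix.SpecialLinearGroup (Fin 2) K, A = x * y ∧ tc x = α ∧ tc y = β := by
  obtain ⟨P, hP⟩ := exists_gc hA
  obtain ⟨a, b, hab⟩ := exists_conic (γ := A.1 0 0 + A.1 1 1) h1 h2
  set γ := A.1 0 0 + A.1 1 1 with hγ
  let x₀ : _root_.Matrix.SpecialLinearGroup (Fin 2) K := ⟨!![a, b; β + b - a * γ, α - a], by rw [det_fin_two_of]; exact hab⟩
  have hx : tc x₀ = α := by
    change a + (α - a) = α
    ring
  have hy : tc (x₀⁻¹ * cm γ) = β := by
    have e : (x₀⁻¹ * cm γ).1 = !![α - a, -b; -(β + b - a * γ), a] * !![0, -1; 1, γ] := by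
      have h3 : (x₀⁻¹).1 = !![α - a, -b; -(β + b - a * γ), a] := by
        have h4 : (x₀⁻¹).1 = x₀.1.adjugate := rfl
        rw [h4, adjugate_fin_two]
        rfl
      change (x₀⁻¹).1 * (cm γ).1 = _
      rw [h3]
      rfl
    change (x₀⁻¹ * cm γ).1 0 0 + (x₀⁻¹ * cm γ).1 1 1 = β
    rw [e]
    simp only [Matrix.mul_apply, Fin.sum_univ_two, _root_.neg_sub, _root_.Fin.isValue, _root_.Matrix.of_apply, _root_.Matrix.cons_val', _root_.Matrix.cons_val_fin_one, _root_.Matrix.cons_val_zero, _root_.MulZeroClass.mul_zero, _root_.Matrix.cons_val_one, _root_.mul_one, _root_.zero_add, _root_.mul_neg, _root_.sub_add_cancel, _root_.neg_add_cancel_comm_assoc]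
  have htc : ∀ z : _root_.Matrix.SpecialLinearGroup (Fin 2) K, tc (gc P z) = tc z := by
    intro z
    have h3 : ∀ w : _root_.Matrix.SpecialLinearGroup (Fin 2) K, tc w = w.1.trace := fun w => (trace_fin_two _).symm
    rw [h3, h3]
    change (P.1 * z.1 * (P⁻¹).1).trace = _
    rw [trace_mul_comm, ← Matrix.mul_assoc]
    have h4 : (P⁻¹).1 * P.1 = 1 := by rw [← Units.val_mul, inv_mul_cancel, Units.val_one]
    rw [h4, Matrix.one_mul]
  refine ⟨gc P x₀, gc P (x₀⁻¹ * cm γ), ?_, by rw [htc, hx], by rw [htc, hy]⟩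
  rw [← gc_mul, mul_inv_cancel_left]
  exact hP

/-! ### The theorems -/

theorem exists_elt [Finite K] {ℓ : ℕ} (hℓ : ℓ.Prime) (hd : ℓ ∣ Nat.card K ^ 2 - 1) :
    ∃ g : _root_.Matrix.SpecialLinearGroup (Fin 2) K, orderOf g = ℓ := by
  cases nonempty_fintype K
  have : Fact ℓ.Prime := ⟨hℓ⟩
  have h1 : ℓ ∣ Nat.card (_root_.Matrix.SpecialLinearGroup (Fin 2) K) := by
    rw [Cfsg.Agent.ClassicalGeometry.PSL2Basic.card_SL2, ← Nat.card_eq_fintype_card]
    exact hd.mul_left _
  exact exists_prime_orderOf_dvd_card' ℓ h1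

theorem cast_ne_zero [Finite K] {ℓ : ℕ} (hℓ : ℓ.Prime) (hd : ℓ ∣ Nat.card K ^ 2 - 1) : (ℓ : K) ≠ 0 := by
  cases nonempty_fintype K
  obtain ⟨p, hp⟩ := CharP.exists K
  have hpp : p.Prime := (CharP.char_is_prime_or_zero K p).resolve_right (CharP.char_ne_zero_of_finite K p)
  have : Fact p.Prime := ⟨hpp⟩
  intro h
  rw [CharP.cast_eq_zero_iff K p] at h
  have h1 := (Nat.prime_dvd_prime_iff_eq hpp hℓ).1 h
  obtain ⟨n, -, hn⟩ := FiniteField.card K p
  rw [Nat.card_eq_fintype_card, hn, ← h1] at hd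
  have h2 : p ∣ (p ^ (n : ℕ)) ^ 2 := dvd_pow (dvd_pow_self p n.pos.ne') two_ne_zero
  have h3 : 1 ≤ (p ^ (n : ℕ)) ^ 2 := Nat.one_le_iff_ne_zero.2 (pow_ne_zero _ (pow_ne_zero _ hpp.ne_zero))
  have h4 : p ∣ 1 := by
    have := Nat.dvd_sub h2 hd
    rwa [Nat.sub_sub_self h3] at this
  exact hpp.one_lt.ne' (Nat.dvd_one.1 h4)

/-- **Products of two elements of prime order `ℓ ≥ 5`.** -/
theorem p_two_prime [Finite K] {ℓ : ℕ} (hℓ : ℓ.Prime) (h5 : 5 ≤ ℓ) (hd : ℓ ∣ Nat.card K ^ 2 - 1)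
    {A : _root_.Matrix.SpecialLinearGroup (Fin 2) K} (hA : A = 1 ∨ ¬ (A.1 0 1 = 0 ∧ A.1 1 0 = 0 ∧ A.1 0 0 = A.1 1 1)) :
    ∃ x y : _root_.Matrix.SpecialLinearGroup (Fin 2) K, A = x * y ∧ orderOf x = ℓ ∧ orderOf y = ℓ := by
  obtain ⟨g, hg⟩ := exists_elt (K := K) hℓ hd
  have h0 := cast_ne_zero (K := K) hℓ hd
  rcases hA with rfl | hA
  · exact ⟨g, g⁻¹, by rw [mul_inv_cancel], hg, by rw [orderOf_inv, hg]⟩
  · obtain ⟨-, -, h1, h2⟩ := tc_facts hℓ h5 h0 hg
    obtain ⟨x, y, e, hx, hy⟩ := exists_factor h1 h2 hA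
    have hgg : orderOf (g * g) = ℓ := by
      have hcop : (orderOf g).Coprime 2 := by
        rw [hg]
        exact (Nat.coprime_primes hℓ Nat.prime_two).2 (by omega)
      rw [← pow_two, hcop.orderOf_pow, hg]
    exact ⟨x, y, e, order_of_tc hℓ h5 h0 hg hx, order_of_tc hℓ h5 h0 hgg hy⟩

theorem nonscalar_LU {L U : _root_.Matrix.SpecialLinearGroup (Fin 2) K} (hL : L ∈ LT 2 K) (hU : U ∈ UT 2 K) :
    L * U = 1 ∨ ¬ ((L * U).1 0 1 = 0 ∧ (L * U).1 1 0 = 0 ∧ (L * U).1 0 0 = (L * U).1 1 1) := by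
  rw [mem_LT] at hL
  rw [mem_UT] at hU
  have e : (L * U).1 = !![1, U.1 0 1; L.1 1 0, 1 + L.1 1 0 * U.1 0 1] := by
    change L.1 * U.1 = _
    ext i j
    (revert i j; simp only [Matrix.mul_apply, Fin.sum_univ_two, hL.2, hU.2, hL.1 0 1 (by decide), hU.1 1 0 (by decide), add_comm, _root_.Fin.forall_fin_succ, Fin.isValue, _root_.Matrix.of_apply, _root_.Matrix.cons_val', _root_.Matrix.cons_val_fin_one, _root_.mul_one, _root_.MulZeroClass.mul_zero, _root_.zero_add, _root_.Matrix.cons_val_zero, _root_.Matrix.cons_val_succ, _root_.Fin.succ_zero_eq_one, _root_.IsEmpty.forall_iff, _root_.and_true, _root_.one_mul, _root_.and_self])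
  by_cases h : (L * U).1 0 1 = 0 ∧ (L * U).1 1 0 = 0
  · left
    apply Subtype.ext
    rw [e] at h
    change U.1 0 1 = 0 ∧ L.1 1 0 = 0 at h
    rw [e, h.1, h.2]
    ext i j
    (revert i j; simp only [_root_.Fin.forall_fin_succ, _root_.MulZeroClass.mul_zero, _root_.add_zero, _root_.Matrix.of_apply, _root_.Matrix.cons_val', _root_.Matrix.cons_val_fin_one, _root_.Matrix.SpecialLinearGroup.coe_one, Fin.isValue, _root_.Matrix.cons_val_zero, _root_.Matrix.cons_val_succ, _root_.IsEmpty.forall_iff, _root_.and_true, _root_.Matrix.one_apply_eq, Nat.reduceAdd, _root_.Fin.succ_zero_eq_one, _root_.ne_eq, _root_.zero_ne_one, _root_.not_false_eq_true, _root_.Matrix.one_apply_ne, _root_.and_self, _root_.Fin.succ_ne_zero, _root_.true_and])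
  · right
    exact fun h' => h ⟨h'.1, h'.2.1⟩

/-- a prime divisor `ℓ ≥ 5` of `q² - 1` -/
theorem exists_prime {q : ℕ} (hq : 4 ≤ q) (h : 2 ∣ q ∨ 3 ∣ q) : ∃ ℓ : ℕ, ℓ.Prime ∧ 5 ≤ ℓ ∧ ℓ ∣ q ^ 2 - 1 := by
  have key : ∀ m : ℕ, 1 < m → ¬ 2 ∣ m → ¬ 3 ∣ m → m ∣ q ^ 2 - 1 → ∃ ℓ : ℕ, ℓ.Prime ∧ 5 ≤ ℓ ∧ ℓ ∣ q ^ 2 - 1 := by
    intro m hm h2 h3 hmq
    have hp := Nat.minFac_prime (n := m) (by omega)
    refine ⟨m.minFac, hp, ?_, (Nat.minFac_dvd m).trans hmq⟩
    by_contra hlt
    have h2' := hp.two_le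
    have hd := Nat.minFac_dvd m
    have h4 : m.minFac = 2 ∨ m.minFac = 3 ∨ m.minFac = 4 := by omega
    rcases h4 with h4 | h4 | h4
    · exact h2 (h4 ▸ hd)
    · exact h3 (h4 ▸ hd)
    · rw [h4] at hp; exact absurd hp (by norm_num)
  have e : q ^ 2 - 1 = (q - 1) * (q + 1) := by
    obtain ⟨k, rfl⟩ : ∃ k, q = k + 1 := ⟨q - 1, by omega⟩
    have : (k + 1) ^ 2 = k * (k + 1 + 1) + 1 := by ring
    rw [this, Nat.add_sub_cancel, Nat.add_sub_cancel]
  by_cases hq2 : 2 ∣ q
  · by_cases h3 : 3 ∣ q - 1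
    · exact key (q + 1) (by omega) (by omega) (by omega) (by rw [e]; exact Dvd.intro_left _ rfl)
    · exact key (q - 1) (by omega) (by omega) h3 (by rw [e]; exact Dvd.intro _ rfl)
  · have hq3 : 3 ∣ q := h.resolve_left hq2
    obtain ⟨k, hk⟩ : ∃ k, q = 2 * k + 1 := ⟨q / 2, by omega⟩
    have e1 : q - 1 = 2 * k := by (clear * - hk; omega)
    have e2 : q + 1 = 2 * (k + 1) := by (clear * - hk; omega)
    by_cases hk2 : 2 ∣ k
    · exact key (k + 1) (by (clear * - hq3 hk; omega)) (by (clear * - hk2; omega)) (by (clear * - hq3 hk; omega)) (by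
        rw [e, e2]; exact Dvd.dvd.mul_left (Dvd.intro_left _ rfl) _)
    · exact key k (by (clear * - hq hk; omega)) hk2 (by (clear * - hq3 hk; omega)) (by
        rw [e, e1]; exact Dvd.dvd.mul_right (Dvd.intro_left _ rfl) _)

end Cfsg.Agent.H267.Ore.PTwo
end

-- part: H194/Pw/Six
section
prune_inst 0x60000010c0020000000510b00000200000000000230001c880010202008b0209020700080000000006220000090000000000500000000000000000000101001008000600000008400008000084000000000000000000000000000000000000000000000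
set_option linter.all false
open scoped Cfsg.Agent.FastGrp

/-!
# The Levi subgroup of type `A₄ A₁` of `E₆(q)` (S2465)

* `exists_hom_S` : the homomorphism of a block with signs;
* `phi5` : `SL₅(K) →* E₆(K)` for the nodes `1, 3, 4, 2`; `Phi` : `SL₅(K) × SL₂(K) →* E₆(K)`, with the node `6`;
* `exists_up`, `exists_lo` : `U_J`, `U_J⁻` are contained in the images of the triangular groups;
* `nf_six` : `φ(X, x)`, `X` with irreducible characteristic polynomial, `x ^ (q² - 1) = 1`, has no fixed points on `V_J`,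
  `V_J⁻` (every finite field);
* `P5 K` : every `L U` in `SL₅(K)` is a product of two elements with irreducible characteristic polynomials;
* `pairs_of_P5` : every element of `E₆(q)` is `a b` with `a ^ N = b ^ N = 1`, `N = (1 + q + q² + q³ + q⁴) k`,
  if every `L U` in `SL₂(K)` is `x y`, `x ^ k = y ^ k = 1`, `k ∣ q² - 1`;
* `six_E6_of` : the row, `q ≥ 4`, a power of `2` or `3`.
-/

set_option autoImplicit false
set_option linter.unusedSectionVars false

namespace Cfsg.Agent.H194.Pw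

open CoxeterSystem Cfsg.Agent.ChevalleyStructure.CoxeterGeom Cfsg.Agent.Tits.Roots Cfsg.Agent.Tits.Core
  Cfsg.Agent.Nodes.Reps Cfsg.Agent.Nodes.BNOf Cfsg.Agent.Nodes.RGDLib Cfsg.Agent.Nodes.Bruhat
  Cfsg.Agent.Nodes.OppDec Cfsg.Agent.Nodes.LeviDec Cfsg.Agent.Nodes.KindChev Cfsg.Agent.Nodes.ChevCls
  Cfsg.Agent.OddHalf.NI.ModelChev Cfsg.Agent.Nodes.StabComb
  Cfsg.Agent.H162.GaussDec Cfsg.Agent.H162.GaussLevi Cfsg.Agent.H162.GaussSL Cfsg.Agent.H162.GaussReg
  Cfsg.Agent.H162.GaussPQ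
  Cfsg.Agent.H928.Ore.Frame
open Cfsg.Lie Cfsg.Agent.ChevalleyStructure Cfsg.Agent.ChevalleyStructure.Elts
  Cfsg.Agent.ChevalleyStructure.RootVec Cfsg.Agent.ChevalleyStructure.NPerm
  Cfsg.Agent.ChevalleyStructure.CoxeterGeomTypes Cfsg.Agent.Nodes.RGDChev Cfsg.Agent.KFacts.RgdChevCoord
open Cfsg.Agent.FixBN.FieldRGD (uu vv dd ww)
open Cfsg.Agent.TitsThree.KExcRT Cfsg.Agent.AGraded
open Cfsg.Agent.H482.Ore.Fix (Bk SimpB wt NF.of_pow nf_block')
open Cfsg.Agent.H150.E6T (hp6 Cm cs6 commute_hom commute_two tv01 tv10 le_of_gen le_of_gen_two X_le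
  vec36 vec35 f f5_uu f5_vv lt56)
open Cfsg.Agent.H78.Pw Cfsg.Agent.H85.Pw
open Cfsg.Agent.H162.GaussExc (coord)
open scoped MatrixGroups

universe u

/-! ### The homomorphism of a block with signs -/

section

variable {D : ChevalleyDatum} {l : ℕ} {M : CoxeterMatrix (Fin l)} (hp : IsType D l M) {K : Type u} [Field K]

include hp in
/-- a block of type `A_{n+2}` with signs -/
theorem exists_hom_S {n : ℕ} {r : Fin (n + 3) → Fin (n + 3) → ℕ} {s : Fin (n + 3) → Fin (n + 3) → ℤ}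
    (ha : RTa D r) (hb : RTb D r s) (hc : RTc D r) (hd : RTd s) (hs : ∀ i j, s j i = s i j)
    (hneg : ∀ i j, i ≠ j → r j i = D.neg (r i j)) :
    ∃ φ : Matrix.SpecialLinearGroup (Fin (n + 3)) K →* ↥(D.group K), ∀ a b (hab : a ≠ b) c,
      φ (Matrix.SpecialLinearGroup.transvection hab c) = xc hp (vec D l (r a b)) ((s a b : K) * c) := by
  let X : Fin (n + 3) → Fin (n + 3) → K → ↥(D.group K) := fun a b c =>
    ⟨xG hp.inList (r a b) ((s a b : K) * c), xG_mem_group hp.inList _ _⟩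
  have hX : ∀ a b, a ≠ b → ∀ c, X a b c = xc hp (vec D l (r a b)) ((s a b : K) * c) := by
    intro a b hab c
    apply Subtype.ext
    rw [coe_xc hp (ha a b hab)]
  have hS := stein (F := K) hp.inList (r := r) (s := s) ha hb hc hd
  have hSt : SteinRel X := by
    refine ⟨?_, ?_, ?_⟩
    · intro i j hij a b
      apply Subtype.ext
      exact hS.add i j hij a b
    · intro i j k l hij hkl hjk hil a b
      apply Subtype.ext
      exact hS.comm i j k l hij hkl hjk hil a b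
    · intro i j k hij hjk hik a b
      apply Subtype.ext
      exact hS.br i j k hij hjk hik a b
  have hH : CTFrame.Torus.HRel X := by
    intro i j hij
    obtain ⟨ε, hεd⟩ : ∃ ε, ε = s i j := ⟨_, rfl⟩
    have hεK : (ε : K) * (ε : K) = 1 := by rw [hεd, ← Int.cast_mul, hd, Int.cast_one]
    have hε0 : (ε : K) ≠ 0 := left_ne_zero_of_mul_eq_one hεK
    obtain ⟨f, hf1, hf2, -, -, -⟩ := exists_sl hp (K := K) (ha i j hij)
    have e1 : ∀ c, X i j c = f (uu ((ε : K) * c)) := by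
      intro c
      rw [hf1, hX i j hij, hεd]
    have e2 : ∀ c, X j i c = f (vv ((ε : K) * c)) := by
      intro c
      rw [hf2, hX j i hij.symm, hneg i j hij, vec_neg hp (ha i j hij), hs, hεd]
    have e3 : ∀ u : K, (hu : u ≠ 0) → CTFrame.Weyl.t X i j u = f (_root_.Cfsg.Agent.FixBN.FieldRGD.dd u hu) := by
      intro u hu
      unfold CTFrame.Weyl.t CTFrame.Weyl.w
      rw [e1, e1, e2, e2, ← map_mul, ← map_mul, ← map_mul, ← map_mul, ← map_mul]
      congr 1
      apply Subtype.ext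
      change (!![1, (ε : K) * u; 0, 1] * !![1, 0; (ε : K) * -u⁻¹, 1] * !![1, (ε : K) * u; 0, 1]) *
        (!![1, (ε : K) * -1; 0, 1] * !![1, 0; (ε : K) * -(-1)⁻¹, 1] * !![1, (ε : K) * -1; 0, 1]) = !![u, 0; 0, u⁻¹]
      have g1 : (!![1, (ε : K) * u; 0, 1] * !![1, 0; (ε : K) * -u⁻¹, 1] * !![1, (ε : K) * u; 0, 1] :
          Matrix (Fin 2) (Fin 2) K) = !![0, (ε : K) * u; (ε : K) * -u⁻¹, 0] := by
        have g2 : (ε : K) * u * ((ε : K) * u⁻¹) = 1 := by
          rw [mul_mul_mul_comm, hεK, mul_inv_cancel₀ hu, one_mul]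
        rw [Matrix.mul_fin_two, Matrix.mul_fin_two]
        have g3 : (ε : K) * u⁻¹ * ((ε : K) * u) = 1 := by
          rw [mul_mul_mul_comm, hεK, inv_mul_cancel₀ hu, one_mul]
        ext a b
        fin_cases a <;> fin_cases b
        · simp only [g2, _root_.mul_one, _root_.mul_neg, _root_.add_neg_cancel, _root_.MulZeroClass.mul_zero, _root_.zero_add, _root_.add_zero, _root_.MulZeroClass.zero_mul, _root_.one_mul, _root_.neg_mul, _root_.Fin.zero_eta, _root_.Fin.isValue, _root_.Matrix.of_apply, _root_.Matrix.cons_val', _root_.Matrix.cons_val_zero, _root_.Matrix.cons_val_fin_one]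
        · simp only [g2, _root_.mul_one, _root_.mul_neg, _root_.add_neg_cancel, _root_.MulZeroClass.mul_zero, _root_.zero_add, _root_.add_zero, _root_.MulZeroClass.zero_mul, _root_.one_mul, _root_.neg_mul, _root_.Fin.zero_eta, _root_.Fin.isValue, _root_.Fin.mk_one, _root_.Matrix.of_apply, _root_.Matrix.cons_val', _root_.Matrix.cons_val_one, _root_.Matrix.cons_val_fin_one, _root_.Matrix.cons_val_zero]
        · simp only [_root_.mul_one, _root_.mul_neg, _root_.MulZeroClass.mul_zero, _root_.zero_add, _root_.add_zero, _root_.one_mul, _root_.neg_mul, _root_.Fin.mk_one, _root_.Fin.isValue, _root_.Fin.zero_eta, _root_.Matrix.of_apply, _root_.Matrix.cons_val', _root_.Matrix.cons_val_zero, _root_.Matrix.cons_val_fin_one, _root_.Matrix.cons_val_one]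
        · simp only [g3, _root_.mul_one, _root_.mul_neg, _root_.MulZeroClass.mul_zero, _root_.zero_add, _root_.add_zero, _root_.one_mul, _root_.neg_mul, _root_.neg_add_cancel, _root_.Fin.mk_one, _root_.Fin.isValue, _root_.Matrix.of_apply, _root_.Matrix.cons_val', _root_.Matrix.cons_val_one, _root_.Matrix.cons_val_fin_one]
      have g1' : (!![1, (ε : K) * -1; 0, 1] * !![1, 0; (ε : K) * -(-1)⁻¹, 1] * !![1, (ε : K) * -1; 0, 1] :
          Matrix (Fin 2) (Fin 2) K) = !![0, -(ε : K); (ε : K), 0] := by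
        rw [Matrix.mul_fin_two, Matrix.mul_fin_two]
        ext a b
        fin_cases a <;> fin_cases b
        · simp [hεK]
        · simp [hεK]
        · simp
        · simp [hεK]
      rw [g1, g1', Matrix.mul_fin_two]
      ext a b
      fin_cases a <;> fin_cases b
      · simp only [_root_.MulZeroClass.mul_zero, _root_.zero_add, _root_.mul_neg, _root_.MulZeroClass.zero_mul, _root_.neg_zero, _root_.add_zero, _root_.neg_mul, _root_.neg_neg, _root_.Fin.zero_eta, _root_.Fin.isValue, _root_.Matrix.of_apply, _root_.Matrix.cons_val', _root_.Matrix.cons_val_zero, _root_.Matrix.cons_val_fin_one]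
        rw [mul_right_comm, hεK, one_mul]
      · simp
      · simp
      · simp only [_root_.MulZeroClass.mul_zero, _root_.zero_add, _root_.mul_neg, _root_.MulZeroClass.zero_mul, _root_.neg_zero, _root_.add_zero, _root_.neg_mul, _root_.neg_neg, _root_.Fin.mk_one, _root_.Fin.isValue, _root_.Matrix.of_apply, _root_.Matrix.cons_val', _root_.Matrix.cons_val_one, _root_.Matrix.cons_val_fin_one]
        rw [mul_right_comm, hεK, one_mul]
    intro a b ha0 hb0
    rw [e3 a ha0, e3 b hb0, e3 (a * b) (mul_ne_zero ha0 hb0), ← map_mul]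
    congr 1
    apply Subtype.ext
    change !![a, 0; 0, a⁻¹] * !![b, 0; 0, b⁻¹] = !![a * b, 0; 0, (a * b)⁻¹]
    rw [Matrix.mul_fin_two, mul_inv]
    simp
  obtain ⟨φ, hφ, -⟩ := CTFrame.Hom.exists_hom hSt hH (by simp)
  exact ⟨φ, fun a b hab c => by rw [hφ a b hab c, hX a b hab]⟩

end

/-! ### The products of the eigenvalues -/

section Eig

variable {K : Type u} {K' : Type u} [Field K] [Finite K] [Field K'] {i : K →+* K'} {g : Polynomial K} {z : K'}

theorem Spec.add_mul (S : Spec i 5 g z) (a : ℕ) : z ^ Nat.card K ^ (a + 5) = z ^ Nat.card K ^ a := by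
  rw [add_comm, pow_add, pow_mul, S.fix]

theorem Spec.mod (S : Spec i 5 g z) (a : ℕ) : z ^ Nat.card K ^ a = z ^ Nat.card K ^ (a % 5) := by
  have h : ∀ k b : ℕ, z ^ Nat.card K ^ (b + 5 * k) = z ^ Nat.card K ^ b := by
    intro k
    induction k with
    | zero => intro b; rfl
    | succ k ih => intro b; rw [Nat.mul_succ, ← add_assoc, S.add_mul, ih]
  conv_lhs => rw [← Nat.mod_add_div a 5]
  rw [h]

theorem Spec.eq_iff (S : Spec i 5 g z) {a b : ℕ} (h : z ^ Nat.card K ^ a = z ^ Nat.card K ^ b) : a % 5 = b % 5 := by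
  rw [S.mod a, S.mod b] at h
  have h1 := @S.inj ⟨a % 5, Nat.mod_lt _ (by norm_num)⟩ ⟨b % 5, Nat.mod_lt _ (by norm_num)⟩ h
  exact congrArg Fin.val h1

/-- fixed by two powers of the Frobenius map -/
theorem pow_q {w : K'} (h5 : w ^ Nat.card K ^ 5 = w)
    (h2 : w ^ (Nat.card K ^ 2 - 1) = 1) : w ^ Nat.card K = w := by
  have hq : 1 ≤ Nat.card K ^ 2 := Nat.one_le_pow _ _ Nat.card_pos
  have h3 : w ^ Nat.card K ^ 2 = w := by
    conv_lhs => rw [← Nat.sub_add_cancel hq, pow_succ, h2, one_mul]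
  have h4 : w ^ Nat.card K ^ 4 = w := by
    rw [show 4 = 2 + 2 by norm_num, pow_add, pow_mul, h3, h3]
  rw [show 5 = 4 + 1 by norm_num, pow_add, pow_mul, h4, pow_one] at h5
  exact h5

theorem Spec.pow_five (S : Spec i 5 g z) (a : ℕ) : (z ^ Nat.card K ^ a) ^ Nat.card K ^ 5 = z ^ Nat.card K ^ a := by
  rw [← pow_mul, ← pow_add, S.add_mul]

theorem Spec.z0 (S : Spec i 5 g z) : z ≠ 0 := S.ne_zero (by norm_num) Nat.card_pos

theorem Spec.one_ne (S : Spec i 5 g z) (a : ℕ) : (z ^ Nat.card K ^ a) ^ (Nat.card K ^ 2 - 1) ≠ 1 := by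
  intro h
  have h1 := pow_q (S.pow_five a) h
  rw [← pow_mul, ← pow_succ] at h1
  have := S.eq_iff h1
  omega

theorem Spec.two_ne (S : Spec i 5 g z) {a b : ℕ} (hab : a < b) (hb : b < 5) :
    (z ^ Nat.card K ^ a * z ^ Nat.card K ^ b) ^ (Nat.card K ^ 2 - 1) ≠ 1 := by
  intro h
  obtain ⟨d, hd⟩ : ∃ d, b = a + d := ⟨b - a, by omega⟩
  obtain ⟨w, hw⟩ : ∃ w, w = z ^ Nat.card K ^ a * z ^ Nat.card K ^ b := ⟨_, rfl⟩
  rw [← hw] at h
  have h1 := pow_q (w := w) (by rw [hw, mul_pow, S.pow_five, S.pow_five]) h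
  have h2 : ∀ k : ℕ, w ^ Nat.card K ^ k = w := by
    intro k
    induction k with
    | zero => rw [pow_zero, pow_one]
    | succ k ih => rw [pow_succ, pow_mul, ih, h1]
  have h3 := h2 d
  have h5 : z ^ Nat.card K ^ b * z ^ Nat.card K ^ (b + d) = z ^ Nat.card K ^ b * z ^ Nat.card K ^ a := by
    calc z ^ Nat.card K ^ b * z ^ Nat.card K ^ (b + d)
        = (z ^ Nat.card K ^ a) ^ Nat.card K ^ d * (z ^ Nat.card K ^ b) ^ Nat.card K ^ d := by
          rw [← pow_mul z (Nat.card K ^ a), ← pow_mul z (Nat.card K ^ b), ← pow_add (Nat.card K) a,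
            ← pow_add (Nat.card K) b, ← hd]
      _ = w := by rw [← mul_pow, ← hw, h3]
      _ = _ := by rw [hw, mul_comm]
  have := S.eq_iff (mul_left_cancel₀ (pow_ne_zero _ S.z0) h5)
  omega

end Eig

/-! ### The tables -/

/-- the nodes of the Levi subgroup -/
def J5 : List (Fin 6) := [0, 1, 2, 3, 5]

/-- the roots of the block -/
def r5 : Fin 5 → Fin 5 → ℕ :=
  ![![0, 56, 57, 58, 61], ![15, 0, 42, 43, 50], ![14, 29, 0, 39, 47], ![13, 28, 32, 0, 46], ![10, 21, 24, 25, 0]]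

/-- the signs of the block -/
def s5 : Fin 5 → Fin 5 → ℤ :=
  ![![1, 1, -1, 1, -1], ![1, 1, 1, -1, 1], ![-1, 1, 1, 1, 1], ![1, -1, 1, 1, 1], ![-1, 1, 1, 1, 1]]

/-- the nodes of the block -/
def j5 : Fin 4 → Fin 6 := ![0, 2, 3, 1]

theorem rt5 : RTa chevE6 r5 ∧ RTb chevE6 r5 s5 ∧ RTc chevE6 r5 ∧ RTd s5 ∧ (∀ i j, s5 j i = s5 i j) ∧
    ∀ i j, i ≠ j → r5 j i = chevE6.neg (r5 i j) := by decide +kernel

theorem simp5 : (∀ a : Fin 4, r5 a.castSucc a.succ = chevE6.simple (j5 a)) ∧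
    ∀ a : Fin 4, r5 a.succ a.castSucc = chevE6.neg (chevE6.simple (j5 a)) := by decide +kernel

theorem r5_J : ∀ a b : Fin 5, a ≠ b → ∀ k : Fin 6, k ∉ J5 → vec chevE6 6 (r5 a b) k = 0 := by decide +kernel

theorem cm5 : ∀ a b : Fin 5, a ≠ b → Cm chevE6 (r5 a b) 36 ∧ Cm chevE6 (r5 a b) 35 := by decide +kernel

theorem sub5 : ∀ q < chevE6.nroots, (∀ k : Fin 6, k ∉ J5 → vec chevE6 6 q k = 0) →
    (∃ a b : Fin 5, a ≠ b ∧ r5 a b = q ∧ (a < b → ∃ k, 0 < vec chevE6 6 q k) ∧ (b < a → ∃ k, vec chevE6 6 q k < 0)) ∨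
      q = 36 ∨ q = 35 := by
  intro q hq
  revert q
  refine @of_decide_eq_true _ ?_ ?_
  · refine @Nat.decidableBallLT _ _ fun q _ => ?_
    refine @instDecidableForall _ _ inferInstance ?_
    refine @instDecidableOr _ _ ?_ inferInstance
    refine @Fintype.decidableExistsFintype _ _ (fun a => ?_) _
    refine @Fintype.decidableExistsFintype _ _ (fun b => ?_) _
    infer_instance
  · decide +kernel

/-- the indicator of `{a, b}` -/
def ind (a b k : Fin 5) : ℤ := if k = a ∨ k = b then 1 else 0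

theorem out5 : ∀ q < chevE6.nroots, (∃ k : Fin 6, k ∉ J5 ∧ vec chevE6 6 q k ≠ 0) →
    ∃ a b : Fin 5, a ≤ b ∧ ((∀ k, wt chevE6 j5 q k = ind a b k - ind a b 4) ∨
      ∀ k, wt chevE6 j5 q k = -ind a b k + ind a b 4) := by
  intro q hq
  revert q
  refine @of_decide_eq_true _ ?_ ?_
  · refine @Nat.decidableBallLT _ _ fun q _ => ?_
    refine @instDecidableForall _ _ inferInstance ?_
    refine @Fintype.decidableExistsFintype _ _ (fun a => ?_) _
    refine @Fintype.decidableExistsFintype _ _ (fun b => ?_) _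
    infer_instance
  · decide +kernel

/-! ### The homomorphisms -/

section Hom

theorem exists_phi5 (K : Type u) [Field K] : ∃ φ : Matrix.SpecialLinearGroup (Fin 5) K →* ↥(chevE6.group K),
    ∀ a b (hab : a ≠ b) c, φ (Matrix.SpecialLinearGroup.transvection hab c) =
      xc hp6 (vec chevE6 6 (r5 a b)) ((s5 a b : K) * c) :=
  exists_hom_S hp6 rt5.1 rt5.2.1 rt5.2.2.1 rt5.2.2.2.1 rt5.2.2.2.2.1 rt5.2.2.2.2.2

variable (K : Type u) [Field K]

/-- the block of the nodes `1, 3, 4, 2` -/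
noncomputable def phi5 : Matrix.SpecialLinearGroup (Fin 5) K →* ↥(chevE6.group K) := (exists_phi5 K).choose

theorem phi5_tv (a b : Fin 5) (hab : a ≠ b) (c : K) :
    phi5 K (Matrix.SpecialLinearGroup.transvection hab c) = xc hp6 (vec chevE6 6 (r5 a b)) ((s5 a b : K) * c) :=
  (exists_phi5 K).choose_spec a b hab c

theorem comm5 (A : Matrix.SpecialLinearGroup (Fin 5) K) (B : SL(2, K)) : Commute (phi5 K A) (f K 5 B) := by
  refine commute_hom _ _ (fun a b hab c => (commute_two _ _ (fun d => ?_) (fun d => ?_) B).symm) A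
  · rw [f5_uu, phi5_tv]; exact ((cm5 a b hab).1.commute _ d).symm
  · rw [f5_vv, phi5_tv]; exact ((cm5 a b hab).2.commute _ d).symm

/-- the homomorphism onto the Levi subgroup -/
noncomputable def Phi5 : Matrix.SpecialLinearGroup (Fin 5) K × SL(2, K) →* ↥(chevE6.group K) :=
  (phi5 K).noncommCoprod (f K 5) (comm5 K)

theorem Phi5_apply (A : Matrix.SpecialLinearGroup (Fin 5) K) (B : SL(2, K)) :
    Phi5 K (A, B) = phi5 K A * f K 5 B := rfl

theorem Phi5_A (A : Matrix.SpecialLinearGroup (Fin 5) K) : Phi5 K (A, 1) = phi5 K A := by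
  rw [Phi5_apply, map_one, mul_one]

theorem Phi5_B (B : SL(2, K)) : Phi5 K (1, B) = f K 5 B := by
  rw [Phi5_apply, map_one, one_mul]

variable {K}

theorem XJ_le {q : ℕ} (hq : q < chevE6.nroots) (hJ : ∀ k : Fin 6, k ∉ J5 → vec chevE6 6 q k = 0) (c : K) :
    xc hp6 (vec chevE6 6 q) c ∈ LJ cs6 hp6.isCartan (TT chevE6 K) (XX chevE6 6 K) {k | k ∈ J5} :=
  X_le_LJ (J := {k | k ∈ J5}) (x := vec chevE6 6 q) ⟨isRoot_vec hp6 _ hq, hJ⟩ ((mem_XX hp6 hq _).2 ⟨_, rfl⟩)

theorem phi5_mem (A : Matrix.SpecialLinearGroup (Fin 5) K) :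
    phi5 K A ∈ LJ cs6 hp6.isCartan (TT chevE6 K) (XX chevE6 6 K) {k | k ∈ J5} :=
  le_of_gen _ _ (fun a b hab c => by rw [phi5_tv]; exact XJ_le (rt5.1 a b hab) (r5_J a b hab) _) A

theorem s5_sq (a b : Fin 5) (c : K) : ((s5 a b : ℤ) : K) * (((s5 a b : ℤ) : K) * c) = c := by
  rw [← mul_assoc, ← Int.cast_mul, rt5.2.2.2.1 a b, Int.cast_one, one_mul]

theorem exists_up {u : ↥(chevE6.group K)} (hu : u ∈ UJ cs6 hp6.isCartan (XX chevE6 6 K) {k | k ∈ J5}) :
    ∃ U ∈ UT 5 K, ∃ B ∈ UT 2 K, Phi5 K (U, B) = u := by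
  have h1 : UJ cs6 hp6.isCartan (XX chevE6 6 K) {k | k ∈ J5} ≤ ((UT 5 K).prod (UT 2 K)).map (Phi5 K) := by
    refine RGD.Sup_le fun x hx => ?_
    obtain ⟨q, hq, rfl⟩ := (isRoot_iff hp6 _ x).1 hx.1
    intro y hy
    obtain ⟨c, rfl⟩ := (mem_XX hp6 hq y).1 hy
    have hneg : ∀ k, ¬ vec chevE6 6 q k < 0 := fun k => not_lt.2 (hx.2.1 k)
    rcases sub5 q hq hx.2.2 with ⟨a, b, hab, rfl, h1, h2⟩ | rfl | rfl
    · have hlt : a < b := by
        rcases lt_or_gt_of_ne hab with h | h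
        · exact h
        · obtain ⟨k, hk⟩ := h2 h
          exact absurd hk (hneg k)
      refine ⟨(Matrix.SpecialLinearGroup.transvection hab (((s5 a b : ℤ) : K) * c), 1),
        ⟨tv_mem_UT hab hlt _, one_mem _⟩, ?_⟩
      rw [Phi5_A, phi5_tv, s5_sq]
    · refine ⟨(1, uu c), ⟨one_mem _, ?_⟩, ?_⟩
      · rw [← tv01]; exact tv_mem_UT (show (0 : Fin 2) ≠ 1 by decide) (by decide) _
      · rw [Phi5_B, f5_uu]
    · exact absurd (show vec chevE6 6 35 5 < 0 by decide +kernel) (hneg 5)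
  obtain ⟨⟨U, B⟩, ⟨hU, hB⟩, e⟩ := h1 hu
  exact ⟨U, hU, B, hB, e⟩

/-! ### Fixed points -/

theorem prod_ind {F : Type*} [Field F] (lam : Fin 5 → F) (a b : Fin 5) :
    ∏ k, lam k ^ ind a b k = if a = b then lam a else lam a * lam b := by
  rw [Fin.prod_univ_five]
  (revert a b; simp only [ind, _root_.Fin.forall_fin_succ, Fin.isValue, _root_.pow_ite, _root_.zpow_ofNat, _root_.pow_one, _root_.pow_zero, _root_.mul_ite, _root_.ite_mul, _root_.one_mul, _root_.mul_one, Fin.reduceEq, _root_.or_false, _root_.one_ne_zero, _root_.or_true, ↓reduceIte, _root_.Fin.succ_zero_eq_one, _root_.zero_ne_one, _root_.Fin.succ_one_eq_two, Fin.reduceSucc, _root_.IsEmpty.forall_iff, _root_.and_true, _root_.and_self, _root_.Fin.succ_ne_zero, _root_.true_and]) <;> (repeat' with_reducible apply And.intro) <;> ring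

theorem prod_wt {F : Type*} [Field F] {lam : Fin 5 → F} (h0 : ∀ k, lam k ≠ 0) (h1 : ∏ k, lam k = 1) {a b : Fin 5}
    {w : Fin 5 → ℤ} {c : ℤ} (hw : ∀ k, w k = ind a b k - c) :
    ∏ k, lam k ^ w k = if a = b then lam a else lam a * lam b := by
  rw [← prod_ind]
  have h2 : ∀ k, lam k ^ w k = lam k ^ ind a b k * lam k ^ (-c) := fun k => by
    rw [hw, sub_eq_add_neg, zpow_add₀ (h0 k)]
  rw [Finset.prod_congr rfl fun k _ => h2 k, Finset.prod_mul_distrib, Finset.prod_zpow, h1, one_zpow, mul_one]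

/-- **No fixed points.** -/
theorem nf_six [Finite K] {X : Matrix.SpecialLinearGroup (Fin 5) K}
    (hX : Irreducible (X : Matrix (Fin 5) (Fin 5) K).charpoly) {x : SL(2, K)} (hx : x ^ (Nat.card K ^ 2 - 1) = 1) :
    NF (VJ cs6 hp6.isCartan (XX chevE6 6 K) {k | k ∈ J5}) (Phi5 K (X, x)) ∧
      NF (VNJ cs6 hp6.isCartan (XX chevE6 6 K) {k | k ∈ J5}) (Phi5 K (X, x)) := by
  obtain ⟨N, hN⟩ : ∃ N, N = Nat.card K ^ 2 - 1 := ⟨_, rfl⟩
  rw [← hN] at hx
  have e1 : Phi5 K (X, x) ^ N = phi5 K (X ^ N) := by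
    rw [← map_pow, Prod.pow_mk, hx, Phi5_A]
  suffices h : NF (VJ cs6 hp6.isCartan (XX chevE6 6 K) {k | k ∈ J5}) (phi5 K (X ^ N)) ∧
      NF (VNJ cs6 hp6.isCartan (XX chevE6 6 K) {k | k ∈ J5}) (phi5 K (X ^ N)) by
    rw [← e1] at h
    exact ⟨NF.of_pow N h.1, NF.of_pow N h.2⟩
  obtain ⟨K', _, _, i, z, S⟩ := exists_spec hX
  obtain ⟨ch, hch⟩ := CharP.exists K'
  have : Fact ch.Prime := ⟨(CharP.char_is_prime_or_zero K' ch).resolve_right (CharP.char_ne_zero_of_finite K' ch)⟩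
  have B : Bk hp6 i {k | k ∈ J5} 3 r5 j5 (phi5 K) (phi5 K') (fun a b => ((s5 a b : ℤ) : K)) :=
    { simp := ⟨simp5.1, simp5.2⟩
      rlt := rt5.1
      rJ := r5_J
      hφ := phi5_tv K
      hφ' := fun a b hab c => by rw [phi5_tv, map_intCast]
      ss := fun a => by
        rw [rt5.2.2.2.2.1 a.castSucc a.succ, ← Int.cast_mul, rt5.2.2.2.1, Int.cast_one] }
  obtain ⟨g, hg⟩ := Cfsg.Agent.H934.MF.diag_map i (X : Matrix (Fin 5) (Fin 5) K) S.inj S.split
  obtain ⟨lam, hlam⟩ : ∃ lam : Fin 5 → K', lam = fun a : Fin 5 => z ^ Nat.card K ^ (a : ℕ) := ⟨_, rfl⟩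
  rw [← hlam] at hg
  have hg' : ((X ^ N : Matrix.SpecialLinearGroup (Fin 5) K) : Matrix (Fin 5) (Fin 5) K).map i =
      (g : Matrix (Fin 5) (Fin 5) K') * Matrix.diagonal (lam ^ N) * ((g⁻¹ : GL (Fin 5) K') : Matrix (Fin 5) (Fin 5) K') := by
    have h1 : ((X ^ N : Matrix.SpecialLinearGroup (Fin 5) K) : Matrix (Fin 5) (Fin 5) K) = X.1 ^ N :=
      Matrix.SpecialLinearGroup.coe_pow X N
    have h2 : (X.1 ^ N).map i = (X.1.map i) ^ N := map_pow i.mapMatrix X.1 N
    rw [h1, h2, hg, conj_pow', Matrix.diagonal_pow]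
  have hl0 : ∀ k, (lam ^ N) k ≠ 0 := fun k => by
    rw [Pi.pow_apply, hlam]
    exact pow_ne_zero _ (pow_ne_zero _ S.z0)
  have hl1 : ∏ k, (lam ^ N) k = 1 := by
    have h2 : ∏ k, lam k = 1 := by
      rw [hlam, Finset.prod_pow_eq_pow_sum, Fin.sum_univ_eq_sum_range (fun a => Nat.card K ^ a) 5]
      exact S.norm
    simp only [Pi.pow_apply]
    rw [Finset.prod_pow, h2, one_pow]
  have hne : ∀ a b : Fin 5, a ≤ b → (if a = b then (lam ^ N) a else (lam ^ N) a * (lam ^ N) b) ≠ 1 := by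
    intro a b hab
    split_ifs with h
    · rw [Pi.pow_apply, hlam, hN]
      exact S.one_ne _
    · rw [Pi.pow_apply, Pi.pow_apply, ← mul_pow, hlam, hN]
      exact S.two_ne (lt_of_le_of_ne hab fun h' => h (Fin.ext h')) b.2
  refine nf_block' hp6 ch B hg' fun q hq hk => ?_
  obtain ⟨a, b, hab, h | h⟩ := out5 q hq hk
  · rw [prod_wt hl0 hl1 h]
    exact hne a b hab
  · have h1 : ∏ k, (lam ^ N) k ^ (-wt chevE6 j5 q k) = if a = b then (lam ^ N) a else (lam ^ N) a * (lam ^ N) b :=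
      prod_wt (c := ind a b 4) hl0 hl1 fun k => by rw [h]; ring
    intro h2
    apply hne a b hab
    rw [← h1]
    simp only [zpow_neg]
    rw [Finset.prod_inv_distrib, h2, inv_one]

end Hom

/-! ### The row -/

/-- `1 + q + q² + q³ + q⁴` is prime to `6` -/
theorem sum5_coprime (q : ℕ) : (∑ a ∈ Finset.range 5, q ^ a).Coprime 6 := by
  have h : ∀ k : ℕ, (∑ a ∈ Finset.range 5, q ^ a) % k = (∑ a ∈ Finset.range 5, (q % k) ^ a) % k := by
    intro k
    rw [Finset.sum_nat_mod, Finset.sum_nat_mod (s := Finset.range 5) (f := fun a => (q % k) ^ a)]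
    congr 1
    refine Finset.sum_congr rfl fun a _ => ?_
    exact (Nat.pow_mod q a k)
  have h2 : (∑ a ∈ Finset.range 5, q ^ a) % 2 = 1 := by
    rw [h 2]
    have : q % 2 < 2 := Nat.mod_lt _ (by norm_num)
    interval_cases q % 2 <;> decide
  have h3 : (∑ a ∈ Finset.range 5, q ^ a) % 3 ≠ 0 := by
    rw [h 3]
    have : q % 3 < 3 := Nat.mod_lt _ (by norm_num)
    interval_cases q % 3 <;> decide
  have e : (6 : ℕ) = 2 * 3 := by norm_num
  rw [e]
  refine Nat.Coprime.mul_right ?_ ?_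
  · rw [Nat.coprime_comm, Nat.Prime.coprime_iff_not_dvd Nat.prime_two]
    omega
  · rw [Nat.coprime_comm, Nat.Prime.coprime_iff_not_dvd Nat.prime_three]
    omega

end Cfsg.Agent.H194.Pw

private theorem dce_c45851ba8b1c : _root_.True := by
  try have : _root_.True := by simp only [_root_.Cfsg.Agent.H194.Pw.ind.eq_1]
  exact _root_.True.intro
end

-- part: H122/Pw/Pc
section
prune_inst 0x6034241000020000180510b000382080000002006b8000c8e003020240094220030f0118600010007622400048800000000050401000000a00000000010120900a100490080104060008000084000000000000000000000000000000000000000000000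
set_option linter.all false
open scoped Cfsg.Agent.FastGrp

/-!
# Levi subgroups with several blocks (helper122, S2465, `E_8(3)`, `E_8(4)`, `E_8(9)`)

* `Pc` : a homomorphism onto a product of blocks of a Levi subgroup, with triangular subgroups (`Pc.prod`, `Pc.block`);
* `Pc.pairs` : every element of `D.group K` is `a b`, `a ^ N = b ^ N = 1`, if this holds for the products of a lower and an
  upper triangular element of the blocks, with factors without fixed points on `V_J`, `V_J⁻`;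
* `exists_common` : a common splitting field; `spec_of_root` : the spectrum in a given field.
-/

set_option autoImplicit false
set_option linter.unusedSectionVars false

namespace Cfsg.Agent.H122.Pw

open CoxeterSystem Cfsg.Agent.ChevalleyStructure.CoxeterGeom Cfsg.Agent.Tits.Roots Cfsg.Agent.Tits.Core
  Cfsg.Agent.Nodes.Reps Cfsg.Agent.Nodes.BNOf Cfsg.Agent.Nodes.RGDLib Cfsg.Agent.Nodes.Bruhat
  Cfsg.Agent.Nodes.OppDec Cfsg.Agent.Nodes.LeviDec Cfsg.Agent.Nodes.KindChev Cfsg.Agent.Nodes.ChevCls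
  Cfsg.Agent.OddHalf.NI.ModelChev Cfsg.Agent.Nodes.StabComb
  Cfsg.Agent.H162.GaussDec Cfsg.Agent.H162.GaussLevi Cfsg.Agent.H162.GaussSL Cfsg.Agent.H162.GaussReg
  Cfsg.Agent.H162.GaussPQ
  Cfsg.Agent.H928.Ore.Frame
open Cfsg.Lie Cfsg.Agent.ChevalleyStructure Cfsg.Agent.ChevalleyStructure.Elts
  Cfsg.Agent.ChevalleyStructure.RootVec Cfsg.Agent.ChevalleyStructure.NPerm
  Cfsg.Agent.ChevalleyStructure.CoxeterGeomTypes Cfsg.Agent.Nodes.RGDChev Cfsg.Agent.KFacts.RgdChevCoord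
open Cfsg.Agent.FixBN.FieldRGD (uu vv dd ww)
open Cfsg.Agent.TitsThree.KExcRT Cfsg.Agent.AGraded
open Cfsg.Agent.H482.Ore.Fix (Bk SimpB wt NF.of_pow nf_block')
open Cfsg.Agent.H78.Pw Cfsg.Agent.H85.Pw Cfsg.Agent.H194.Pw
open Cfsg.Agent.H150.E6T (le_of_gen)
open Cfsg.Agent.H162.GaussExc (coord)
open scoped MatrixGroups

universe u

/-! ### The blocks -/

section

variable {D : ChevalleyDatum} {l : ℕ} {M : CoxeterMatrix (Fin l)} (hp : IsType D l M) (K : Type u) [Field K]

/-- a product of blocks of the Levi subgroup of `J`, which contains the root subgroups of the roots in `Q` -/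
structure Pc (J : Set (Fin l)) {G : Type*} [Group G] (φ : G →* ↥(D.group K)) (L U : Subgroup G) (Q : ℕ → Prop) :
    Prop where
  mem : ∀ x, φ x ∈ LJ M.toCoxeterSystem hp.isCartan (TT D K) (XX D l K) J
  up : ∀ q < D.nroots, Q q → (∀ k, 0 ≤ vec D l q k) → ∀ c : K, ∃ u ∈ U, φ u = xc hp (vec D l q) c
  lo : ∀ q < D.nroots, Q q → (∀ k, vec D l q k ≤ 0) → ∀ c : K, ∃ u ∈ L, φ u = xc hp (vec D l q) c

variable {hp K} {J : Set (Fin l)}

theorem Pc.prod {G₁ G₂ : Type*} [Group G₁] [Group G₂] {φ₁ : G₁ →* ↥(D.group K)} {φ₂ : G₂ →* ↥(D.group K)}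
    {L₁ U₁ : Subgroup G₁} {L₂ U₂ : Subgroup G₂} {Q₁ Q₂ : ℕ → Prop} (h₁ : Pc hp K J φ₁ L₁ U₁ Q₁)
    (h₂ : Pc hp K J φ₂ L₂ U₂ Q₂) (hc : ∀ x y, Commute (φ₁ x) (φ₂ y)) :
    Pc hp K J (φ₁.noncommCoprod φ₂ hc) (L₁.prod L₂) (U₁.prod U₂) (fun q => Q₁ q ∨ Q₂ q) where
  mem := fun x => mul_mem (h₁.mem x.1) (h₂.mem x.2)
  up := by
    rintro q hq (hQ | hQ) hv c
    · obtain ⟨u, hu, e⟩ := h₁.up q hq hQ hv c
      exact ⟨(u, 1), ⟨hu, one_mem _⟩, by rw [MonoidHom.noncommCoprod_apply, map_one, mul_one]; exact e⟩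
    · obtain ⟨u, hu, e⟩ := h₂.up q hq hQ hv c
      exact ⟨(1, u), ⟨one_mem _, hu⟩, by rw [MonoidHom.noncommCoprod_apply, map_one, one_mul]; exact e⟩
  lo := by
    rintro q hq (hQ | hQ) hv c
    · obtain ⟨u, hu, e⟩ := h₁.lo q hq hQ hv c
      exact ⟨(u, 1), ⟨hu, one_mem _⟩, by rw [MonoidHom.noncommCoprod_apply, map_one, mul_one]; exact e⟩
    · obtain ⟨u, hu, e⟩ := h₂.lo q hq hQ hv c
      exact ⟨(1, u), ⟨one_mem _, hu⟩, by rw [MonoidHom.noncommCoprod_apply, map_one, one_mul]; exact e⟩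

/-- a block -/
theorem Pc.block {n : ℕ} {r : Fin (n + 2) → Fin (n + 2) → ℕ} {s : Fin (n + 2) → Fin (n + 2) → ℤ}
    {φ : Matrix.SpecialLinearGroup (Fin (n + 2)) K →* ↥(D.group K)}
    (hφ : ∀ a b (hab : a ≠ b) c, φ (Matrix.SpecialLinearGroup.transvection hab c) =
      xc hp (vec D l (r a b)) ((s a b : K) * c))
    (hr : ∀ a b, a ≠ b → r a b < D.nroots) (hJ : ∀ a b, a ≠ b → ∀ k, k ∉ J → vec D l (r a b) k = 0)
    (hs : ∀ a b, s a b * s a b = 1) :
    Pc hp K J φ (LT (n + 2) K) (UT (n + 2) K) (fun q => ∃ a b : Fin (n + 2), a ≠ b ∧ r a b = q ∧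
      (a < b → ∃ k, 0 < vec D l q k) ∧ (b < a → ∃ k, vec D l q k < 0)) where
  mem := by
    refine le_of_gen _ _ fun a b hab c => ?_
    rw [hφ]
    exact X_le_LJ (J := J) (x := vec D l (r a b)) ⟨isRoot_vec hp _ (hr a b hab), hJ a b hab⟩
      ((mem_XX hp (hr a b hab) _).2 ⟨_, rfl⟩)
  up := by
    rintro q hq ⟨a, b, hab, rfl, h1, h2⟩ hv c
    have hlt : a < b := by
      rcases lt_or_gt_of_ne hab with h | h
      · exact h
      · obtain ⟨k, hk⟩ := h2 h
        exact absurd hk (not_lt.2 (hv k))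
    refine ⟨Matrix.SpecialLinearGroup.transvection hab ((s a b : K) * c), tv_mem_UT hab hlt _, ?_⟩
    rw [hφ, ← mul_assoc, ← Int.cast_mul, hs, Int.cast_one, one_mul]
  lo := by
    rintro q hq ⟨a, b, hab, rfl, h1, h2⟩ hv c
    have hlt : b < a := by
      rcases lt_or_gt_of_ne hab with h | h
      · obtain ⟨k, hk⟩ := h1 h
        exact absurd hk (not_lt.2 (hv k))
      · exact h
    refine ⟨Matrix.SpecialLinearGroup.transvection hab ((s a b : K) * c), tv_mem_LT hab hlt _, ?_⟩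
    rw [hφ, ← mul_assoc, ← Int.cast_mul, hs, Int.cast_one, one_mul]

section

variable {G : Type*} [Group G] {φ : G →* ↥(D.group K)} {L U : Subgroup G} {Q : ℕ → Prop} (h : Pc hp K J φ L U Q)
  (hQ : ∀ q < D.nroots, (∀ k, k ∉ J → vec D l q k = 0) → Q q)

include h hQ

theorem Pc.exists_up {u : ↥(D.group K)} (hu : u ∈ UJ M.toCoxeterSystem hp.isCartan (XX D l K) J) :
    ∃ x ∈ U, φ x = u := by
  have h1 : UJ M.toCoxeterSystem hp.isCartan (XX D l K) J ≤ U.map φ := by
    refine RGD.Sup_le fun x hx => ?_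
    obtain ⟨q, hq, rfl⟩ := (isRoot_iff hp _ x).1 hx.1
    intro y hy
    obtain ⟨c, rfl⟩ := (mem_XX hp hq y).1 hy
    obtain ⟨v, hv, e⟩ := h.up q hq (hQ q hq hx.2.2) hx.2.1 c
    exact ⟨v, hv, e⟩
  exact h1 hu

theorem Pc.exists_lo {u : ↥(D.group K)} (hu : u ∈ UNJ M.toCoxeterSystem hp.isCartan (XX D l K) J) :
    ∃ x ∈ L, φ x = u := by
  have h1 : UNJ M.toCoxeterSystem hp.isCartan (XX D l K) J ≤ L.map φ := by
    refine RGD.Sup_le fun x hx => ?_
    obtain ⟨q, hq, hqx⟩ := (isRoot_iff hp M.toCoxeterSystem x).1 (by have := hx.1.neg; rwa [_root_.neg_neg] at this)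
    subst hqx
    intro y hy
    obtain ⟨c, rfl⟩ := (mem_XX hp hq y).1 hy
    obtain ⟨v, hv, e⟩ := h.lo q hq (hQ q hq fun k hk => by
      have := hx.2.2 k hk
      rw [Pi.neg_apply] at this
      exact neg_eq_zero.1 this) (fun k => by
      have := hx.2.1 k
      rw [Pi.neg_apply] at this
      exact neg_nonneg.1 this) c
    exact ⟨v, hv, e⟩
  exact h1 hu

/-- **Every element is a product of two good elements.** -/
theorem Pc.pairs [Finite K] (hl : 0 < l) (hS : IsSimpleGroup ↥(D.group K) ∧ ¬ IsMulCommutative ↥(D.group K))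
    (hM : ∀ J : Finset (Fin l), J = ∅ ∨ J = Finset.univ ∨ ∃ a ∈ J, ∃ b, b ∉ J ∧ M a b ≠ 2) {Good : G → Prop} {N : ℕ}
    (hP : ∀ v ∈ L, ∀ u ∈ U, ∃ x y, v * u = x * y ∧ Good x ∧ Good y)
    (hnf : ∀ x, Good x → NF (VJ M.toCoxeterSystem hp.isCartan (XX D l K) J) (φ x) ∧
      NF (VNJ M.toCoxeterSystem hp.isCartan (XX D l K) J) (φ x))
    (hN : ∀ x, Good x → x ^ N = 1) (g : ↥(D.group K)) : ∃ a b : ↥(D.group K), g = a * b ∧ a ^ N = 1 ∧ b ^ N = 1 := by
  obtain ⟨p, hpc⟩ := CharP.exists K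
  have : Fact p.Prime := ⟨(CharP.char_is_prime_or_zero K p).resolve_right (CharP.char_ne_zero_of_finite K p)⟩
  have := finite_W hp M.toCoxeterSystem
  have : Nonempty (Fin l) := ⟨⟨0, hl⟩⟩
  by_cases hg : g = 1
  · exact ⟨1, 1, by rw [hg]; simp, one_pow _, one_pow _⟩
  obtain ⟨c₁, c₂, x, y, ⟨h3, h4⟩, e⟩ := pair (rgd (K := K) hp M.toCoxeterSystem p) (G1_eq_top hp _)
    (coord hp) (Cfsg.Agent.Nodes.ChevChart.irr_of hM) (J := J)
    (Pr := fun c₁ c₂ : ↥(D.group K) => c₁ ^ N = 1 ∧ c₂ ^ N = 1)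
    (fun v hv u hu => by
      obtain ⟨a, ha, rfl⟩ := h.exists_lo hQ hv
      obtain ⟨b, hb, rfl⟩ := h.exists_up hQ hu
      obtain ⟨x, y, hxy, hx, hy⟩ := hP a ha b hb
      refine ⟨φ x, φ y, by rw [← map_mul, hxy, map_mul], ⟨h.mem _, h.mem _, (hnf x hx).2, (hnf y hy).1⟩, ?_, ?_⟩
      · rw [← map_pow, hN x hx, map_one]
      · rw [← map_pow, hN y hy, map_one])
    (Cfsg.Agent.H224.Ore.Row.not_mem_core hl hS.1 p hp hg)
  exact ⟨_, _, e, by rw [conj_pow, h3, mul_one, mul_inv_cancel], by rw [conj_pow, h4, mul_one, mul_inv_cancel]⟩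

end

end

/-! ### A common field -/

section field

open Polynomial Matrix

/-- the spectrum in a field which contains a root -/
theorem spec_of_root {K : Type u} [Field K] [Finite K] {n : ℕ} {x : Matrix.SpecialLinearGroup (Fin n) K}
    (h : Irreducible (x : Matrix (Fin n) (Fin n) K).charpoly) (K' : Type u) [Field K'] [Finite K'] [Algebra K K'] {z : K'}
    (hz : aeval z (x : Matrix (Fin n) (Fin n) K).charpoly = 0) :
    Spec (algebraMap K K') n (x : Matrix (Fin n) (Fin n) K).charpoly z := by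
  classical
  have := Fintype.ofFinite K
  obtain ⟨f, hf⟩ : ∃ f, f = (x : Matrix (Fin n) (Fin n) K).charpoly := ⟨_, rfl⟩
  rw [← hf] at h hz ⊢
  have hm : f.Monic := hf ▸ Matrix.charpoly_monic _
  have hd : f.natDegree = n := by rw [hf, Matrix.charpoly_natDegree_eq_dim, Fintype.card_fin]
  have hmin : minpoly K z = f := (minpoly.eq_of_irreducible_of_monic h hz hm).symm
  have hdm : (minpoly K z).natDegree = n := by rw [hmin, hd]
  have hcard : Fintype.card K = Nat.card K := (Nat.card_eq_fintype_card).symm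
  have hinj : Function.Injective fun a : Fin n => z ^ (Nat.card K ^ (a : ℕ)) := by
    have := Cfsg.Agent.H934.MF.pow_inj hdm
    rwa [hcard] at this
  have hroot : ∀ a : ℕ, (f.map (algebraMap K K')).IsRoot (z ^ (Nat.card K ^ a)) := by
    intro a
    rw [IsRoot.def, eval_map_algebraMap, ← hcard]
    exact Cfsg.Agent.H934.MF.root_pow hz a
  have hsplit : f.map (algebraMap K K') = ∏ a : Fin n, (X - C (z ^ (Nat.card K ^ (a : ℕ)))) := by
    have h1 : (∏ a : Fin n, (X - C (z ^ (Nat.card K ^ (a : ℕ))))) ∣ f.map (algebraMap K K') := by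
      refine Finset.prod_dvd_of_coprime ?_ fun a _ => dvd_iff_isRoot.2 (hroot a)
      intro a _ b _ hab
      exact isCoprime_X_sub_C_of_isUnit_sub (sub_ne_zero.2 (fun h => hab (hinj h))).isUnit
    have h2 : (∏ a : Fin n, (X - C (z ^ (Nat.card K ^ (a : ℕ))))).Monic :=
      monic_prod_of_monic _ _ fun a _ => monic_X_sub_C _
    have h3 : (∏ a : Fin n, (X - C (z ^ (Nat.card K ^ (a : ℕ))))).natDegree = n := by
      rw [natDegree_prod_of_monic _ _ fun a _ => monic_X_sub_C _, Finset.sum_congr rfl fun a _ => natDegree_X_sub_C _]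
      simp
    refine (eq_of_monic_of_dvd_of_natDegree_le h2 (hm.map _) h1 ?_)
    rw [h3, natDegree_map, hd]
  refine ⟨hinj, hsplit, ?_, ?_⟩
  · -- `z ^ (q ^ n)` is a root, hence one of the roots
    have h1 := hroot n
    rw [hsplit, IsRoot.def, eval_prod, Finset.prod_eq_zero_iff] at h1
    obtain ⟨a, -, ha⟩ := h1
    rw [eval_sub, eval_X, eval_C, sub_eq_zero] at ha
    by_cases h0 : (a : ℕ) = 0
    · rw [h0, pow_zero, pow_one] at ha
      exact ha
    · exfalso
      -- apply the Frobenius map `n - a` times: `z ^ (q ^ (n - a)) = z`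
      have hn : (a : ℕ) < n := a.2
      have h2 : (z ^ (Nat.card K ^ (n - (a : ℕ)))) ^ (Nat.card K ^ (a : ℕ)) = z ^ (Nat.card K ^ (a : ℕ)) := by
        rw [← pow_mul, ← pow_add, Nat.sub_add_cancel hn.le, ha]
      obtain ⟨p, hpc⟩ := CharP.exists K
      have hpp : Fact p.Prime := ⟨(CharP.char_is_prime_or_zero K p).resolve_right (CharP.char_ne_zero_of_finite K p)⟩
      have hpK : CharP K' p := charP_of_injective_algebraMap (algebraMap K K').injective p
      obtain ⟨m, -, hm'⟩ := FiniteField.card K p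
      have hinj' : Function.Injective fun w : K' => w ^ (Nat.card K ^ (a : ℕ)) := by
        rw [Nat.card_eq_fintype_card, hm', ← pow_mul]
        exact iterateFrobenius_inj K' p _
      have h3 : z ^ (Nat.card K ^ (n - (a : ℕ))) = z := hinj' h2
      have h4 := @hinj ⟨n - a, by omega⟩ ⟨0, by omega⟩ (by
        change z ^ (Nat.card K ^ (n - (a : ℕ))) = z ^ (Nat.card K ^ 0)
        rw [h3, pow_zero, pow_one])
      have h5 := congrArg Fin.val h4
      simp only at h5
      omega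
  · have h1 : ((x : Matrix (Fin n) (Fin n) K).map (algebraMap K K')).det = 1 := by
      have h2 : ((x : Matrix (Fin n) (Fin n) K).map (algebraMap K K')).det =
          algebraMap K K' (x : Matrix (Fin n) (Fin n) K).det :=
        (RingHom.map_det _ _).symm
      rw [h2, Matrix.SpecialLinearGroup.det_coe, map_one]
    rw [Matrix.det_eq_sign_charpoly_coeff, Matrix.charpoly_map, ← hf, hsplit, coeff_zero_eq_eval_zero, eval_prod] at h1
    simp only [eval_sub, eval_X, eval_C, zero_sub] at h1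
    have h2 : ∀ a : Fin n, -(z ^ (Nat.card K ^ (a : ℕ))) = (-1) * z ^ (Nat.card K ^ (a : ℕ)) := fun a => neg_eq_neg_one_mul _
    rw [Finset.prod_congr rfl fun a _ => h2 a, Finset.prod_mul_distrib, Finset.prod_const, Finset.card_univ,
      Fintype.card_fin, ← mul_assoc, ← mul_pow, neg_one_mul, _root_.neg_neg, one_pow, one_mul] at h1
    rw [Finset.prod_pow_eq_pow_sum] at h1
    rwa [Fin.sum_univ_eq_sum_range (fun a => Nat.card K ^ a) n] at h1

/-- a finite extension in which a polynomial splits -/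
theorem exists_split {K : Type u} [Field K] [Finite K] (f : K[X]) :
    ∃ (K' : Type u) (_ : Field K') (_ : Finite K') (_ : Algebra K K'), Splits (f.map (algebraMap K K')) :=
  ⟨f.SplittingField, inferInstance, Module.finite_of_finite K, inferInstance, SplittingField.splits f⟩

/-- **A common field** of three matrices. -/
theorem exists_common {K : Type u} [Field K] [Finite K] {a b c : ℕ}
    (x : Matrix.SpecialLinearGroup (Fin a) K) (y : Matrix.SpecialLinearGroup (Fin b) K)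
    (z : Matrix.SpecialLinearGroup (Fin c) K) (hx : Irreducible (x : Matrix (Fin a) (Fin a) K).charpoly)
    (hy : Irreducible (y : Matrix (Fin b) (Fin b) K).charpoly) (hz : Irreducible (z : Matrix (Fin c) (Fin c) K).charpoly) :
    ∃ (K' : Type u) (_ : Field K') (_ : Finite K') (i : K →+* K') (u v w : K'),
      Spec i a (x : Matrix (Fin a) (Fin a) K).charpoly u ∧ Spec i b (y : Matrix (Fin b) (Fin b) K).charpoly v ∧
      Spec i c (z : Matrix (Fin c) (Fin c) K).charpoly w := by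
  classical
  obtain ⟨f, hf⟩ : ∃ f, f = (x : Matrix (Fin a) (Fin a) K).charpoly * ((y : Matrix (Fin b) (Fin b) K).charpoly *
    (z : Matrix (Fin c) (Fin c) K).charpoly) := ⟨_, rfl⟩
  have hf0 : f ≠ 0 := by
    rw [hf]
    exact mul_ne_zero hx.ne_zero (mul_ne_zero hy.ne_zero hz.ne_zero)
  obtain ⟨K', _, hfin, _, hs⟩ := exists_split f
  have hf1 : f.map (algebraMap K K') ≠ 0 := (Polynomial.map_ne_zero_iff (algebraMap K K').injective).2 hf0
  have key : ∀ g : K[X], g ∣ f → Irreducible g → ∃ r : K', aeval r g = 0 := by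
    intro g hg hirr
    have h1 : Splits (g.map (algebraMap K K')) := hs.of_dvd hf1 (map_dvd (mapRingHom (algebraMap K K')) hg)
    obtain ⟨r, hr⟩ := h1.exists_eval_eq_zero (by
      rw [degree_map]
      exact (hirr.degree_pos).ne')
    exact ⟨r, by rw [← eval_map_algebraMap]; exact hr⟩
  obtain ⟨u, hu⟩ := key _ (hf ▸ dvd_mul_right _ _) hx
  obtain ⟨v, hv⟩ := key _ (hf ▸ (dvd_mul_right _ _).mul_left _) hy
  obtain ⟨w, hw⟩ := key _ (hf ▸ (dvd_mul_left _ _).mul_left _) hz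
  exact ⟨K', inferInstance, hfin, algebraMap K K', u, v, w, spec_of_root hx _ hu, spec_of_root hy _ hv,
    spec_of_root hz _ hw⟩

end field

end Cfsg.Agent.H122.Pw
end
end
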